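import Mathlib.FieldTheory.Finite.GaloisField
import Mathlib.LinearAlgebra.Matrix.ProjectiveSpecialLinearGroup

set_option autoImplicit false

/-! `PSL(n, K)` depends only on the isomorphism class of the field. -/

namespace H21.PSLTransport

open Matrix

theorem map_center {G H : Type*} [Group G] [Group H] (e : G ≃* H) :
    (Subgroup.center G).map (e : G →* H) = Subgroup.center H := by
  ext y
  rw [Subgroup.mem_map]
  constructor
  · rintro ⟨x, hx, rfl⟩
    rw [Subgroup.mem_center_iff] at hx ⊢
    intro g
    obtain ⟨h, rfl⟩ := e.surjective g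
    change e h * e x = e x * e h
    rw [← map_mul, hx h, map_mul]
  · intro hy
    obtain ⟨x, rfl⟩ := e.surjective y
    refine ⟨x, ?_, rfl⟩
    rw [Subgroup.mem_center_iff] at hy ⊢
    intro g
    apply e.injective
    rw [map_mul, map_mul]
    exact hy (e g)

theorem sl_congr {K L : Type*} [Field K] [Field L] (e : K ≃+* L) (n : Type*) [Fintype n]
    [DecidableEq n] : Nonempty (SpecialLinearGroup n K ≃* SpecialLinearGroup n L) := by
  refine ⟨{ toFun := SpecialLinearGroup.map (e : K →+* L)
            invFun := SpecialLinearGroup.map (e.symm : L →+* K)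
            left_inv := ?_
            right_inv := ?_
            map_mul' := fun a b => map_mul _ a b }⟩
  · intro g
    ext i j
    simp
  · intro g
    ext i j
    simp

theorem psl_congr {K L : Type*} [Field K] [Field L] (e : K ≃+* L) (n : Type*) [Fintype n]
    [DecidableEq n] : Nonempty (ProjectiveSpecialLinearGroup n K ≃* ProjectiveSpecialLinearGroup n L) := by
  obtain ⟨f⟩ := sl_congr e n
  exact ⟨QuotientGroup.congr _ _ f (map_center f)⟩

theorem psl_congr_card {K L : Type*} [Field K] [Field L] [Fintype K] [Fintype L]
    (h : Fintype.card K = Fintype.card L) (n : Type*) [Fintype n]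
    [DecidableEq n] : Nonempty (ProjectiveSpecialLinearGroup n K ≃* ProjectiveSpecialLinearGroup n L) :=
  psl_congr (FiniteField.ringEquivOfCardEq h) n

end H21.PSLTransport
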