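import Cfsg.Agent.Lib.H39.DBA2a
import Cfsg.Agent.Lib.H21.BA2d
import Cfsg.Agent.Lib.H21.BA2cb
import Cfsg.Agent.Lib.H28.PslD8
import Cfsg.Agent.Lib.H59.DBA2n
import Cfsg.Agent.Lib.H59.DBA2p
import Cfsg.Agent.Lib.H59.BA2r
import Cfsg.Agent.S0483

/-!
S3219, piece BA2: assembly.
-/

set_option autoImplicit false
set_option linter.unusedSectionVars false
open MulAction
universe u v
namespace H21.BA2z
open H39.DA H39.DA.BA2

variable {G : Type u} {Ω : Type v} [Group G] [Finite G] [MulAction G Ω] [Finite Ω]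

/-- a nontrivial normal subgroup is transitive -/
theorem dvd_card (h : TT G Ω) (R : Subgroup G) (hR : R.Normal) (hne : R ≠ ⊥) : Nat.card Ω ∣ Nat.card R := by
  obtain ⟨r', hr'⟩ := Subgroup.ne_bot_iff_exists_ne_one.1 hne
  obtain ⟨r, hr, hr1⟩ : ∃ r : G, r ∈ R ∧ r ≠ 1 := ⟨(r' : G), r'.2, fun h1 => hr' (Subtype.ext h1)⟩
  obtain ⟨x, hx⟩ : ∃ x : Ω, r • x ≠ x := by
    by_contra hcon
    push Not at hcon
    exact hr1 (h.faith r hcon)
  have htr : ∀ y : Ω, ∃ g : R, g • x = y := by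
    intro y
    by_cases hy : y = x
    · exact ⟨1, by rw [one_smul, hy]⟩
    · obtain ⟨g, hg1, hg2⟩ := h.tr x (r • x) x y (Ne.symm hx) (Ne.symm hy)
      refine ⟨⟨g * r * g⁻¹, hR.conj_mem r hr g⟩, ?_⟩
      show (g * r * g⁻¹) • x = y
      have h1 : g⁻¹ • x = x := by rw [inv_smul_eq_iff, hg1]
      rw [mul_smul, mul_smul, h1, hg2]
  have h2 : (orbit R x) = Set.univ := by
    ext y
    simp only [Set.mem_univ, iff_true]
    obtain ⟨g, hg⟩ := htr y
    exact ⟨g, hg⟩
  have h3 := index_stabilizer R x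
  rw [h2, Set.ncard_univ] at h3
  rw [← h3]
  exact Subgroup.index_dvd_card _

theorem main (h : B4 G Ω) {a b : Ω} (hab : a ≠ b) {t : G} (ht : Inv t) (hts : t ∈ St G a b) (hA : CaseA4 a b t)
    (hm : fS G Ω (VV a b t) = fx G Ω t) (ho : Odd (fx G Ω t)) : Nat.card Ω = 15 ∧ Nonempty (G ≃* alternatingGroup (Fin 7)) := by
  have hconj : ∀ {s : G}, Inv s → IsConj t s := fun {s} hs => all_conj h hab ht hts hA hs
  obtain ⟨hn, -⟩ := nums h hab ht hts hA
  have hcent := cent_le h hab ht hts hm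
  obtain ⟨hG, -, -, -, -, -⟩ := count4 h hab ht hts
  obtain ⟨hV4, hVsq, hVc, -⟩ := vfacts4 h hab ht hts
  obtain ⟨-, -, σ, ρ, v, hv, hσ, hσa, hσb, hσt, hσv, hσ2, -, -, -, -, hσn, -⟩ := hA
  have hf := f_mod h hab ht hts hv hσ hσa hσt hσv hσn hm ho
  have hv1 : v ≠ 1 := by rintro rfl; exact hσv (by rw [mul_one, one_mul])
  have hvt : v ≠ t := by rintro rfl; exact hσv hσt
  have htV : t ∈ VV a b t := ⟨hts, Subgroup.mem_centralizer_singleton_iff.2 rfl⟩
  have hvI : Inv v := ⟨hv1, hVsq v hv⟩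
  have hvtc : v * t = t * v := hVc v hv t htV
  have hvt1 : v * t ≠ 1 := fun h1 => hvt (by
    calc v = v * t * t := by rw [mul_assoc, ht.2, mul_one]
      _ = t := by rw [h1, one_mul])
  have hvtI : Inv (v * t) := ⟨hvt1, hVsq _ (mul_mem hv htV)⟩
  -- fixed points
  have hfxc : ∀ s : G, IsConj t s → fx G Ω s = fx G Ω t := by
    intro s hs
    obtain ⟨g, rfl⟩ := isConj_iff.1 hs
    symm
    refine Nat.card_congr ⟨fun x => ⟨g • (x : Ω), ?_⟩, fun x => ⟨g⁻¹ • (x : Ω), ?_⟩, fun x => ?_, fun x => ?_⟩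
    · rw [mul_smul, mul_smul, inv_smul_smul, x.2]
    · have := x.2
      rw [mul_smul, mul_smul] at this
      rw [eq_inv_smul_iff]; exact this
    · exact Subtype.ext (inv_smul_smul g (x : Ω))
    · exact Subtype.ext (smul_inv_smul g (x : Ω))
  have hfixV : ∀ s ∈ VV a b t, Inv s → ∀ x : Ω, s • x = x → ∀ w ∈ VV a b t, w • x = x := by
    intro s hs hsI x hx
    have h1 : fx G Ω s = fS G Ω (VV a b t) := by rw [hfxc s (hconj hsI), hm]
    have h2 : {x : Ω | ∀ g ∈ VV a b t, g • x = x} = {x : Ω | s • x = x} := by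
      have hsub : {x : Ω | ∀ g ∈ VV a b t, g • x = x} ⊆ {x : Ω | s • x = x} := fun y (hy : ∀ g ∈ VV a b t, g • y = y) => hy s hs
      apply Set.eq_of_subset_of_ncard_le hsub _ (Set.toFinite _)
      have e1 : {x : Ω | s • x = x}.ncard = fx G Ω s := rfl
      have e2 : {x : Ω | ∀ g ∈ VV a b t, g • x = x}.ncard = fS G Ω (VV a b t) := rfl
      rw [e1, e2, h1]
    have h3 : x ∈ {x : Ω | ∀ g ∈ VV a b t, g • x = x} := by rw [h2]; exact hx
    exact h3
  have hO : ∀ N : Subgroup G, N.Normal → Odd (Nat.card N) → N = ⊥ :=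
    H21.BA2cb.core_bot h.toTT hvI ht hvtc hvt hv.1.1 hts.1 (fun x hx => hfixV v hv hvI x hx t htV)
      (fun x hx => hfixV t htV ht x hx v hv) (fun x hx => hfixV (v * t) (mul_mem hv htV) hvtI x hx t htV)
  -- arithmetic
  obtain ⟨c, hc⟩ : ∃ c, fx G Ω t = 4 * c + 3 := ⟨fx G Ω t / 4, by omega⟩
  have hn' : Nat.card Ω = (4 * c + 3) * (8 * c + 5) := by
    rw [hn, hc]; congr 1; omega
  have hno : Odd (Nat.card Ω) := by
    rw [hn']; exact Odd.mul ⟨2 * c + 1, by ring⟩ ⟨4 * c + 2, by ring⟩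
  have h16G : ¬ 16 ∣ Nat.card G := by
    rw [hG, hn']
    have e1 : (4 * c + 3) * (8 * c + 5) - 1 = 2 * (16 * c * c + 22 * c + 7) := by
      have : (4 * c + 3) * (8 * c + 5) = 2 * (16 * c * c + 22 * c + 7) + 1 := by ring
      omega
    rw [e1]
    rintro ⟨k, hk⟩
    have e2 : 12 * ((4 * c + 3) * (8 * c + 5) * (2 * (16 * c * c + 22 * c + 7))) =
        24 * (2 * ((4 * c + 3) * (8 * c + 5) * (8 * c * c + 11 * c + 3) + (16 * c * c + 22 * c + 7)) + 1) := by ring
    omega
  have hns : ¬ Group.IsSolvable G := H59.BA2.not_solvable h.toTT hno hO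
  obtain ⟨R, hRn, hRne, hRp⟩ := H59.BA2.exists_perfect hns
  have hReven : Even (Nat.card R) := by
    rw [← Nat.not_odd_iff_even]
    exact fun h1 => hRne (hO R hRn h1)
  have hRinv : ∀ s : G, Inv s → s ∈ R := by
    intro s hs
    obtain ⟨y, hy⟩ := exists_prime_orderOf_dvd_card' (G := R) 2 hReven.two_dvd
    have hyI : Inv (y : G) := by
      have h1 : y ^ 2 = 1 := by rw [← hy]; exact pow_orderOf_eq_one y
      rw [pow_two] at h1
      refine ⟨fun h2 => ?_, congrArg Subtype.val h1⟩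
      have : y = 1 := Subtype.ext h2
      rw [this, orderOf_one] at hy
      norm_num at hy
    obtain ⟨g, hg⟩ := isConj_iff.1 ((hconj hyI).symm.trans (hconj hs))
    rw [← hg]
    exact hRn.conj_mem _ y.2 g
  have htR := hRinv t ht
  have hvR := hRinv v hvI
  have hσR := hRinv σ hσ
  have h16R : ¬ 16 ∣ Nat.card R := fun h1 => h16G (h1.trans (Subgroup.card_subgroup_dvd_card R))
  -- the element of order 4
  have hσi : σ⁻¹ = σ := inv_eq_of_mul_eq_one_left hσ.2
  have hvi : v⁻¹ = v := inv_eq_of_mul_eq_one_left hvI.2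
  have hvσ : v * σ = σ * t * v := by rw [← hσ2, inv_mul_cancel_right]
  have hww : (σ * v) * (σ * v) = t := by
    calc (σ * v) * (σ * v) = σ * (v * σ) * v := by group
      _ = (σ * σ) * t * (v * v) := by rw [hvσ]; group
      _ = t := by rw [hσ.2, hvI.2, one_mul, mul_one]
  have hw4 : orderOf (σ * v) = 2 ^ (1 + 1) := by
    apply orderOf_eq_prime_pow
    · rw [pow_one, pow_two, hww]; exact ht.1
    · calc (σ * v) ^ (2 ^ (1 + 1)) = ((σ * v) * (σ * v)) * ((σ * v) * (σ * v)) := by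
            norm_num [pow_succ, mul_assoc]
        _ = 1 := by rw [hww, ht.2]
  have hrel : σ * (σ * v) * σ⁻¹ = (σ * v)⁻¹ := by
    rw [mul_inv_rev, ← mul_assoc, hσ.2, one_mul, hvi]
  have hdG : ∀ P : Sylow 2 G, Nonempty ((P : Subgroup G) ≃* DihedralGroup 4) := fun P =>
    H21.BA2.dih h16G (r := σ * v) (s := σ) (by rw [hw4]; norm_num) hσ.2 hσ.1 hrel P
  have hdR : ∀ P : Sylow 2 R, Nonempty ((P : Subgroup R) ≃* DihedralGroup 4) := fun P =>
    H21.BA2.dih h16R (r := ⟨σ, hσR⟩ * ⟨v, hvR⟩) (s := ⟨σ, hσR⟩)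
      (by
        have := Subgroup.orderOf_mk (H := R) (σ * v) (mul_mem hσR hvR)
        rw [hw4] at this
        rw [show (⟨σ, hσR⟩ * ⟨v, hvR⟩ : R) = ⟨σ * v, mul_mem hσR hvR⟩ from rfl, this]; norm_num)
      (Subtype.ext hσ.2) (fun h1 => hσ.1 (congrArg Subtype.val h1)) (Subtype.ext hrel) P
  have hnR := dvd_card h.toTT R hRn hRne
  -- O(R) = 1
  have hOR : Cfsg.oddCore R = ⊥ := by
    haveI := hRn
    haveI hch : (Cfsg.oddCore R).Characteristic := H1.Cores.pPrimeCore_characteristic 2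
    have h1 : ((Cfsg.oddCore R).map R.subtype).Normal := inferInstance
    have h2 : Odd (Nat.card (Cfsg.oddCore R)) := by
      have h2 : (Nat.card (Cfsg.pPrimeCore 2 R)).Coprime 2 := H1.Cores.coprime_card_pPrimeCore 2
      rwa [Nat.coprime_comm, Nat.coprime_two_left] at h2
    have h3 := hO _ h1 (by rw [Subgroup.card_map_of_injective R.subtype_injective]; exact h2)
    exact (Subgroup.map_eq_bot_iff_of_injective _ R.subtype_injective).1 h3
  have hCR : Subgroup.centralizer (R : Set G) = ⊥ := by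
    haveI := hRn
    have hCn : (Subgroup.centralizer (R : Set G)).Normal := inferInstance
    apply hO _ hCn
    rw [← Nat.not_even_iff_odd]
    intro hev
    obtain ⟨y, hy⟩ := exists_prime_orderOf_dvd_card' (G := Subgroup.centralizer (R : Set G)) 2 hev.two_dvd
    have hyI : Inv (y : G) := by
      have h1 : y ^ 2 = 1 := by rw [← hy]; exact pow_orderOf_eq_one y
      rw [pow_two] at h1
      refine ⟨fun h2 => ?_, congrArg Subtype.val h1⟩
      have : y = 1 := Subtype.ext h2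
      rw [this, orderOf_one] at hy
      norm_num at hy
    obtain ⟨g, hg⟩ := isConj_iff.1 ((hconj hyI).symm.trans (hconj hσ))
    have h1 : σ ∈ Subgroup.centralizer (R : Set G) := by
      rw [← hg]; exact hCn.conj_mem _ y.2 g
    exact hσv ((Subgroup.mem_centralizer_iff.1 h1) v hvR).symm
  obtain ⟨P⟩ : Nonempty (Sylow 2 R) := inferInstance
  haveI : Group.IsPerfect R := hRp
  have h8R : 8 ∣ Nat.card R := by
    obtain ⟨e⟩ := hdR P
    have h1 : Nat.card (P : Subgroup R) = 8 := by rw [Nat.card_congr e.toEquiv, DihedralGroup.nat_card]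
    rw [← h1]; exact Subgroup.card_subgroup_dvd_card _
  rcases Cfsg.Agent.S0483.result P 4 (by norm_num) (hdR P) with ⟨F, _, _, hFo, hF3, ⟨e⟩⟩ | he
  · exfalso
    let e0 : R ≃* R ⧸ Cfsg.oddCore R := ((QuotientGroup.quotientMulEquivOfEq hOR).trans (QuotientGroup.quotientBot)).symm
    have e1 := e0.trans e
    have hq := H28.PslD8.elim (R := R) hFo e1 h8R (t := ⟨t, htR⟩) (fun h1 => ht.1 (congrArg Subtype.val h1)) (Subtype.ext ht.2)
      (V := (VV a b t).subgroupOf R) ?_ ?_ ?_ ?_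
    · rcases hq with hq | hq
      · refine H59.BA2.case_168 R ?_ hf hn hnR
        rw [Nat.card_congr e1.toEquiv, H59.BA2.card_psl7 hq]
      · haveI := hRn
        refine H59.BA2.case_360 R ?_ hCR hf hn hnR hG ?_
        · rw [Nat.card_congr e1.toEquiv, H59.BA2.card_psl9 hq]
        · intro S hS
          obtain ⟨eS⟩ := hdG S
          have h1 := congrArg eS (Subtype.ext (hS _ (eS.symm (DihedralGroup.r 1)).2 _ (eS.symm (DihedralGroup.sr 0)).2) :
            eS.symm (DihedralGroup.r 1) * eS.symm (DihedralGroup.sr 0) = eS.symm (DihedralGroup.sr 0) * eS.symm (DihedralGroup.r 1))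
          rw [map_mul, map_mul, MulEquiv.apply_symm_apply, MulEquiv.apply_symm_apply] at h1
          exact absurd h1 (by decide)
    · have hVR : VV a b t ≤ R := by
        intro w hw
        by_cases hw1 : w = 1
        · rw [hw1]; exact one_mem _
        · exact hRinv w ⟨hw1, hVsq w hw⟩
      rw [Nat.card_congr (Subgroup.subgroupOfEquivOfLe hVR).toEquiv, hV4]
    · intro w hw
      exact Subtype.ext (hVsq _ hw)
    · exact htV
    · intro g hg
      rw [Subgroup.mem_centralizer_singleton_iff] at hg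
      have h1 : (g : G) ∈ NT (VV a b t) t := by
        rw [hcent, Subgroup.mem_centralizer_singleton_iff]
        exact congrArg Subtype.val hg
      rw [Subgroup.mem_normalizer_iff]
      intro w
      exact Subgroup.mem_normalizer_iff.1 h1.1 (w : G)
  · obtain ⟨e⟩ := he
    let e0 : R ≃* R ⧸ Cfsg.oddCore R := ((QuotientGroup.quotientMulEquivOfEq hOR).trans (QuotientGroup.quotientBot)).symm
    obtain ⟨h1, -, h3⟩ := H59.BA2.case_a7 R (e0.trans e) hf hn hnR hG
    exact ⟨h1, h3⟩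

end H21.BA2z
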