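import Cfsg.Agent.Lib.H21.BrauerDeg2
import Cfsg.Agent.Lib.H21.PrimeStruct

/-!
Brauer's degree equation in simple groups with a self-centralizing Sylow `p`-subgroup of prime
order, `|N(P) : P| = e` small.
-/

set_option autoImplicit false
set_option linter.unusedSectionVars false

namespace H21.BrauerSimple

open Cfsg H18.CharBasic H18.CharOrtho H18.CharInd H18.CharQuot H18.TICoh H21.BrauerDeg
open scoped ComplexConjugate

universe u

theorem sum_sq_one {α : Type*} [DecidableEq α] (T : Finset α) (a : α → ℤ)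
    (h : ∑ x ∈ T, a x ^ 2 = 1) :
    ∃ x ∈ T, (a x = 1 ∨ a x = -1) ∧ ∀ y ∈ T, y ≠ x → a y = 0 := by
  obtain ⟨x, hx, hax⟩ : ∃ x ∈ T, a x ≠ 0 := by
    by_contra hcon
    push Not at hcon
    rw [Finset.sum_eq_zero] at h
    · norm_num at h
    · intro x hx
      rw [hcon x hx]; norm_num
  rw [← Finset.add_sum_erase _ _ hx] at h
  have h1 : 0 < a x ^ 2 := by positivity
  have h2 : 0 ≤ ∑ y ∈ T.erase x, a y ^ 2 := Finset.sum_nonneg fun y _ => sq_nonneg _
  have h3 : ∑ y ∈ T.erase x, a y ^ 2 = 0 := by omega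
  have h4 : a x ^ 2 = 1 := by omega
  refine ⟨x, hx, ?_, ?_⟩
  · have h5 : (a x - 1) * (a x + 1) = 0 := by ring_nf; omega
    rcases mul_eq_zero.1 h5 with h6 | h6
    · left; omega
    · right; omega
  · intro y hy hyx
    have := (Finset.sum_eq_zero_iff_of_nonneg (fun y _ => sq_nonneg (a y))).1 h3 y
      (Finset.mem_erase.2 ⟨hyx, hy⟩)
    exact pow_eq_zero_iff (two_ne_zero) |>.1 this

theorem sum_sq_two {α : Type*} [DecidableEq α] (T : Finset α) (a : α → ℤ)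
    (h : ∑ x ∈ T, a x ^ 2 = 2) :
    ∃ x ∈ T, ∃ y ∈ T, x ≠ y ∧ (a x = 1 ∨ a x = -1) ∧ (a y = 1 ∨ a y = -1) ∧
      ∀ z ∈ T, z ≠ x → z ≠ y → a z = 0 := by
  obtain ⟨x, hx, hax⟩ : ∃ x ∈ T, a x ≠ 0 := by
    by_contra hcon
    push Not at hcon
    rw [Finset.sum_eq_zero] at h
    · norm_num at h
    · intro x hx
      rw [hcon x hx]; norm_num
  rw [← Finset.add_sum_erase _ _ hx] at h
  have h1 : 0 < a x ^ 2 := by positivity
  have h2 : 0 ≤ ∑ y ∈ T.erase x, a y ^ 2 := Finset.sum_nonneg fun y _ => sq_nonneg _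
  have h5 : a x = 1 ∨ a x = -1 := by
    have h6 : a x ^ 2 ≤ 2 := by omega
    have h7 : a x < 2 := by nlinarith
    have h8 : -2 < a x := by nlinarith
    omega
  have h3 : ∑ y ∈ T.erase x, a y ^ 2 = 1 := by
    rcases h5 with h5 | h5 <;> rw [h5] at h <;> omega
  obtain ⟨y, hy, hay, hz⟩ := sum_sq_one _ a h3
  refine ⟨x, hx, y, Finset.mem_of_mem_erase hy, (Finset.ne_of_mem_erase hy).symm, h5, hay, ?_⟩
  intro z hzT hzx hzy
  exact hz z (Finset.mem_erase.2 ⟨hzx, hzT⟩) hzy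

section

variable {G : Type u} [Group G] [Fintype G] [IsSimpleGroup G]

theorem degree_gt_one (hG : ¬ IsMulCommutative G) (χ : IrrCharacter G)
    (h : χ ≠ ⟨fun _ => 1, isIrrCharacter_one⟩) :
    ∃ d : ℕ, 1 < d ∧ (χ : G → ℂ) 1 = d ∧ d ∣ Nat.card G := by
  obtain ⟨n, ρ, hρ, hχ⟩ := χ.2
  have hd := H4.Integral.degree_dvd_card ρ hρ
  have hn : Module.finrank ℂ (Fin n → ℂ) = n := by simp
  rw [hn] at hd
  have hχ1 : (χ : G → ℂ) 1 = n := by
    rw [← hχ, Representation.char_one, hn]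
  refine ⟨n, ?_, hχ1, hd⟩
  have hpos : 0 < n := Nat.pos_of_dvd_of_pos hd Nat.card_pos
  by_contra hcon
  have hn1 : n = 1 := by omega
  apply h
  apply Subtype.ext
  rw [hn1, Nat.cast_one] at hχ1
  obtain ⟨f, hf⟩ := exists_hom_of_degree_one (isCharacter_of_isIrr χ.2) hχ1
  rw [hf]
  funext g
  rw [H21.SimpleBasic.hom_comm_trivial hG f g]
  simp

/-- sum of squares of degrees over a finite set of irreducible characters -/
theorem sum_sq_le [Fintype (IrrCharacter G)] (T : Finset (IrrCharacter G)) (d : IrrCharacter G → ℕ)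
    (hd : ∀ χ : IrrCharacter G, (χ : G → ℂ) 1 = d χ) : ∑ χ ∈ T, d χ ^ 2 ≤ Nat.card G := by
  have h1 := sum_degree_sq (G := G)
  have h2 : ∑ χ : IrrCharacter G, d χ ^ 2 = Nat.card G := by
    have : ((∑ χ : IrrCharacter G, d χ ^ 2 : ℕ) : ℂ) = (Nat.card G : ℂ) := by
      rw [← h1]
      push_cast
      refine Finset.sum_congr rfl fun χ _ => ?_
      rw [hd]
    exact_mod_cast this
  rw [← h2]
  exact Finset.sum_le_sum_of_subset (Finset.subset_univ T)

theorem setup {p : ℕ} [hp : Fact p.Prime] (P : Sylow p G) (hP : Nat.card (P : Subgroup G) = p)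
    (hPC : Nat.card (Subgroup.centralizer ((P : Subgroup G) : Set G)) = p) :
    (∀ g : G, g ∉ Subgroup.normalizer ((P : Subgroup G) : Set G) → ∀ k ∈ (P : Subgroup G),
      g * k * g⁻¹ ∈ (P : Subgroup G) → k = 1) ∧
    (∀ k ∈ (P : Subgroup G), k ≠ 1 → Subgroup.centralizer ({k} : Set G) ≤ (P : Subgroup G)) ∧
    (∀ a b : (P : Subgroup G), a * b = b * a) := by
  have hcyc : IsCyclic (P : Subgroup G) := isCyclic_of_prime_card hP
  have hc : IsMulCommutative (P : Subgroup G) := IsCyclic.isMulCommutative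
  have hle : (P : Subgroup G) ≤ Subgroup.centralizer ((P : Subgroup G) : Set G) :=
    Subgroup.le_centralizer _
  have heq : Subgroup.centralizer ((P : Subgroup G) : Set G) = (P : Subgroup G) :=
    (Subgroup.eq_of_le_of_card_ge hle (by rw [hPC, hP])).symm
  refine ⟨?_, ?_, ?_⟩
  · intro g hg k hk hgk
    by_contra hk1
    apply hg
    have h1 : Subgroup.zpowers k = (P : Subgroup G) :=
      H21.CountPrime.zpowers_eq_of_card_prime hP hk hk1
    have hgk1 : g * k * g⁻¹ ≠ 1 := by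
      intro h
      apply hk1
      have : k = g⁻¹ * (g * k * g⁻¹) * g := by group
      rw [this, h]; group
    have h2 : Subgroup.zpowers (g * k * g⁻¹) = (P : Subgroup G) :=
      H21.CountPrime.zpowers_eq_of_card_prime hP hgk hgk1
    have h3 : ∀ x ∈ (P : Subgroup G), g * x * g⁻¹ ∈ (P : Subgroup G) := by
      intro x hx
      rw [← h1] at hx
      obtain ⟨n, rfl⟩ := hx
      rw [← h2]
      refine ⟨n, ?_⟩
      change (g * k * g⁻¹) ^ n = g * k ^ n * g⁻¹
      rw [conj_zpow]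
    exact Subgroup.mem_normalizer_fintype h3
  · intro k hk hk1
    rw [← heq]
    have h1 : Subgroup.zpowers k = (P : Subgroup G) :=
      H21.CountPrime.zpowers_eq_of_card_prime hP hk hk1
    intro x hx
    rw [Subgroup.mem_centralizer_singleton_iff] at hx
    rw [← h1, Subgroup.mem_centralizer_iff]
    rintro _ ⟨n, rfl⟩
    exact ((show Commute x k from hx).symm.zpow_left n).eq
  · intro a b
    exact hc.is_comm.comm a b

/-- combined data for a self-centralizing Sylow subgroup of prime order `p = s e + 1` -/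
theorem data {p s e : ℕ} [hp : Fact p.Prime] (P : Sylow p G) (hP : Nat.card (P : Subgroup G) = p)
    (hPC : Nat.card (Subgroup.centralizer ((P : Subgroup G) : Set G)) = p)
    (hN : Nat.card (Subgroup.normalizer ((P : Subgroup G) : Set G)) = p * e)
    (hs : p = s * e + 1) (hes : e + 1 < s) (hG : ¬ IsMulCommutative G)
    [Fintype (IrrCharacter G)] :
    ∃ (a : IrrCharacter G → ℤ) (d : IrrCharacter G → ℕ) (ε : ℤ) (θ : Fin s → IrrCharacter G) (f : ℕ),
      Function.Injective θ ∧ (ε = 1 ∨ ε = -1) ∧ (∀ j, a (θ j) = 0) ∧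
      a ⟨fun _ => 1, isIrrCharacter_one⟩ = 1 ∧ (∀ j, θ j ≠ ⟨fun _ => 1, isIrrCharacter_one⟩) ∧
      ∑ χ, a χ ^ 2 = (e : ℤ) ∧
      (∀ χ, χ ∉ Set.range θ → ∃ m : ℤ, (d χ : ℤ) = a χ + p * m) ∧
      (∀ j, d (θ j) = f) ∧ ∑ χ : IrrCharacter G, a χ * d χ = ε * f ∧ 1 < f ∧ f ∣ Nat.card G ∧
      (∀ χ, χ ≠ ⟨fun _ => 1, isIrrCharacter_one⟩ → 1 < d χ ∧ d χ ∣ Nat.card G) ∧
      d ⟨fun _ => 1, isIrrCharacter_one⟩ = 1 ∧
      (∀ T : Finset (IrrCharacter G), ∑ χ ∈ T, d χ ^ 2 ≤ Nat.card G) := by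
  classical
  have i1 : Fintype (Subgroup.normalizer (((P : Subgroup G) : Subgroup G) : Set G)) :=
    Fintype.ofFinite _
  have i2 : Fintype (KN (P : Subgroup G)) := Fintype.ofFinite _
  obtain ⟨hTI, hC, hab⟩ := setup P hP hPC
  have hidx : (KN (P : Subgroup G)).index = e := by
    have h1 := Subgroup.card_mul_index (KN (P : Subgroup G))
    rw [card_KN, hP, hN] at h1
    exact Nat.eq_of_mul_eq_mul_left hp.out.pos h1
  obtain ⟨a, ε, θ, f, h1, h2, h3, h4, h5, h6, h7, h8, h9⟩ :=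
    main (P : Subgroup G) hTI hC hab hidx (by rw [hP]; exact hs) hes
  have hdeg : ∀ χ : IrrCharacter G, ∃ n : ℕ, (χ : G → ℂ) 1 = n := fun χ =>
    exists_degree (isCharacter_of_isIrr χ.2)
  choose d hd using hdeg
  have hdf : ∀ j, d (θ j) = f := by
    intro j
    have := hd (θ j)
    rw [h8 j] at this
    exact_mod_cast this.symm
  have hd1 : ∀ χ, χ ≠ ⟨fun _ => 1, isIrrCharacter_one⟩ → 1 < d χ ∧ d χ ∣ Nat.card G := by
    intro χ hχ
    obtain ⟨n, hn1, hn2, hn3⟩ := degree_gt_one hG χ hχ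
    have : d χ = n := by
      have := hd χ
      rw [hn2] at this
      exact_mod_cast this.symm
    rw [this]; exact ⟨hn1, hn3⟩
  have hz : Nonempty (Fin s) := ⟨⟨0, by omega⟩⟩
  obtain ⟨z⟩ := hz
  refine ⟨a, d, ε, θ, f, h1, h2, h3, h4, h5, h6, ?_, hdf, ?_, ?_, ?_, hd1, ?_, ?_⟩
  · intro χ hχ
    obtain ⟨-, m, hm⟩ := h7 χ hχ
    refine ⟨m, ?_⟩
    rw [hd χ, hP] at hm
    exact_mod_cast hm
  · have h10 : ((∑ χ : IrrCharacter G, a χ * (d χ : ℤ) : ℤ) : ℂ) = ((ε * f : ℤ) : ℂ) := by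
      push_cast
      rw [← h9]
      refine Finset.sum_congr rfl fun χ _ => ?_
      rw [hd]
    exact_mod_cast h10
  · rw [← hdf z]; exact (hd1 _ (h5 z)).1
  · rw [← hdf z]; exact (hd1 _ (h5 z)).2
  · have := hd ⟨fun _ => 1, isIrrCharacter_one⟩
    simp only at this
    exact_mod_cast this.symm
  · intro T
    exact sum_sq_le T d hd

/-- `e = 2` -/
theorem e_two {p s : ℕ} [hp : Fact p.Prime] (P : Sylow p G) (hP : Nat.card (P : Subgroup G) = p)
    (hPC : Nat.card (Subgroup.centralizer ((P : Subgroup G) : Set G)) = p)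
    (hN : Nat.card (Subgroup.normalizer ((P : Subgroup G) : Set G)) = p * 2)
    (hs : p = s * 2 + 1) (hes : 3 < s) (hG : ¬ IsMulCommutative G) :
    ∃ (d f : ℕ) (ε₁ ε m : ℤ), (ε₁ = 1 ∨ ε₁ = -1) ∧ (ε = 1 ∨ ε = -1) ∧ 1 < d ∧ 1 < f ∧
      d ∣ Nat.card G ∧ f ∣ Nat.card G ∧ (d : ℤ) = ε₁ + p * m ∧ 1 + ε₁ * d = ε * f ∧
      1 + d ^ 2 + s * f ^ 2 ≤ Nat.card G := by
  classical
  have hft : Fintype (IrrCharacter G) := Fintype.ofFinite _
  obtain ⟨a, d, ε, θ, f, h1, h2, h3, h4, h5, h6, h7, h8, h9, h10, h11, h12, h13, h14⟩ :=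
    data P hP hPC hN hs hes hG
  set one : IrrCharacter G := ⟨fun _ => 1, isIrrCharacter_one⟩ with hone
  rw [← Finset.add_sum_erase _ _ (Finset.mem_univ one), h4] at h6
  obtain ⟨χ, hχ, haχ, hz⟩ := sum_sq_one _ a (by push_cast at h6; omega :
    ∑ χ ∈ Finset.univ.erase one, a χ ^ 2 = 1)
  have hχne : χ ≠ one := Finset.ne_of_mem_erase hχ
  have hχθ : χ ∉ Set.range θ := by
    rintro ⟨j, rfl⟩
    rw [h3 j] at haχ
    omega
  obtain ⟨m, hm⟩ := h7 χ hχθ
  refine ⟨d χ, f, a χ, ε, m, haχ, h2, (h12 χ hχne).1, h10, (h12 χ hχne).2, h11, hm, ?_, ?_⟩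
  · rw [← Finset.add_sum_erase _ _ (Finset.mem_univ one), h4, h13,
      ← Finset.add_sum_erase _ _ hχ, Finset.sum_eq_zero] at h9
    · rw [← h9]; push_cast; ring
    · intro ψ hψ
      rw [hz ψ (Finset.mem_of_mem_erase hψ) (Finset.ne_of_mem_erase hψ), zero_mul]
  · have h15 := h14 (insert one (insert χ (Finset.univ.image θ)))
    have e1 : one ∉ insert χ (Finset.univ.image θ) := by
      rw [Finset.mem_insert, not_or]
      refine ⟨hχne.symm, ?_⟩
      intro h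
      obtain ⟨j, -, hj⟩ := Finset.mem_image.1 h
      exact h5 j hj
    have e2 : χ ∉ Finset.univ.image θ := by
      intro h
      obtain ⟨j, -, hj⟩ := Finset.mem_image.1 h
      exact hχθ ⟨j, hj⟩
    rw [Finset.sum_insert e1, Finset.sum_insert e2, Finset.sum_image (fun i _ j _ h => h1 h),
      Finset.sum_congr rfl (fun j _ => by rw [h8 j]), Finset.sum_const, Finset.card_univ,
      Fintype.card_fin, h13, smul_eq_mul] at h15
    linarith

/-- `e = 3` -/
theorem e_three {p s : ℕ} [hp : Fact p.Prime] (P : Sylow p G) (hP : Nat.card (P : Subgroup G) = p)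
    (hPC : Nat.card (Subgroup.centralizer ((P : Subgroup G) : Set G)) = p)
    (hN : Nat.card (Subgroup.normalizer ((P : Subgroup G) : Set G)) = p * 3)
    (hs : p = s * 3 + 1) (hes : 4 < s) (hG : ¬ IsMulCommutative G) :
    ∃ (d d' f : ℕ) (ε₁ ε₂ ε m m' : ℤ), (ε₁ = 1 ∨ ε₁ = -1) ∧ (ε₂ = 1 ∨ ε₂ = -1) ∧
      (ε = 1 ∨ ε = -1) ∧ 1 < d ∧ 1 < d' ∧ 1 < f ∧
      d ∣ Nat.card G ∧ d' ∣ Nat.card G ∧ f ∣ Nat.card G ∧ (d : ℤ) = ε₁ + p * m ∧
      (d' : ℤ) = ε₂ + p * m' ∧ 1 + ε₁ * d + ε₂ * d' = ε * f ∧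
      1 + d ^ 2 + d' ^ 2 + s * f ^ 2 ≤ Nat.card G := by
  classical
  have hft : Fintype (IrrCharacter G) := Fintype.ofFinite _
  obtain ⟨a, d, ε, θ, f, h1, h2, h3, h4, h5, h6, h7, h8, h9, h10, h11, h12, h13, h14⟩ :=
    data P hP hPC hN hs hes hG
  set one : IrrCharacter G := ⟨fun _ => 1, isIrrCharacter_one⟩ with hone
  rw [← Finset.add_sum_erase _ _ (Finset.mem_univ one), h4] at h6
  obtain ⟨χ, hχ, ψ, hψ, hne, haχ, haψ, hz⟩ := sum_sq_two _ a (by push_cast at h6; omega :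
    ∑ χ ∈ Finset.univ.erase one, a χ ^ 2 = 2)
  have hχne : χ ≠ one := Finset.ne_of_mem_erase hχ
  have hψne : ψ ≠ one := Finset.ne_of_mem_erase hψ
  have hχθ : χ ∉ Set.range θ := by
    rintro ⟨j, rfl⟩
    rw [h3 j] at haχ
    omega
  have hψθ : ψ ∉ Set.range θ := by
    rintro ⟨j, rfl⟩
    rw [h3 j] at haψ
    omega
  obtain ⟨m, hm⟩ := h7 χ hχθ
  obtain ⟨m', hm'⟩ := h7 ψ hψθ
  refine ⟨d χ, d ψ, f, a χ, a ψ, ε, m, m', haχ, haψ, h2, (h12 χ hχne).1, (h12 ψ hψne).1, h10,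
    (h12 χ hχne).2, (h12 ψ hψne).2, h11, hm, hm', ?_, ?_⟩
  · rw [← Finset.add_sum_erase _ _ (Finset.mem_univ one), h4, h13,
      ← Finset.add_sum_erase _ _ hχ, ← Finset.add_sum_erase _ _
        (Finset.mem_erase.2 ⟨hne.symm, hψ⟩), Finset.sum_eq_zero] at h9
    · rw [← h9]; push_cast; ring
    · intro φ hφ
      rw [hz φ (Finset.mem_of_mem_erase (Finset.mem_of_mem_erase hφ))
        (Finset.ne_of_mem_erase (Finset.mem_of_mem_erase hφ)) (Finset.ne_of_mem_erase hφ), zero_mul]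
  · have h15 := h14 (insert one (insert χ (insert ψ (Finset.univ.image θ))))
    have e3 : ψ ∉ Finset.univ.image θ := by
      intro h
      obtain ⟨j, -, hj⟩ := Finset.mem_image.1 h
      exact hψθ ⟨j, hj⟩
    have e2 : χ ∉ insert ψ (Finset.univ.image θ) := by
      rw [Finset.mem_insert, not_or]
      refine ⟨hne, ?_⟩
      intro h
      obtain ⟨j, -, hj⟩ := Finset.mem_image.1 h
      exact hχθ ⟨j, hj⟩
    have e1 : one ∉ insert χ (insert ψ (Finset.univ.image θ)) := by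
      rw [Finset.mem_insert, Finset.mem_insert, not_or, not_or]
      refine ⟨hχne.symm, hψne.symm, ?_⟩
      intro h
      obtain ⟨j, -, hj⟩ := Finset.mem_image.1 h
      exact h5 j hj
    rw [Finset.sum_insert e1, Finset.sum_insert e2, Finset.sum_insert e3,
      Finset.sum_image (fun i _ j _ h => h1 h),
      Finset.sum_congr rfl (fun j _ => by rw [h8 j]), Finset.sum_const, Finset.card_univ,
      Fintype.card_fin, h13, smul_eq_mul] at h15
    linarith

end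

end H21.BrauerSimple
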