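import Cfsg.Agent.Lib.H21.PBlock2
import Cfsg.Agent.Lib.H21.BrauerSimple
import Cfsg.Agent.Lib.H21.SylowTools
import Cfsg.Agent.Lib.H21.PrimeCent
import Cfsg.Agent.Lib.H78.Cong

/-!
Degrees of the characters of the principal block when the Sylow subgroup has prime order: a kit for
simple groups.
-/

set_option autoImplicit false
set_option linter.unusedSectionVars false

namespace H21.BK

open Cfsg H18.CharBasic H18.CharOrtho H18.CharInd H21.PLat

universe u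

section kernel

variable {G : Type u} [Group G] {p : ℕ} [hp : Fact p.Prime] {x0 : G}

/-- a character without `⟨x0⟩`-fixed vectors -/
theorem sum_mul_eq_zero {χ : G → ℂ} (hχ : IsCharacter G χ) (hx0 : orderOf x0 = p)
    (h0 : ∑ k : ZMod p, χ (pw x0 k) = 0) (y : G) : ∑ k : ZMod p, χ (pw x0 k * y) = 0 := by
  obtain ⟨n, ρ, rfl⟩ := hχ
  set E : (Fin n → ℂ) →ₗ[ℂ] (Fin n → ℂ) := ∑ k : ZMod p, ρ (pw x0 k) with hE
  have hEE : E * E = (p : ℂ) • E := by
    rw [hE, Finset.sum_mul]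
    have h1 : ∀ k : ZMod p, ρ (pw x0 k) * ∑ l : ZMod p, ρ (pw x0 l) = ∑ l : ZMod p, ρ (pw x0 l) := by
      intro k
      rw [Finset.mul_sum, ← Equiv.sum_comp (Equiv.addLeft k) (fun l => ρ (pw x0 l))]
      refine Finset.sum_congr rfl fun l _ => ?_
      rw [Equiv.coe_addLeft, pw_add hx0, map_mul]
    rw [Finset.sum_congr rfl (fun k _ => h1 k), Finset.sum_const, Finset.card_univ, ZMod.card,
      Nat.cast_smul_eq_nsmul]
  have hid : IsIdempotentElem ((p : ℂ)⁻¹ • E) := by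
    rw [IsIdempotentElem, smul_mul_smul_comm, hEE, smul_smul]
    congr 1
    have := pC (p := p)
    field_simp
  have htr : LinearMap.trace ℂ (Fin n → ℂ) ((p : ℂ)⁻¹ • E) = 0 := by
    rw [map_smul, hE, map_sum]
    have : ∑ k : ZMod p, LinearMap.trace ℂ (Fin n → ℂ) (ρ (pw x0 k)) = 0 := h0
    rw [this, smul_zero]
  have h1 := LinearMap.IsIdempotentElem.eq_zero_of_trace_eq_zero hid htr
  have hE0 : E = 0 := by
    rw [smul_eq_zero] at h1
    exact h1.resolve_left (inv_ne_zero pC)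
  have h2 : ∑ k : ZMod p, ρ.character (pw x0 k * y) = LinearMap.trace ℂ (Fin n → ℂ) (E * ρ y) := by
    rw [hE, Finset.sum_mul, map_sum]
    refine Finset.sum_congr rfl fun k _ => ?_
    rw [← map_mul]
    rfl
  rw [h2, hE0, zero_mul, map_zero]

end kernel

/-- block data for a group whose order is divisible by `p` exactly once -/
structure BD (G : Type u) [Group G] [Fintype G] [Fintype (IrrCharacter G)] (p : ℕ) [Fact p.Prime]
    (x0 : G) (a : IrrCharacter G → ℤ) (Y : Finset (IrrCharacter G)) (ε : ℤ) (e n c : ℕ) : Prop where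
  hx0 : orderOf x0 = p
  hidx : ¬ p ∣ (Subgroup.zpowers x0).index
  hε : ε = 1 ∨ ε = -1
  ha : ∀ χ, a χ = 0 ∨ a χ = 1 ∨ a χ = -1
  hYa : ∀ χ ∈ Y, a χ = 0
  hcardY : e * Y.card = p - 1
  hnorm : ∑ χ, a χ * a χ = e
  htriv : a (triv G) = 1
  hval : ∀ χ, a χ ≠ 0 → ∀ k : ZMod p, k ≠ 0 → (χ : G → ℂ) (pw x0 k) = a χ
  hdeg : ∀ χ, a χ ≠ 0 → ∃ m : ℤ, (charDegree (χ : G → ℂ) : ℤ) = a χ + p * m
  hdegY : ∀ χ ∈ Y, ∃ m : ℤ, (charDegree (χ : G → ℂ) : ℤ) = ε * e + p * m
  hrel : ∀ χ ∈ Y, ∀ y : G, ¬ p ∣ orderOf y → (ε : ℂ) * (χ : G → ℂ) y =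
        ∑ ψ, (a ψ : ℂ) * (ψ : G → ℂ) y
  hYsum : ∀ χ ∈ Y, ∑ k ∈ Finset.univ.erase (0 : ZMod p), (χ : G → ℂ) (pw x0 k) = -(ε * e)
  hV : ∀ χ, (a χ ≠ 0 ∨ χ ∈ Y) → ∀ v ∈ VV p x0, ∀ k : ZMod p, k ≠ 0 →
        (χ : G → ℂ) (pw x0 k * v) = (χ : G → ℂ) (pw x0 k)
  hc : Nat.card (VV p x0) = c
  hcardN : Nat.card (Subgroup.normalizer (Subgroup.zpowers x0 : Set G)) = p * c * e
  hcard : Nat.card G = p * c * e * (1 + n * p)
  hsyl : Nat.card (Sylow p G) = 1 + n * p
  hM : ∃ M : Ideal AlgInt, IsPModular p M ∧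
        ∀ χ, (a χ ≠ 0 ∨ χ ∈ Y) ↔ χ ∈ principalBlock M G

variable {G : Type u} [Group G] [Fintype G] [Fintype (IrrCharacter G)] {p : ℕ} [hp : Fact p.Prime]
  {x0 : G}

theorem exists_sylow_eq (hx0 : orderOf x0 = p) (hidx : ¬ p ∣ (Subgroup.zpowers x0).index) :
    ∃ Q : Sylow p G, (Q : Subgroup G) = Subgroup.zpowers x0 := by
  have hpg : IsPGroup p (Subgroup.zpowers x0) := by
    rw [IsPGroup.iff_card]
    exact ⟨1, by rw [card_zp hx0, pow_one]⟩
  exact ⟨hpg.toSylow hidx, rfl⟩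

theorem exists_BD (hx0 : orderOf x0 = p) (hidx : ¬ p ∣ (Subgroup.zpowers x0).index) :
    ∃ a Y ε e n c, BD G p x0 a Y ε e n c := by
  classical
  obtain ⟨M, hM⟩ := H78.Cong.exists_isPModular hp.out
  obtain ⟨Q, hQz⟩ := exists_sylow_eq hx0 hidx
  obtain ⟨a, Y, ε, hε, ha, haB, hY, hBu, hcY, hnorm, ht, hval, hdeg, hdegY, hrel, hYs⟩ :=
    structure_thm2 hM hx0 hidx rfl
  have hN := card_normalizer_eq hx0 hidx
  have hsyl1 : Nat.card (Sylow p G) ≡ 1 [MOD p] := card_sylow_modEq_one p G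
  have hsyl2 : Nat.card (Sylow p G) = 1 + (Nat.card (Sylow p G) / p) * p := by
    have h1 : Nat.card (Sylow p G) % p = 1 := by
      have := hsyl1
      rw [Nat.ModEq, Nat.mod_eq_of_lt hp.out.one_lt] at this
      exact this
    have h2 := Nat.div_add_mod (Nat.card (Sylow p G)) p
    rw [h1] at h2
    conv_lhs => rw [← h2]
    ring
  have hGcard : Nat.card G = p * Nat.card (VV p x0) * Nat.card (psi hx0).range *
      (1 + (Nat.card (Sylow p G) / p) * p) := by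
    rw [← hsyl2, ← hN, ← hQz]
    exact (H21.SylowTools.card_normalizer_mul_card_sylow Q).symm
  refine ⟨a, Y, ε, Nat.card (psi hx0).range, Nat.card (Sylow p G) / p, Nat.card (VV p x0), hx0,
    hidx, hε, ha, fun χ hχ => (hY χ hχ).2, hcY, hnorm, ht, hval, hdeg, hdegY, hrel,
    fun χ hχ => by rw [← sum_bb']; exact hYs χ hχ, ?_, rfl, hN, hGcard, hsyl2, M, hM,
    fun χ => ⟨fun h1 => h1.elim (fun h2 => by by_contra h3; exact h2 (haB χ h3))
      (fun h2 => (hY χ h2).1), hBu χ⟩⟩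
  intro χ hχ v hv k hk
  refine val_mul_VV hM hx0 hk hv ?_
  rcases hχ with h1 | h1
  · by_contra h2
    exact h1 (haB χ h2)
  · exact (hY χ h1).1

variable {a : IrrCharacter G → ℤ} {Y : Finset (IrrCharacter G)} {ε : ℤ} {e n c : ℕ}

/-- block characters without `⟨x0⟩`-fixed vectors have `V` in their kernel -/
theorem BD.ker (h : BD G p x0 a Y ε e n c) {χ : IrrCharacter G} (hχ : a χ ≠ 0 ∨ χ ∈ Y)
    (h0 : ∑ k : ZMod p, (χ : G → ℂ) (pw x0 k) = 0) {v : G} (hv : v ∈ VV p x0) :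
    (χ : G → ℂ) v = (χ : G → ℂ) 1 := by
  have h1 := sum_mul_eq_zero (isCharacter_of_isIrr χ.2) h.hx0 h0 v
  rw [← Finset.add_sum_erase _ _ (Finset.mem_univ (0 : ZMod p)), pw_zero, one_mul,
    Finset.sum_congr rfl (fun k hk => h.hV χ hχ v hv k (Finset.ne_of_mem_erase hk))] at h1
  rw [← Finset.add_sum_erase _ _ (Finset.mem_univ (0 : ZMod p)), pw_zero] at h0
  linear_combination h1 - h0

theorem BD.e_pos (h : BD G p x0 a Y ε e n c) : 0 < e := by
  rcases Nat.eq_zero_or_pos e with h0 | h0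
  · have h1 := h.hcardN
    rw [h0, mul_zero] at h1
    have : 0 < Nat.card (Subgroup.normalizer (Subgroup.zpowers x0 : Set G)) := Nat.card_pos
    omega
  · exact h0

theorem BD.c_pos (h : BD G p x0 a Y ε e n c) : 0 < c := by
  rw [← h.hc]; exact Nat.card_pos

theorem BD.e_lt (h : BD G p x0 a Y ε e n c) : e < p := by
  have h1 := h.hcardY
  have h2 := hp.out.one_lt
  have h3 : 1 ≤ Y.card := by
    rcases Nat.eq_zero_or_pos Y.card with h0 | h0
    · rw [h0, mul_zero] at h1; omega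
    · exact h0
  have : e * 1 ≤ e * Y.card := Nat.mul_le_mul_left _ h3
  omega

/-- fixed vectors -/
theorem BD.sum_pw (h : BD G p x0 a Y ε e n c) {χ : IrrCharacter G} (hχ : a χ ≠ 0) :
    ∑ k : ZMod p, (χ : G → ℂ) (pw x0 k) = charDegree (χ : G → ℂ) + (p - 1) * a χ := by
  rw [← Finset.add_sum_erase _ _ (Finset.mem_univ (0 : ZMod p)), pw_zero,
    Finset.sum_congr rfl (fun k hk => h.hval χ hχ k (Finset.ne_of_mem_erase hk)), Finset.sum_const,
    Finset.card_erase_of_mem (Finset.mem_univ _), Finset.card_univ, ZMod.card, nsmul_eq_mul,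
    H82.Deg.coe_charDegree', Nat.cast_sub hp.out.one_lt.le, Nat.cast_one]

theorem triv_degree : charDegree ((triv G : IrrCharacter G) : G → ℂ) = 1 := by
  apply H82.Deg.charDegree_eq_of
  simp

/-- block characters have degree prime to `p` -/
theorem BD.not_dvd (h : BD G p x0 a Y ε e n c) {χ : IrrCharacter G} (hχ : a χ ≠ 0 ∨ χ ∈ Y) :
    ¬ p ∣ charDegree (χ : G → ℂ) := by
  intro hd
  have hp1 := hp.out.one_lt
  have hd' : (p : ℤ) ∣ charDegree (χ : G → ℂ) := by exact_mod_cast hd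
  rcases hχ with h1 | h1
  · obtain ⟨m, hm⟩ := h.hdeg χ h1
    rw [hm] at hd'
    have h2 : (p : ℤ) ∣ a χ := (Int.dvd_add_left (dvd_mul_right _ _)).1 hd'
    rcases h.ha χ with h3 | h3 | h3
    · exact h1 h3
    · rw [h3] at h2
      have := Int.le_of_dvd (by norm_num) h2
      omega
    · rw [h3, dvd_neg] at h2
      have := Int.le_of_dvd (by norm_num) h2
      omega
  · obtain ⟨m, hm⟩ := h.hdegY χ h1
    rw [hm] at hd'
    have h2 : (p : ℤ) ∣ ε * e := (Int.dvd_add_left (dvd_mul_right _ _)).1 hd'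
    have h3 : (p : ℤ) ∣ e := by
      rcases h.hε with h4 | h4
      · rwa [h4, one_mul] at h2
      · rwa [h4, neg_one_mul, dvd_neg] at h2
    have h4 : p ∣ e := by exact_mod_cast h3
    have := Nat.le_of_dvd h.e_pos h4
    have := h.e_lt
    omega

theorem BD.degree_dvd (h : BD G p x0 a Y ε e n c) {χ : IrrCharacter G} (hχ : a χ ≠ 0 ∨ χ ∈ Y) :
    charDegree (χ : G → ℂ) ∣ c * e * (1 + n * p) := by
  have h1 := H82.Deg.degree_dvd_card χ
  rw [h.hcard] at h1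
  have h2 : p * c * e * (1 + n * p) = p * (c * e * (1 + n * p)) := by ring
  rw [h2] at h1
  exact Nat.Coprime.dvd_of_dvd_mul_left
    ((Nat.Prime.coprime_iff_not_dvd hp.out).2 (h.not_dvd hχ)).symm h1

theorem degree_sq_lt [IsSimpleGroup G] {χ : IrrCharacter G} (hχt : χ ≠ triv G) :
    charDegree (χ : G → ℂ) ^ 2 < Nat.card G := by
  classical
  have h4 := H21.BrauerSimple.sum_sq_le (G := G) {χ, triv G}
    (fun χ => charDegree (χ : G → ℂ)) (fun χ => (H82.Deg.coe_charDegree' χ).symm)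
  rw [Finset.sum_pair hχt] at h4
  have h5 : charDegree ((triv G : IrrCharacter G) : G → ℂ) = 1 := triv_degree
  rw [h5] at h4
  omega

/-- the degree relation -/
theorem BD.degree_sum (h : BD G p x0 a Y ε e n c) {θ : IrrCharacter G} (hθ : θ ∈ Y) :
    ε * (charDegree (θ : G → ℂ) : ℤ) = ∑ ψ : IrrCharacter G, a ψ * (charDegree (ψ : G → ℂ) : ℤ) := by
  have h1 := h.hrel θ hθ 1 (by rw [orderOf_one]; intro h0; exact hp.out.one_lt.ne' (Nat.dvd_one.1 h0))
  have h2 : ((ε * (charDegree (θ : G → ℂ) : ℤ) : ℤ) : ℂ) =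
      ((∑ ψ : IrrCharacter G, a ψ * (charDegree (ψ : G → ℂ) : ℤ) : ℤ) : ℂ) := by
    push_cast
    rw [H82.Deg.coe_charDegree', h1]
    refine Finset.sum_congr rfl fun ψ _ => ?_
    rw [H82.Deg.coe_charDegree']
  exact_mod_cast h2

end H21.BK
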