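import Cfsg.Agent.Lib.H21.PrimeStruct

set_option autoImplicit false

/-! Numerical constraints for an action of a simple group on a finite set, coming from a pair of
commuting elements: `x` of order 2 and `u` of odd prime order. -/

namespace H21.CommAct

open Subgroup MulAction H21.SimpleBasic H21.SylowTools H21.CountPrime H21.PrimeAct H21.PrimeCent
  H21.PrimeStruct

variable {G : Type*} [Group G]

theorem isPGroup_zpowers [Finite G] {p : ℕ} [Fact p.Prime] {u : G} (hu : orderOf u = p) :
    IsPGroup p (Subgroup.zpowers u) := by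
  rw [IsPGroup.iff_card]
  exact ⟨1, by rw [Nat.card_zpowers, hu, pow_one]⟩

theorem forall_zpowers_smul {α : Type*} [MulAction G α] {u : G} {a : α} :
    (∀ w ∈ Subgroup.zpowers u, w • a = a) ↔ u • a = a := by
  constructor
  · intro h; exact h u (mem_zpowers u)
  · intro h w hw
    have h5 : Subgroup.zpowers u ≤ MulAction.stabilizer G a := by
      rw [Subgroup.zpowers_le]; exact h
    exact h5 hw

/-- `fix x ≡ fix (x, u) mod p` when `u` has order `p` and commutes with `x`. -/
theorem fix_modEq_of_commute [Finite G] {p : ℕ} [Fact p.Prime] (α : Type*) [Finite α]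
    [MulAction G α] {u x : G} (hu : orderOf u = p) (hc : Commute u x) :
    Nat.card (fixedBy α x) ≡ Nat.card {a : α // x • a = a ∧ u • a = a} [MOD p] := by
  have h := card_fixedBy_modEq (p := p) α (Subgroup.zpowers u) (isPGroup_zpowers hu) x (by
    rintro w ⟨i, rfl⟩
    exact (hc.zpow_left i).eq)
  simpa only [forall_zpowers_smul] using h

theorem card_modEq_fix [Finite G] {p : ℕ} [Fact p.Prime] (α : Type*) [Finite α]
    [MulAction G α] {u : G} (hu : orderOf u = p) :
    Nat.card α ≡ Nat.card (fixedBy α u) [MOD p] := by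
  have h := fix_modEq_of_commute (G := G) α hu (Commute.one_right u)
  have h1 : Nat.card (fixedBy α (1 : G)) = Nat.card α := by
    apply Nat.card_congr
    exact
      { toFun := fun a => a.1
        invFun := fun a => ⟨a, one_smul G a⟩
        left_inv := fun a => rfl
        right_inv := fun a => rfl }
  have h2 : Nat.card {a : α // (1 : G) • a = a ∧ u • a = a} = Nat.card (fixedBy α u) := by
    apply Nat.card_congr
    exact
      { toFun := fun a => ⟨a.1, a.2.2⟩
        invFun := fun a => ⟨a.1, one_smul G a.1, a.2⟩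
        left_inv := fun a => rfl
        right_inv := fun a => rfl }
  rw [h1, h2] at h
  exact h

theorem fix_lt_of_ne_one (α : Type*) [Finite α] [MulAction G α]
    (hf : Function.Injective (MulAction.toPermHom G α)) {x : G} (hx : x ≠ 1) :
    Nat.card (fixedBy α x) < Nat.card α := by
  have h3 : fixedBy α x ≠ Set.univ := by
    intro h; apply hx
    apply hf
    rw [map_one]
    ext a : 1
    have : a ∈ fixedBy α x := by rw [h]; trivial
    exact this
  rw [Nat.card_coe_set_eq, ← Set.ncard_univ]
  exact Set.ncard_lt_ncard (Set.ssubset_univ_iff.2 h3)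

/-- All constraints for commuting `u` (order `p`) and `x` (order 2) in a faithful action of a
nonabelian simple group on `n` points. -/
theorem commuting_constraints [Finite G] [IsSimpleGroup G] (hG : ¬ IsMulCommutative G) {p : ℕ}
    [hp : Fact p.Prime] (α : Type*) [Finite α] [MulAction G α]
    (hf : Function.Injective (MulAction.toPermHom G α)) {u x : G} (hu : orderOf u = p)
    (hx : orderOf x = 2) (hc : Commute u x) :
    ∃ F f b : ℕ, Nat.card (fixedBy α u) = F ∧ Nat.card (fixedBy α x) = f ∧
      Nat.card α ≡ F [MOD p] ∧ f ≡ b [MOD p] ∧ F ≡ b [MOD 2] ∧ 4 ∣ Nat.card α - f ∧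
      b ≤ F ∧ b ≤ f ∧ f < Nat.card α ∧ F < Nat.card α := by
  have hf2 : Fact (Nat.Prime 2) := ⟨Nat.prime_two⟩
  refine ⟨_, _, Nat.card {a : α // x • a = a ∧ u • a = a}, rfl, rfl, card_modEq_fix α hu,
    fix_modEq_of_commute α hu hc, ?_, ?_, ?_, ?_, ?_, ?_⟩
  · have h := fix_modEq_of_commute (p := 2) α hx hc.symm
    have h2 : Nat.card {a : α // u • a = a ∧ x • a = a} =
        Nat.card {a : α // x • a = a ∧ u • a = a} :=
      Nat.card_congr (Equiv.subtypeEquivRight (fun a => and_comm))
    rw [h2] at h
    exact h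
  · exact four_dvd_moved hG α x (by rw [← hx]; exact pow_orderOf_eq_one x)
  · exact Nat.card_le_card_of_injective
      (fun a : {a : α // x • a = a ∧ u • a = a} => (⟨a.1, a.2.2⟩ : fixedBy α u))
      (fun a b h => Subtype.ext (Subtype.mk.inj h))
  · exact Nat.card_le_card_of_injective
      (fun a : {a : α // x • a = a ∧ u • a = a} => (⟨a.1, a.2.1⟩ : fixedBy α x))
      (fun a b h => Subtype.ext (Subtype.mk.inj h))
  · exact fix_lt_of_ne_one α hf (by intro h; rw [h, orderOf_one] at hx; norm_num at hx)
  · exact fix_lt_of_ne_one α hf (by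
      intro h; rw [h, orderOf_one] at hu; exact hp.out.ne_one hu.symm)

/-- `orderOf` of the elements of `P` when `|P| = p`. -/
theorem exists_orderOf_eq_of_sylow [Finite G] {p : ℕ} [hp : Fact p.Prime] (P : Sylow p G)
    (hP : Nat.card (P : Subgroup G) = p) : ∃ u ∈ (P : Subgroup G), orderOf u = p := by
  have : Nontrivial (P : Subgroup G) := by
    rw [← Finite.one_lt_card_iff_nontrivial, hP]; exact hp.out.one_lt
  obtain ⟨⟨u, hu⟩, hu1⟩ := exists_ne (1 : (P : Subgroup G))
  exact ⟨u, hu, orderOf_eq_of_mem_of_card_prime hP hu (fun h => hu1 (Subtype.ext h))⟩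

end H21.CommAct
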