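import Cfsg.Agent.Lib.H21.SC15
import Cfsg.Agent.Lib.H21.CommAct

/-!
Perfect groups with a self-centralizing subgroup of prime order and few Sylow subgroups are simple.
-/

set_option autoImplicit false
set_option linter.unusedSectionVars false

namespace H21.SelfC

open Cfsg H21.PLat

universe u

variable {G : Type u} [Group G] [Finite G] {p : ℕ} [hp : Fact p.Prime] {z : G}

theorem solvable_normalizer (hz : orderOf z = p)
    (hC : Subgroup.centralizer ({z} : Set G) = Subgroup.zpowers z) :
    Group.IsSolvable (Subgroup.normalizer (Subgroup.zpowers z : Set G)) := by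
  have h1 : Group.IsSolvable (psi hz).ker := by
    have h2 : ∀ x ∈ (psi hz).ker, (x : G) ∈ Subgroup.zpowers z := by
      intro x hx
      rw [psi_ker, Subgroup.mem_subgroupOf] at hx
      have h3 : (x : G) ∈ Subgroup.centralizer ({z} : Set G) := by
        rw [Subgroup.mem_centralizer_singleton_iff]
        rw [Subgroup.mem_centralizer_iff] at hx
        exact (hx z (Subgroup.mem_zpowers z)).symm
      exact hC.le h3
    apply Group.isSolvable_of_comm
    rintro ⟨a, ha⟩ ⟨b, hb⟩
    obtain ⟨i, hi⟩ := h2 a ha
    obtain ⟨j, hj⟩ := h2 b hb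
    simp only at hi hj
    apply Subtype.ext
    apply Subtype.ext
    change (a : G) * (b : G) = (b : G) * (a : G)
    rw [← hi, ← hj, ← zpow_add, ← zpow_add, add_comm]
  exact Group.isSolvable_of_ker_le_range (psi hz).ker.subtype (psi hz) (by
    rw [Subgroup.range_subtype])

/-- if `G = K N` with `N` solvable and `G` perfect, then `K = G` -/
theorem eq_top_of_sup (hperf : commutator G = ⊤) (K N : Subgroup G) [hK : K.Normal]
    (hN : Group.IsSolvable N) (h : K ⊔ N = ⊤) : K = ⊤ := by
  by_contra hne
  have hsurj : Function.Surjective ((QuotientGroup.mk' K).comp N.subtype) := by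
    intro x
    obtain ⟨g, rfl⟩ := QuotientGroup.mk'_surjective K x
    have hg : g ∈ K ⊔ N := by rw [h]; trivial
    rw [sup_comm, ← SetLike.mem_coe, Subgroup.mul_normal] at hg
    obtain ⟨n, hn, k, hk, rfl⟩ := Set.mem_mul.1 hg
    refine ⟨⟨n, hn⟩, ?_⟩
    rw [map_mul]
    have : QuotientGroup.mk' K k = 1 := (QuotientGroup.eq_one_iff k).2 hk
    rw [this, mul_one]
    rfl
  have hsol : Group.IsSolvable (G ⧸ K) := Group.isSolvable_of_surjective hsurj
  have hnt : Nontrivial (G ⧸ K) := by
    rw [← not_subsingleton_iff_nontrivial]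
    intro h0
    exact hne (QuotientGroup.subgroup_eq_top_of_subsingleton K h0)
  have h1 := Group.IsSolvable.commutator_lt_top_of_nontrivial (G ⧸ K)
  have h2 : commutator (G ⧸ K) = ⊤ := by
    rw [commutator_def, ← Subgroup.map_top_of_surjective (QuotientGroup.mk' K)
      (QuotientGroup.mk'_surjective K), ← Subgroup.map_commutator, ← commutator_def, hperf]
  exact h1.ne h2

theorem simple_of_perfect (hperf : commutator G = ⊤) (hz : orderOf z = p)
    (hC : Subgroup.centralizer ({z} : Set G) = Subgroup.zpowers z)
    (hn : 2 * Nat.card (Sylow p G) < (p + 1) * (p + 2)) : IsSimpleGroup G := by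
  classical
  have hz1 : z ≠ 1 := by
    rintro rfl
    rw [orderOf_one] at hz
    exact hp.out.one_lt.ne hz
  have hnt : Nontrivial G := ⟨⟨z, 1, hz1⟩⟩
  have hpg : IsPGroup p (Subgroup.zpowers z) := by
    rw [IsPGroup.iff_card]
    exact ⟨1, by rw [card_zp hz, pow_one]⟩
  obtain ⟨P, hP'⟩ := hpg.exists_le_sylow
  have hP := Cfsg.Agent.S0995.sylow_of_self_centralizing p z hz hC P
    (hP' (Subgroup.mem_zpowers z))
  have hsolv := solvable_normalizer hz hC
  refine ⟨fun K hK => ?_⟩
  by_cases hpK : p ∣ Nat.card K
  · -- Frattini argument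
    right
    obtain ⟨⟨y, hyK⟩, hy⟩ := exists_prime_orderOf_dvd_card' p hpK
    rw [Subgroup.orderOf_mk] at hy
    have hpg' : IsPGroup p (Subgroup.zpowers y) := by
      rw [IsPGroup.iff_card]
      exact ⟨1, by rw [Nat.card_zpowers, hy, pow_one]⟩
    obtain ⟨Q, hQ⟩ := hpg'.exists_le_sylow
    have hQc : Nat.card (Q : Subgroup G) = p := by
      have h1 := Q.card_eq_multiplicity
      rw [← P.card_eq_multiplicity] at h1
      have h2 : Nat.card (P : Subgroup G) = p := by rw [hP]; exact card_zp hz
      exact h1.trans h2
    have hQy : Subgroup.zpowers y = (Q : Subgroup G) := by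
      apply Subgroup.eq_of_le_of_card_ge hQ
      rw [hQc, Nat.card_zpowers, hy]
    obtain ⟨g, hg⟩ := MulAction.exists_smul_eq G Q P
    have hPK : (P : Subgroup G) ≤ K := by
      rw [← hg]
      intro x hx
      have hx' : x ∈ g • Q := hx
      rw [mem_smul_sylow] at hx'
      have h1 : g⁻¹ * x * g ∈ Subgroup.zpowers y := by rw [hQy]; exact hx'
      have h2 : g⁻¹ * x * g ∈ K := (Subgroup.zpowers_le.2 hyK) h1
      have h3 := hK.conj_mem _ h2 g
      have h4 : g * (g⁻¹ * x * g) * g⁻¹ = x := by group
      rwa [h4] at h3
    have h1 := Sylow.normalizer_sup_eq_top' P hPK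
    apply eq_top_of_sup hperf K (Subgroup.normalizer (Subgroup.zpowers z : Set G)) hsolv
    rw [sup_comm, ← hP]
    exact h1
  · by_cases hK1 : K = ⊥
    · left; exact hK1
    · right
      have hKP : ∀ x ∈ K, x ∈ Subgroup.zpowers z → x = 1 := by
        intro x hx hx'
        have h1 : orderOf x ∣ Nat.card K := by
          rw [← Subgroup.orderOf_mk x hx]; exact orderOf_dvd_natCard _
        have h2 : orderOf x ∣ p := by
          rw [← card_zp hz, ← Subgroup.orderOf_mk x hx']; exact orderOf_dvd_natCard _
        rcases (Nat.dvd_prime hp.out).1 h2 with h3 | h3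
        · exact orderOf_eq_one_iff.1 h3
        · rw [h3] at h1; exact absurd h1 hpK
      have hdis : ∀ x ∈ K, x ∈ Subgroup.normalizer (Subgroup.zpowers z : Set G) → x = 1 := by
        intro x hx hxN
        apply hKP x hx
        rw [← hC, Subgroup.mem_centralizer_singleton_iff]
        have h1 : x * z * x⁻¹ ∈ Subgroup.zpowers z :=
          (Subgroup.mem_normalizer_iff.1 hxN z).1 (Subgroup.mem_zpowers z)
        have h2 : x * z * x⁻¹ * z⁻¹ ∈ Subgroup.zpowers z :=
          mul_mem h1 (inv_mem (Subgroup.mem_zpowers z))
        have h3 : x * z * x⁻¹ * z⁻¹ ∈ K := by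
          have h4 : x * (z * x⁻¹ * z⁻¹) ∈ K := mul_mem hx (hK.conj_mem _ (inv_mem hx) z)
          have h5 : x * z * x⁻¹ * z⁻¹ = x * (z * x⁻¹ * z⁻¹) := by group
          rw [h5]; exact h4
        have h4 := hKP _ h3 h2
        rw [mul_inv_eq_one, mul_inv_eq_iff_eq_mul] at h4
        exact h4
      -- `|K| ≡ 1 mod p`
      have hmod : Nat.card K ≡ 1 [MOD p] := by
        let _ : MulAction G K := MulAction.compHom K (MulAut.conjNormal : G →* MulAut K)
        have h1 := H21.CommAct.card_modEq_fix (G := G) K hz
        have h2 : Nat.card (MulAction.fixedBy K z) = 1 := by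
          rw [Nat.card_eq_one_iff_unique]
          refine ⟨⟨?_⟩, ⟨⟨1, ?_⟩⟩⟩
          · have h3 : ∀ x : MulAction.fixedBy K z, x.1 = 1 := by
              rintro ⟨x, hx⟩
              have h4 : (MulAut.conjNormal z) x = x := hx
              have h5 := congrArg Subtype.val h4
              rw [MulAut.conjNormal_apply] at h5
              apply Subtype.ext
              apply hKP _ x.2
              rw [← hC, Subgroup.mem_centralizer_singleton_iff]
              rw [mul_inv_eq_iff_eq_mul] at h5
              exact h5.symm
            intro a b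
            exact Subtype.ext ((h3 a).trans (h3 b).symm)
          · change (MulAut.conjNormal z) (1 : K) = 1
            exact map_one _
        rw [h2] at h1
        exact h1
      -- `|K| |N|` divides `|G|`
      have hrel : K.relIndex (K ⊔ Subgroup.normalizer (Subgroup.zpowers z : Set G)) =
          Nat.card (Subgroup.normalizer (Subgroup.zpowers z : Set G)) := by
        rw [Subgroup.relIndex_sup_left, ← Subgroup.inf_relIndex_right]
        have : K ⊓ Subgroup.normalizer (Subgroup.zpowers z : Set G) = ⊥ := by
          rw [eq_bot_iff]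
          intro x hx
          exact Subgroup.mem_bot.2 (hdis x hx.1 hx.2)
        rw [this, Subgroup.relIndex_bot_left]
      have hcardKN : Nat.card (K ⊔ Subgroup.normalizer (Subgroup.zpowers z : Set G) : Subgroup G) =
          Nat.card K * Nat.card (Subgroup.normalizer (Subgroup.zpowers z : Set G)) := by
        rw [← hrel]
        have h1 := (K.subgroupOf (K ⊔ Subgroup.normalizer (Subgroup.zpowers z : Set G))).card_mul_index
        rw [← h1]
        congr 1
        exact Nat.card_congr (Subgroup.subgroupOfEquivOfLe le_sup_left).toEquiv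
      have hG : Nat.card (Subgroup.normalizer (Subgroup.zpowers z : Set G)) * Nat.card (Sylow p G) =
          Nat.card G := by
        rw [← hP]
        exact H21.SylowTools.card_normalizer_mul_card_sylow P
      have hidx := (K ⊔ Subgroup.normalizer (Subgroup.zpowers z : Set G)).card_mul_index
      rw [hcardKN, ← hG] at hidx
      have hNpos : 0 < Nat.card (Subgroup.normalizer (Subgroup.zpowers z : Set G)) := Nat.card_pos
      have hfac : Nat.card K * (K ⊔ Subgroup.normalizer (Subgroup.zpowers z : Set G)).index =
          Nat.card (Sylow p G) := by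
        apply Nat.eq_of_mul_eq_mul_left hNpos
        rw [← hidx]; ring
      set v := (K ⊔ Subgroup.normalizer (Subgroup.zpowers z : Set G)).index with hv
      have hvmod : v ≡ 1 [MOD p] := by
        have h1 := card_sylow_modEq_one p G
        rw [← hfac] at h1
        have h2 : 1 * v ≡ Nat.card K * v [MOD p] := (hmod.symm).mul_right v
        rw [one_mul] at h2
        exact h2.trans h1
      have hKcard : p + 1 ≤ Nat.card K := by
        have h1 : 1 < Nat.card K := (Subgroup.one_lt_card_iff_ne_bot _).2 hK1
        by_contra hcon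
        push Not at hcon
        have h2 : Nat.card K % p = 1 % p := hmod
        rw [Nat.mod_eq_of_lt hp.out.one_lt] at h2
        rcases Nat.lt_or_ge (Nat.card K) p with h3 | h3
        · rw [Nat.mod_eq_of_lt h3] at h2; omega
        · have h4 : Nat.card K = p := by omega
          rw [h4, Nat.mod_self] at h2; omega
      have hv1 : v = 1 := by
        by_contra hne
        have hvpos : 0 < v := Nat.pos_of_ne_zero Subgroup.index_ne_zero_of_finite
        have h3 : p + 1 ≤ v := by
          by_contra hcon
          push Not at hcon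
          have h2 : v % p = 1 % p := hvmod
          rw [Nat.mod_eq_of_lt hp.out.one_lt] at h2
          rcases Nat.lt_or_ge v p with h3 | h3
          · rw [Nat.mod_eq_of_lt h3] at h2; omega
          · have h4 : v = p := by omega
            rw [h4, Nat.mod_self] at h2; omega
        have h4 : (p + 1) * (p + 1) ≤ Nat.card (Sylow p G) := by
          rw [← hfac]; exact Nat.mul_le_mul hKcard h3
        nlinarith
      apply eq_top_of_sup hperf K (Subgroup.normalizer (Subgroup.zpowers z : Set G)) hsolv
      exact Subgroup.index_eq_one.1 hv1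

theorem perfect_case (hperf : commutator G = ⊤) (hz : orderOf z = p)
    (hC : Subgroup.centralizer ({z} : Set G) = Subgroup.zpowers z)
    (hn : 2 * Nat.card (Sylow p G) < (p + 1) * (p + 2)) :
    (∃ (F : Type) (_ : Field F) (_ : Fintype F), Fintype.card F = p ∧ 3 < p ∧
      Nonempty (G ≃* Matrix.ProjectiveSpecialLinearGroup (Fin 2) F)) ∨
    (∃ (m : ℕ) (F : Type) (_ : Field F) (_ : Fintype F), Fintype.card F = 2 ^ m ∧
      p = 2 ^ m + 1 ∧ 3 < p ∧ Nonempty (G ≃* Matrix.ProjectiveSpecialLinearGroup (Fin 2) F)) := by
  have hs := simple_of_perfect hperf hz hC hn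
  apply simple_case ?_ hz hC hn
  intro hcomm
  have h1 : commutator G = ⊥ := by
    rw [commutator_eq_bot_iff_center_eq_top, Subgroup.center_eq_top_iff]
    exact hcomm
  rw [h1] at hperf
  exact bot_ne_top hperf

end H21.SelfC
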