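import Cfsg.Agent.Lib.H21.BK1
import Cfsg.Agent.Lib.H21.SC16

/-!
Simple groups of order less than `p^3`.
-/

set_option autoImplicit false
set_option linter.unusedSectionVars false

namespace H21.BK

open Cfsg H18.CharBasic H18.CharOrtho H18.CharInd H21.PLat

universe u

theorem num_pos {p q n k m : ℕ} (hn : 1 ≤ n) (hq : 1 ≤ q) (hlt : q * (1 + n * p) < p ^ 2)
    (hk : 1 ≤ k) (h : (1 + k * p) * m = q * (1 + n * p)) : k = n := by
  have hp0 : 0 < p := by
    rcases Nat.eq_zero_or_pos p with h0 | h0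
    · rw [h0] at hlt; simp at hlt
    · exact h0
  have hqp : q < p := by
    have h1 : q * p ≤ q * (1 + n * p) := Nat.mul_le_mul_left _ (by nlinarith)
    nlinarith
  have hmp : m < p := by
    have h1 : p * m ≤ (1 + k * p) * m := Nat.mul_le_mul_right _ (by nlinarith)
    nlinarith
  have h2 : m % p = q % p := by
    have h3 : ((1 + k * p) * m) % p = (q * (1 + n * p)) % p := by rw [h]
    have h4 : (1 + k * p) * m = m + k * m * p := by ring
    have h5 : q * (1 + n * p) = q + q * n * p := by ring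
    rw [h4, h5, Nat.add_mul_mod_self_right, Nat.add_mul_mod_self_right] at h3
    exact h3
  rw [Nat.mod_eq_of_lt hmp, Nat.mod_eq_of_lt hqp] at h2
  subst h2
  have h3 : m * (1 + k * p) = m * (1 + n * p) := by rw [← h]; ring
  have h4 := Nat.eq_of_mul_eq_mul_left (by omega) h3
  have h5 : k * p = n * p := by omega
  exact Nat.eq_of_mul_eq_mul_right hp0 h5

theorem num_neg {p q n k m : ℕ} (hn : 2 ≤ n) (hq : 1 ≤ q) (hlt : q * (1 + n * p) < p ^ 2)
    (h : (k * p) * m = m + q * (1 + n * p)) : k = 1 := by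
  have hp0 : 0 < p := by
    rcases Nat.eq_zero_or_pos p with h0 | h0
    · rw [h0] at hlt; simp at hlt
    · exact h0
  have hk : 1 ≤ k := by
    rcases Nat.eq_zero_or_pos k with h0 | h0
    · rw [h0] at h
      have : 0 < q * (1 + n * p) := by positivity
      omega
    · exact h0
  have hqn : q * n < p := by
    have h1 : (q * n) * p < p * p := by nlinarith
    exact Nat.lt_of_mul_lt_mul_right h1
  have hq2 : 2 * q < p := by nlinarith
  have hp3 : 3 ≤ p := by omega
  -- `p` divides `m + q`
  have h2 : p ∣ m + q := by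
    have h3 : m + q + p * (q * n) = p * (k * m) := by
      have : p * (k * m) = (k * p) * m := by ring
      rw [this, h]; ring
    exact (Nat.dvd_add_left (dvd_mul_right _ _)).1 (h3 ▸ dvd_mul_right _ _)
  have hm : m ≤ p + 1 := by
    by_contra hcon
    push Not at hcon
    have h3 : (p - 1) * m ≤ (k * p - 1) * m := Nat.mul_le_mul_right _ (by
      have : 1 * p ≤ k * p := Nat.mul_le_mul_right _ hk
      omega)
    have h4 : (k * p - 1) * m = q * (1 + n * p) := by
      rw [Nat.sub_mul, h, one_mul, Nat.add_sub_cancel_left]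
    rw [h4] at h3
    obtain ⟨r, hr⟩ : ∃ r, p = r + 1 := ⟨p - 1, by omega⟩
    rw [hr] at h3 hlt hcon
    have h5 : r + 1 - 1 = r := by omega
    rw [h5] at h3
    have h6 : r * (r + 3) ≤ r * m := Nat.mul_le_mul_left _ (by omega)
    nlinarith
  obtain ⟨j, hj⟩ := h2
  have hj1 : j = 1 := by
    have h3 : p * j < p * 2 := by omega
    have h4 := Nat.lt_of_mul_lt_mul_left h3
    have h5 : j ≠ 0 := by rintro rfl; omega
    omega
  rw [hj1, mul_one] at hj
  -- `k m = 1 + q n`
  have h3 : p * (k * m) = p * (1 + q * n) := by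
    have : p * (k * m) = (k * p) * m := by ring
    rw [this, h]
    nlinarith
  have h4 := Nat.eq_of_mul_eq_mul_left hp0 h3
  by_contra hne
  have h5 : 2 * m ≤ k * m := Nat.mul_le_mul_right _ (by omega)
  omega

variable {G : Type u} [Group G] [Fintype G] [Fintype (IrrCharacter G)] {p : ℕ} [hp : Fact p.Prime]
  {x0 : G} {a : IrrCharacter G → ℤ} {Y : Finset (IrrCharacter G)} {ε : ℤ} {e n c : ℕ}

theorem degree_gt_one [IsSimpleGroup G] (hG : ¬ IsMulCommutative G) {χ : IrrCharacter G}
    (hχ : χ ≠ triv G) : 1 < charDegree (χ : G → ℂ) := by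
  obtain ⟨d, hd, hd', -⟩ := H21.BrauerSimple.degree_gt_one hG χ hχ
  rw [H82.Deg.charDegree_eq_of hd']
  exact hd

theorem BD.degree_pos_case (h : BD G p x0 a Y ε e n c) [IsSimpleGroup G]
    (hG : ¬ IsMulCommutative G) (hn : 1 ≤ n) (hlt : c * e * (1 + n * p) < p ^ 2)
    {χ : IrrCharacter G} (hχ : a χ = 1) (hχt : χ ≠ triv G) :
    charDegree (χ : G → ℂ) = 1 + n * p := by
  have hp1 := hp.out.one_lt
  obtain ⟨m, hm⟩ := h.hdeg χ (by rw [hχ]; exact one_ne_zero)
  rw [hχ] at hm
  have h1 := degree_gt_one hG hχt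
  have hm0 : 0 < m := by
    by_contra hcon
    push Not at hcon
    have : (p : ℤ) * m ≤ 0 := mul_nonpos_of_nonneg_of_nonpos (by positivity) hcon
    omega
  obtain ⟨k, rfl⟩ : ∃ k : ℕ, m = k := ⟨m.toNat, by omega⟩
  have hD : charDegree (χ : G → ℂ) = 1 + k * p := by
    have : ((charDegree (χ : G → ℂ) : ℕ) : ℤ) = ((1 + k * p : ℕ) : ℤ) := by
      rw [hm]; push_cast; ring
    exact_mod_cast this
  obtain ⟨m', hm'⟩ := h.degree_dvd (χ := χ) (Or.inl (by rw [hχ]; exact one_ne_zero))
  rw [hD] at hm'
  have hq : 1 ≤ c * e := Nat.mul_pos h.c_pos h.e_pos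
  rw [hD, num_pos hn hq hlt (by omega) hm'.symm]

theorem BD.degree_neg_case (h : BD G p x0 a Y ε e n c) (hn : 2 ≤ n)
    (hlt : c * e * (1 + n * p) < p ^ 2) {χ : IrrCharacter G} (hχ : a χ = -1) :
    charDegree (χ : G → ℂ) = p - 1 := by
  have hp1 := hp.out.one_lt
  have hne : a χ ≠ 0 := by rw [hχ]; decide
  obtain ⟨m, hm⟩ := h.hdeg χ hne
  rw [hχ] at hm
  have h1 := H82.Deg.charDegree_pos χ
  have hm0 : 0 < m := by
    by_contra hcon
    push Not at hcon
    have : (p : ℤ) * m ≤ 0 := mul_nonpos_of_nonneg_of_nonpos (by positivity) hcon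
    omega
  obtain ⟨k, rfl⟩ : ∃ k : ℕ, m = k := ⟨m.toNat, by omega⟩
  have hD : charDegree (χ : G → ℂ) + 1 = k * p := by
    have : ((charDegree (χ : G → ℂ) + 1 : ℕ) : ℤ) = ((k * p : ℕ) : ℤ) := by
      push_cast; rw [hm]; ring
    exact_mod_cast this
  obtain ⟨m', hm'⟩ := h.degree_dvd (χ := χ) (Or.inl hne)
  have hq : 1 ≤ c * e := Nat.mul_pos h.c_pos h.e_pos
  have hk := num_neg hn hq hlt (k := k) (m := m') (by rw [← hD, hm']; ring)
  rw [hk, one_mul] at hD
  omega

/-- the kernel of a nontrivial irreducible character of a simple group -/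
theorem ker_trivial [IsSimpleGroup G] {χ : IrrCharacter G} (hχ : χ ≠ triv G) {v : G}
    (hv : (χ : G → ℂ) v = (χ : G → ℂ) 1) : v = 1 := by
  rcases (H82.Deg.ker_normal χ).eq_bot_or_eq_top with h | h
  · have h1 : v ∈ H82.Deg.ker χ := H82.Deg.mem_ker.2 hv
    rw [h, Subgroup.mem_bot] at h1
    exact h1
  · exfalso
    have h1 : ∀ g : G, (χ : G → ℂ) g = (χ : G → ℂ) 1 := fun g => by
      have : g ∈ H82.Deg.ker χ := by rw [h]; trivial
      exact H82.Deg.mem_ker.1 this
    have h2 : classInner (χ : G → ℂ) ((triv G : IrrCharacter G) : G → ℂ) = 0 :=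
      inner_irr_ne χ.2 (triv G).2 (fun h0 => hχ (Subtype.ext h0))
    have h3 : classInner (χ : G → ℂ) ((triv G : IrrCharacter G) : G → ℂ) = (χ : G → ℂ) 1 := by
      have h4 : ∀ g : G, (χ : G → ℂ) g *
          (starRingEnd ℂ) (((triv G : IrrCharacter G) : G → ℂ) g) = (χ : G → ℂ) 1 := by
        intro g
        have : ((triv G : IrrCharacter G) : G → ℂ) g = 1 := by simp
        rw [h1 g, this, map_one, mul_one]
      rw [classInner, Finset.sum_congr rfl (fun g _ => h4 g), Finset.sum_const, Finset.card_univ,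
        nsmul_eq_mul, ← mul_assoc, Nat.card_eq_fintype_card, inv_mul_cancel₀, one_mul]
      exact_mod_cast Fintype.card_ne_zero
    rw [h2] at h3
    exact irr_one_ne_zero χ.2 h3.symm

/-- a block character of degree `p - 1` with value `-1` forces `V = 1` -/
theorem BD.c_eq_one_of_pred (h : BD G p x0 a Y ε e n c) [IsSimpleGroup G] {χ : IrrCharacter G}
    (hχ : a χ = -1) (hD : charDegree (χ : G → ℂ) = p - 1) : c = 1 := by
  have hp1 := hp.out.one_lt
  have hne : a χ ≠ 0 := by rw [hχ]; decide
  have h0 : ∑ k : ZMod p, (χ : G → ℂ) (pw x0 k) = 0 := by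
    rw [h.sum_pw hne, hD, hχ, Nat.cast_sub hp1.le]
    push_cast
    ring
  have hχt : χ ≠ triv G := by
    rintro rfl
    rw [h.htriv] at hχ
    exact absurd hχ (by decide)
  rw [← h.hc]
  have hbot : VV p x0 = ⊥ := by
    rw [eq_bot_iff]
    intro v hv
    exact Subgroup.mem_bot.2 (ker_trivial hχt (h.ker (Or.inl hne) h0 hv))
  rw [hbot, Subgroup.card_bot]

theorem BD.n_pos (h : BD G p x0 a Y ε e n c) [IsSimpleGroup G] (hG : ¬ IsMulCommutative G) :
    1 ≤ n := by
  by_contra hcon
  have hn : n = 0 := by omega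
  have hdvd : p ∣ Nat.card G := by
    rw [h.hcard, mul_assoc, mul_assoc]; exact dvd_mul_right _ _
  apply H21.SylowTools.card_sylow_ne_one hG hdvd
  rw [h.hsyl, hn]
  ring

theorem BD.e_two (h : BD G p x0 a Y ε e n c) [IsSimpleGroup G] (hG : ¬ IsMulCommutative G) :
    2 ≤ e := by
  obtain ⟨Q, hQz⟩ := exists_sylow_eq h.hx0 h.hidx
  have hdvd : p ∣ Nat.card G := by
    rw [h.hcard, mul_assoc, mul_assoc]; exact dvd_mul_right _ _
  have h1 := H21.SylowTools.burnside_not_le hG hdvd Q
  by_contra hcon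
  apply h1
  have he : e = 1 := by
    have := h.e_pos
    omega
  have h2 := h.hcardN
  rw [he, mul_one, ← h.hc, ← (CC_mul h.hx0 h.hidx).2] at h2
  have h3 : CC x0 = Subgroup.normalizer (Subgroup.zpowers x0 : Set G) := by
    apply Subgroup.eq_of_le_of_card_ge (Subgroup.centralizer_le_normalizer _)
    rw [h2]
  rw [hQz, ← h3]

/-- if there are `p + 1` Sylow subgroups, then they are self-centralizing -/
theorem BD.c_eq_one_of_n_one (h : BD G p x0 a Y ε e n c) [IsSimpleGroup G] (hn : n = 1) : c = 1 := by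
  obtain ⟨Q, hQz⟩ := exists_sylow_eq h.hx0 h.hidx
  have hP : ∀ P : Sylow p G, Nat.card (P : Subgroup G) = p := by
    intro P
    have h1 := P.card_eq_multiplicity
    rw [← Q.card_eq_multiplicity] at h1
    rw [h1, hQz]
    exact card_zp h.hx0
  have h1 := H21.PrimeCent.card_centralizer_dvd hP (r := 1) (by rw [h.hsyl, hn]) one_ne_zero Q
  rw [Nat.factorial_one, mul_one, hQz] at h1
  have h2 : Nat.card (Subgroup.centralizer (Subgroup.zpowers x0 : Set G)) = p * c := by
    rw [← h.hc]; exact (CC_mul h.hx0 h.hidx).2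
  rw [h2] at h1
  have h3 := Nat.le_of_dvd hp.out.pos h1
  have h4 : p * c ≤ p * 1 := by omega
  have h5 := Nat.le_of_mul_le_mul_left h4 hp.out.pos
  have := h.c_pos
  omega

theorem BD.cen (h : BD G p x0 a Y ε e n c) (hc : c = 1) :
    Subgroup.centralizer ({x0} : Set G) = Subgroup.zpowers x0 := by
  have h1 := centralizer_pw (x0 := x0) h.hx0 (k := (1 : ZMod p)) one_ne_zero
  rw [pw_one h.hx0] at h1
  rw [h1]
  symm
  apply Subgroup.eq_of_le_of_card_ge
  · exact zp_le_CC h.hx0
  · have h2 : Nat.card (Subgroup.centralizer (Subgroup.zpowers x0 : Set G)) = p * c := by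
      rw [← h.hc]; exact (CC_mul h.hx0 h.hidx).2
    rw [h2, hc, mul_one, card_zp h.hx0]

theorem BD.c_eq_one (h : BD G p x0 a Y ε e n c) [IsSimpleGroup G] (hG : ¬ IsMulCommutative G)
    (hlt : c * e * (1 + n * p) < p ^ 2) : c = 1 := by
  classical
  have hp1 := hp.out.one_lt
  have hn1 := h.n_pos hG
  have he2 := h.e_two hG
  rcases Nat.lt_or_ge n 2 with hn | hn
  · exact h.c_eq_one_of_n_one (by omega)
  · by_cases hneg : ∃ χ, a χ = -1
    · obtain ⟨χ, hχ⟩ := hneg
      exact h.c_eq_one_of_pred hχ (h.degree_neg_case hn hlt hχ)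
    · exfalso
      push Not at hneg
      obtain ⟨θ, hθ⟩ : Y.Nonempty := by
        rw [Finset.nonempty_iff_ne_empty]
        rintro rfl
        have := h.hcardY
        rw [Finset.card_empty, mul_zero] at this
        omega
      have h1 := h.degree_sum hθ
      have h2 : ∀ ψ : IrrCharacter G, a ψ * (charDegree (ψ : G → ℂ) : ℤ) =
          (a ψ * a ψ) * (1 + n * p) - (if ψ = triv G then (n * p : ℤ) else 0) := by
        intro ψ
        by_cases hψ : ψ = triv G
        · rw [if_pos hψ, hψ, h.htriv, triv_degree]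
          push_cast
          ring
        · rw [if_neg hψ]
          rcases h.ha ψ with h3 | h3 | h3
          · rw [h3]; ring
          · rw [h3, h.degree_pos_case hG hn1 hlt h3 hψ]
            push_cast
            ring
          · exact absurd h3 (hneg ψ)
      rw [Finset.sum_congr rfl (fun ψ _ => h2 ψ), Finset.sum_sub_distrib, ← Finset.sum_mul,
        h.hnorm, Finset.sum_ite_eq' Finset.univ (triv G), if_pos (Finset.mem_univ _)] at h1
      have hpos := H82.Deg.charDegree_pos θ
      have h3 : (0 : ℤ) < e * (1 + n * p) - n * p := by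
        have : (2 : ℤ) ≤ e := by exact_mod_cast he2
        nlinarith [(by positivity : (0 : ℤ) ≤ n * p)]
      have hε : ε = 1 := by
        rcases h.hε with h4 | h4
        · exact h4
        · rw [h4] at h1
          have : (0 : ℤ) < charDegree (θ : G → ℂ) := by exact_mod_cast hpos
          omega
      rw [hε, one_mul] at h1
      obtain ⟨f, hf⟩ : ∃ f, e = f + 1 := ⟨e - 1, by omega⟩
      have hD : charDegree (θ : G → ℂ) = e + f * (n * p) := by
        have : ((charDegree (θ : G → ℂ) : ℕ) : ℤ) = ((e + f * (n * p) : ℕ) : ℤ) := by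
          rw [h1, hf]; push_cast; ring
        exact_mod_cast this
      obtain ⟨m, hm⟩ := h.degree_dvd (χ := θ) (Or.inr hθ)
      rw [hD] at hm
      -- `m = c`
      have hf1 : 1 ≤ f := by omega
      have hDp : p ≤ e + f * (n * p) := by
        have h4 : 1 * (1 * p) ≤ f * (n * p) := Nat.mul_le_mul hf1 (Nat.mul_le_mul_right p hn1)
        omega
      have hmp : m < p := by
        have h4 : p * m ≤ (e + f * (n * p)) * m := Nat.mul_le_mul_right _ hDp
        nlinarith
      have hcp : c < p := by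
        have h4 : c * p ≤ c * e * (1 + n * p) := by
          have : p ≤ e * (1 + n * p) := by nlinarith
          calc c * p ≤ c * (e * (1 + n * p)) := Nat.mul_le_mul_left _ this
            _ = _ := by ring
        nlinarith
      have hmod : m ≡ c [MOD p] := by
        have hcop : Nat.gcd p e = 1 := by
          have := h.e_lt
          exact (Nat.Prime.coprime_iff_not_dvd hp.out).2 (fun hd => by
            have := Nat.le_of_dvd (by omega) hd
            omega)
        apply Nat.ModEq.cancel_left_of_coprime hcop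
        have h4 : (e + f * (n * p)) * m ≡ e * m [MOD p] := by
          have : (e + f * (n * p)) * m = e * m + f * n * m * p := by ring
          rw [this]
          exact Nat.add_mul_mod_self_right _ _ _
        have h5 : c * e * (1 + n * p) ≡ e * c [MOD p] := by
          have : c * e * (1 + n * p) = e * c + c * e * n * p := by ring
          rw [this]
          exact Nat.add_mul_mod_self_right _ _ _
        rw [← hm] at h4
        exact h4.symm.trans h5
      have hmc : m = c := by
        have h4 : m % p = c % p := hmod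
        rwa [Nat.mod_eq_of_lt hmp, Nat.mod_eq_of_lt hcp] at h4
      rw [hmc] at hm
      have h6 : c * (e * (1 + n * p)) = c * (e + f * (n * p)) := by
        calc c * (e * (1 + n * p)) = c * e * (1 + n * p) := by ring
          _ = (e + f * (n * p)) * c := hm
          _ = _ := by ring
      have h7 := Nat.eq_of_mul_eq_mul_left h.c_pos h6
      have h8 : e * (1 + n * p) = e + f * (n * p) + n * p := by
        rw [hf]; ring
      have h9 : 0 < n * p := by positivity
      omega

theorem cube {G : Type u} [Group G] [Finite G] [IsSimpleGroup G] (hG : ¬ IsMulCommutative G)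
    {p : ℕ} [hp : Fact p.Prime] (hdvd : p ∣ Nat.card G) (hbig : Nat.card G < p ^ 3) :
    (∃ (F : Type) (_ : Field F) (_ : Fintype F), Fintype.card F = p ∧ 3 < p ∧
      Nonempty (G ≃* Matrix.ProjectiveSpecialLinearGroup (Fin 2) F)) ∨
    (∃ (m : ℕ) (F : Type) (_ : Field F) (_ : Fintype F), Fintype.card F = 2 ^ m ∧
      p = 2 ^ m + 1 ∧ 3 < p ∧ Nonempty (G ≃* Matrix.ProjectiveSpecialLinearGroup (Fin 2) F)) := by
  classical
  let _ : Fintype G := Fintype.ofFinite G
  let _ : Fintype (IrrCharacter G) := Fintype.ofFinite _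
  have hp1 := hp.out.one_lt
  obtain ⟨P⟩ := (inferInstance : Nonempty (Sylow p G))
  obtain ⟨k, hk⟩ := (IsPGroup.iff_card.1 P.2)
  have hpP : p ∣ Nat.card (P : Subgroup G) := P.dvd_card_of_dvd_card hdvd
  have hidx := (P : Subgroup G).card_mul_index
  have hk1 : k = 1 := by
    have hk0 : k ≠ 0 := by
      rintro rfl
      rw [hk, pow_zero] at hpP
      have := Nat.le_of_dvd one_pos hpP
      omega
    by_contra hne
    have hk2 : 2 ≤ k := by omega
    have h1 : p ^ 2 ≤ Nat.card (P : Subgroup G) := by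
      rw [hk]; exact Nat.pow_le_pow_right (by omega) hk2
    have h2 : (P : Subgroup G).index < p := by
      have h3 : p ^ 2 * (P : Subgroup G).index ≤ Nat.card G := by
        rw [← hidx]; exact Nat.mul_le_mul_right _ h1
      have h4 : p ^ 2 * (P : Subgroup G).index < p ^ 2 * p := by
        have : p ^ 3 = p ^ 2 * p := by ring
        omega
      exact Nat.lt_of_mul_lt_mul_left h4
    have h3 := P.card_dvd_index
    have h4 := Nat.le_of_dvd (Nat.pos_of_ne_zero Subgroup.index_ne_zero_of_finite) h3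
    have h5 : Nat.card (Sylow p G) % p = 1 % p := card_sylow_modEq_one p G
    rw [Nat.mod_eq_of_lt (by omega), Nat.mod_eq_of_lt hp1] at h5
    exact H21.SylowTools.card_sylow_ne_one hG hdvd h5
  rw [hk1, pow_one] at hk
  obtain ⟨x0, hx0P, hx0⟩ := H21.CommAct.exists_orderOf_eq_of_sylow P hk
  have hz : Subgroup.zpowers x0 = (P : Subgroup G) := by
    apply Subgroup.eq_of_le_of_card_ge (Subgroup.zpowers_le.2 hx0P)
    rw [hk, Nat.card_zpowers, hx0]
  have hidx' : ¬ p ∣ (Subgroup.zpowers x0).index := by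
    rw [hz]; exact P.not_dvd_index
  obtain ⟨a, Y, ε, e, n, c, h⟩ := exists_BD hx0 hidx'
  have hlt : c * e * (1 + n * p) < p ^ 2 := by
    rw [h.hcard] at hbig
    have h1 : p * c * e * (1 + n * p) = p * (c * e * (1 + n * p)) := by ring
    have h2 : p ^ 3 = p * p ^ 2 := by ring
    rw [h1, h2] at hbig
    exact Nat.lt_of_mul_lt_mul_left hbig
  have hc := h.c_eq_one hG hlt
  have he2 := h.e_two hG
  apply H21.SelfC.simple_case hG hx0 (h.cen hc)
  rw [h.hsyl]
  rw [hc, one_mul] at hlt
  nlinarith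

end H21.BK
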