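import Cfsg.Agent.Lib.H21.BK2
import Cfsg.Agent.Lib.H1.Cores
import Cfsg.Agent.Lib.H74.SylNum

/-!
Perfect groups whose Sylow subgroup has prime order, without normal subgroups of order prime to `p`.
-/

set_option autoImplicit false
set_option linter.unusedSectionVars false

namespace H21.BK

open Cfsg H18.CharBasic H18.CharOrtho H18.CharInd H21.PLat

universe u

section perfect

variable {G : Type u} [Group G]

theorem hom_trivial_of_perfect (hperf : commutator G = ⊤) {A : Type*} [CommGroup A] (f : G →* A)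
    (g : G) : f g = 1 := by
  have h1 : g ∈ commutator G := by rw [hperf]; trivial
  exact MonoidHom.mem_ker.1 (Abelianization.commutator_subset_ker f h1)

theorem degree_gt_one_perf [Finite G] (hperf : commutator G = ⊤) {χ : IrrCharacter G}
    (hχ : χ ≠ triv G) : 1 < charDegree (χ : G → ℂ) := by
  have h1 := H82.Deg.charDegree_pos χ
  by_contra hcon
  have h2 : charDegree (χ : G → ℂ) = 1 := by omega
  have h3 := H82.Deg.coe_charDegree' χ
  rw [h2, Nat.cast_one] at h3
  obtain ⟨f, hf⟩ := H18.CharQuot.exists_hom_of_degree_one (isCharacter_of_isIrr χ.2) h3.symm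
  apply hχ
  apply Subtype.ext
  rw [hf]
  funext g
  rw [hom_trivial_of_perfect hperf f g]
  simp

theorem perfect_quotient (hperf : commutator G = ⊤) (K : Subgroup G) [K.Normal] :
    commutator (G ⧸ K) = ⊤ := by
  rw [commutator_def, ← Subgroup.map_top_of_surjective (QuotientGroup.mk' K)
      (QuotientGroup.mk'_surjective K), ← Subgroup.map_commutator, ← commutator_def, hperf]

end perfect

variable {G : Type u} [Group G] [Fintype G] [Fintype (IrrCharacter G)] {p : ℕ} [hp : Fact p.Prime]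
  {x0 : G} {a : IrrCharacter G → ℤ} {Y : Finset (IrrCharacter G)} {ε : ℤ} {e n c : ℕ}

theorem BD.perf_e_two (h : BD G p x0 a Y ε e n c) (hperf : commutator G = ⊤) : 2 ≤ e := by
  obtain ⟨Q, hQz⟩ := exists_sylow_eq h.hx0 h.hidx
  by_contra hcon
  have he : e = 1 := by
    have := h.e_pos
    omega
  have h2 := h.hcardN
  rw [he, mul_one, ← h.hc, ← (CC_mul h.hx0 h.hidx).2] at h2
  have h3 : CC x0 = Subgroup.normalizer (Subgroup.zpowers x0 : Set G) := by
    apply Subgroup.eq_of_le_of_card_ge (Subgroup.centralizer_le_normalizer _)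
    rw [h2]
  have h4 : Subgroup.normalizer (Q : Set G) ≤ Subgroup.centralizer (Q : Set G) := by
    have h5 : (Q : Set G) = (Subgroup.zpowers x0 : Set G) := by rw [← hQz]; rfl
    rw [h5, ← h3]
  have hcomm : IsMulCommutative (Q : Subgroup G) := by
    rw [hQz]; infer_instance
  have h6 := MonoidHom.ker_transferSylow_isComplement' Q h4
  have h7 : (MonoidHom.transferSylow Q h4).ker = ⊤ := by
    rw [eq_top_iff]
    intro g _
    rw [MonoidHom.mem_ker]
    let _ : CommGroup (Q : Subgroup G) := { (inferInstance : Group (Q : Subgroup G)) with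
      mul_comm := fun a b => hcomm.is_comm.comm a b }
    exact hom_trivial_of_perfect hperf (MonoidHom.transferSylow Q h4) g
  rw [h7] at h6
  have h8 := h6.card_mul_card
  rw [Subgroup.card_top, hQz, card_zp h.hx0] at h8
  have h9 : 0 < Nat.card G := Nat.card_pos
  have h10 := hp.out.one_lt
  nlinarith

theorem BD.perf_n_pos (h : BD G p x0 a Y ε e n c) (hperf : commutator G = ⊤) : 1 ≤ n := by
  by_contra hcon
  have hn : n = 0 := by omega
  have he2 := h.perf_e_two hperf
  have h1 : Subgroup.normalizer (Subgroup.zpowers x0 : Set G) = ⊤ := by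
    apply Subgroup.eq_top_of_card_eq
    rw [h.hcardN, h.hcard, hn]
    ring
  have h2 : ∀ g : Subgroup.normalizer (Subgroup.zpowers x0 : Set G), psi h.hx0 g = 1 := by
    rintro ⟨g, hg⟩
    let f : G →* (ZMod p)ˣ := (psi h.hx0).comp
      ((MulEquiv.subgroupCongr h1.symm).toMonoidHom.comp Subgroup.topEquiv.symm.toMonoidHom)
    exact hom_trivial_of_perfect hperf f g
  have h3 : (psi h.hx0).ker = ⊤ := by
    rw [eq_top_iff]
    intro g _
    exact h2 g
  rw [psi_ker, Subgroup.subgroupOf_eq_top] at h3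
  have h4 := Nat.le_of_dvd Nat.card_pos (Subgroup.card_dvd_of_le h3)
  have h5 : Nat.card (Subgroup.centralizer (Subgroup.zpowers x0 : Set G)) = p * c := by
    rw [← h.hc]; exact (CC_mul h.hx0 h.hidx).2
  rw [h5, h.hcardN] at h4
  have h6 : 0 < p * c := Nat.mul_pos hp.out.pos h.c_pos
  nlinarith

theorem BD.index_pw (h : BD G p x0 a Y ε e n c) {k : ZMod p} (hk : k ≠ 0) :
    (Subgroup.centralizer ({pw x0 k} : Set G)).index = e * (1 + n * p) := by
  have h1 := (Subgroup.centralizer ({pw x0 k} : Set G)).card_mul_index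
  rw [centralizer_pw h.hx0 hk, h.hcard] at h1
  have h5 : Nat.card (Subgroup.centralizer (Subgroup.zpowers x0 : Set G)) = p * c := by
    rw [← h.hc]; exact (CC_mul h.hx0 h.hidx).2
  rw [h5, mul_assoc (p * c)] at h1
  rw [centralizer_pw h.hx0 hk]
  exact Nat.eq_of_mul_eq_mul_left (Nat.mul_pos hp.out.pos h.c_pos) h1

/-- the degrees of the nonexceptional characters divide `e (1 + n p)` -/
theorem BD.dvd_e (h : BD G p x0 a Y ε e n c) {χ : IrrCharacter G} (hχ : a χ ≠ 0) :
    charDegree (χ : G → ℂ) ∣ e * (1 + n * p) := by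
  have h1 := H4.Integral.isIntegral_omega' χ.2 (pw x0 (1 : ZMod p))
  rw [h.index_pw one_ne_zero, h.hval χ hχ 1 one_ne_zero, ← H82.Deg.coe_charDegree'] at h1
  apply H82.Deg.dvd_of_isIntegral_div (H82.Deg.charDegree_ne_zero χ)
  rcases h.ha χ with h2 | h2 | h2
  · exact absurd h2 hχ
  · rw [h2, Int.cast_one, mul_one] at h1
    exact h1
  · rw [h2, Int.cast_neg, Int.cast_one, mul_neg, mul_one, neg_div] at h1
    have h3 := h1.neg
    rw [neg_neg] at h3
    exact h3

/-- the degrees of the exceptional characters divide `e² (1 + n p)` -/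
theorem BD.dvd_e_sq (h : BD G p x0 a Y ε e n c) {θ : IrrCharacter G} (hθ : θ ∈ Y) :
    charDegree (θ : G → ℂ) ∣ e * e * (1 + n * p) := by
  have h1 : IsIntegral ℤ (∑ k ∈ Finset.univ.erase (0 : ZMod p),
      (((Subgroup.centralizer ({pw x0 k} : Set G)).index : ℂ) * (θ : G → ℂ) (pw x0 k) /
        (θ : G → ℂ) 1)) :=
    IsIntegral.sum _ fun k _ => H4.Integral.isIntegral_omega' θ.2 _
  have h2 : ∑ k ∈ Finset.univ.erase (0 : ZMod p),
      (((Subgroup.centralizer ({pw x0 k} : Set G)).index : ℂ) * (θ : G → ℂ) (pw x0 k) /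
        (θ : G → ℂ) 1) = -(ε * (((e * e * (1 + n * p) : ℕ) : ℂ) / (charDegree (θ : G → ℂ) : ℂ))) := by
    rw [← H82.Deg.coe_charDegree', ← Finset.sum_div]
    rw [Finset.sum_congr rfl (fun k hk => by rw [h.index_pw (Finset.ne_of_mem_erase hk)]),
      ← Finset.mul_sum, h.hYsum θ hθ]
    push_cast
    ring
  rw [h2] at h1
  apply H82.Deg.dvd_of_isIntegral_div (H82.Deg.charDegree_ne_zero θ)
  rcases h.hε with h3 | h3
  · rw [h3, Int.cast_one, one_mul] at h1
    have := h1.neg
    rwa [neg_neg] at this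
  · rw [h3, Int.cast_neg, Int.cast_one, neg_mul, one_mul, neg_neg] at h1
    exact h1

theorem BD.exists_s (h : BD G p x0 a Y ε e n c) : ∃ s : ℕ, 1 ≤ s ∧ p = e * s + 1 ∧ Y.card = s := by
  have h1 := h.hcardY
  have h2 := hp.out.one_lt
  refine ⟨Y.card, ?_, by omega, rfl⟩
  rcases Nat.eq_zero_or_pos Y.card with h0 | h0
  · rw [h0, mul_zero] at h1; omega
  · exact h0

theorem BD.perf_pos (h : BD G p x0 a Y ε e n c) (hperf : commutator G = ⊤)
    (hNF : H21.SCNum.NF p n) {χ : IrrCharacter G} (hχ : a χ = 1) (hχt : χ ≠ triv G) :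
    charDegree (χ : G → ℂ) = 1 + n * p := by
  obtain ⟨s, hs1, hes, -⟩ := h.exists_s
  have hne : a χ ≠ 0 := by rw [hχ]; decide
  obtain ⟨k, hk⟩ := h.dvd_e hne
  obtain ⟨m, hm⟩ := h.hdeg χ hne
  rw [hχ] at hm
  have hD := degree_gt_one_perf hperf hχt
  have he := h.e_pos
  have hp0 : (0 : ℤ) < p := by exact_mod_cast hp.out.pos
  have hm1 : 1 ≤ m := by
    by_contra hcon
    push Not at hcon
    have h3 : (1 : ℤ) < charDegree (χ : G → ℂ) := by exact_mod_cast hD
    nlinarith
  have hk0 : 0 < k := by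
    rcases Nat.eq_zero_or_pos k with h0 | h0
    · rw [h0, mul_zero] at hk
      have : 0 < e * (1 + n * p) := by positivity
      omega
    · exact h0
  have hkZ : (1 + m * p) * (k : ℤ) = e * (1 + n * p) := by
    have h3 : ((e * (1 + n * p) : ℕ) : ℤ) = ((charDegree (χ : G → ℂ) * k : ℕ) : ℤ) := by rw [hk]
    push_cast at h3
    rw [h3, hm]
    ring
  have h4 := H21.SCNum.numA (by exact_mod_cast hes : (p : ℤ) = e * s + 1)
    (by exact_mod_cast he) (by exact_mod_cast hs1) hm1 hNF (by exact_mod_cast hk0) hkZ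
  have : (charDegree (χ : G → ℂ) : ℤ) = 1 + n * p := by rw [hm, h4]; ring
  exact_mod_cast this

theorem numAm' {e s n u k p : ℤ} (hp : p = e * s + 1) (he : 1 ≤ e) (hs : 1 ≤ s) (hu : 1 ≤ u)
    (hn : H21.SCNum.NF p n) (hk0 : 0 < k) (hk : (u * p - 1) * k = e * (1 + n * p)) :
    u = 1 ∨ (s = 1 ∧ k = 1) := by
  have hep : e < p := by nlinarith
  obtain ⟨h, hh⟩ : ∃ h, k = h * p - e := ⟨u * k - e * n, by linear_combination -hk⟩
  have hh0 : 1 ≤ h := by
    by_contra hcon
    push Not at hcon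
    nlinarith
  have heq : h * (u * p - 1) = e * (n + u) := by
    have hp0 : p ≠ 0 := by omega
    apply mul_left_cancel₀ hp0
    rw [hh] at hk
    linear_combination hk
  rcases eq_or_lt_of_le hu with h1 | h1
  · exact Or.inl h1.symm
  · right
    by_cases h2 : 2 ≤ h * s
    · exact absurd (H21.SCNum.keyM hp he hs (by omega) hn h2 heq hh0) id
    · have h3 : h = 1 := by nlinarith
      have h4 : s = 1 := by rw [h3] at h2; omega
      refine ⟨h4, ?_⟩
      rw [hh, h3, hp, h4]
      ring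

theorem BD.perf_neg (h : BD G p x0 a Y ε e n c) (hNF : H21.SCNum.NF p n) {χ : IrrCharacter G}
    (hχ : a χ = -1) : charDegree (χ : G → ℂ) = p - 1 ∨
      (p = e + 1 ∧ charDegree (χ : G → ℂ) = e * (1 + n * p)) := by
  obtain ⟨s, hs1, hes, -⟩ := h.exists_s
  have hne : a χ ≠ 0 := by rw [hχ]; decide
  obtain ⟨k, hk⟩ := h.dvd_e hne
  obtain ⟨m, hm⟩ := h.hdeg χ hne
  rw [hχ] at hm
  have hD := H82.Deg.charDegree_pos χ
  have he := h.e_pos
  have hp1 := hp.out.one_lt
  have hp0 : (0 : ℤ) < p := by exact_mod_cast hp.out.pos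
  have hm1 : 1 ≤ m := by
    by_contra hcon
    push Not at hcon
    have h3 : (0 : ℤ) < charDegree (χ : G → ℂ) := by exact_mod_cast hD
    nlinarith
  have hk0 : 0 < k := by
    rcases Nat.eq_zero_or_pos k with h0 | h0
    · rw [h0, mul_zero] at hk
      have : 0 < e * (1 + n * p) := by positivity
      omega
    · exact h0
  have hkZ : (m * p - 1) * (k : ℤ) = e * (1 + n * p) := by
    have h3 : ((e * (1 + n * p) : ℕ) : ℤ) = ((charDegree (χ : G → ℂ) * k : ℕ) : ℤ) := by rw [hk]
    push_cast at h3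
    rw [h3, hm]
    ring
  rcases numAm' (by exact_mod_cast hes : (p : ℤ) = e * s + 1)
    (by exact_mod_cast he) (by exact_mod_cast hs1) hm1 hNF (by exact_mod_cast hk0) hkZ with h4 | h4
  · left
    rw [h4] at hm
    omega
  · right
    obtain ⟨h5, h6⟩ := h4
    have h5' : s = 1 := by exact_mod_cast h5
    have h6' : k = 1 := by exact_mod_cast h6
    refine ⟨by rw [hes, h5', mul_one], ?_⟩
    rw [hk, h6', mul_one]

theorem num1 {p n u k : ℤ} (hp : 3 ≤ p) (hn : 1 ≤ n) (hu : 1 ≤ u) (hk : 0 < k)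
    (h : (u * p - 1) * k = (p - 1) ^ 2) (hd : (1 + n * p) ∣ (u * p - 1) - 1) : False := by
  obtain ⟨v, hv⟩ : ∃ v, k = v * p - 1 := ⟨u * k - p + 2, by linear_combination -h⟩
  have hv1 : 1 ≤ v := by
    by_contra hcon
    push Not at hcon
    nlinarith
  have hu1 : u = 1 := by
    by_contra hne
    have hu2 : 2 ≤ u := by omega
    have h1 : p - 1 ≤ k := by rw [hv]; nlinarith
    have h2 : 2 * p - 1 ≤ u * p - 1 := by nlinarith
    nlinarith
  rw [hu1, one_mul] at hd
  have h1 := Int.le_of_dvd (by omega) hd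
  nlinarith

theorem num2 {p n u k : ℤ} (hp : 3 ≤ p) (hodd : ¬ (2 : ℤ) ∣ p) (hn : 1 ≤ n) (hu : 1 ≤ u) (hk : 0 < k)
    (h : (1 + u * p) * k = (p - 1) ^ 2) (hd : (1 + n * p) ∣ -(1 + u * p) - 1) : False := by
  obtain ⟨v, hv⟩ : ∃ v, k = 1 + v * p := ⟨-u * k + p - 2, by linear_combination h⟩
  have hv0 : 0 ≤ v := by
    by_contra hcon
    push Not at hcon
    nlinarith
  have hv1 : v = 0 := by
    by_contra hne
    have hv2 : 1 ≤ v := by omega
    have h1 : p + 1 ≤ k := by rw [hv]; nlinarith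
    have h2 : p + 1 ≤ 1 + u * p := by nlinarith
    nlinarith
  rw [hv1, zero_mul, add_zero] at hv
  rw [hv, mul_one] at h
  rw [h] at hd
  obtain ⟨j, hj⟩ := hd
  obtain ⟨i, hi⟩ : ∃ i, -j = 2 + i * p := ⟨n * j + p - 2, by linear_combination hj⟩
  have hj0 : 0 < -j := by
    by_contra hcon
    push Not at hcon
    have h1 : 0 < 1 + n * p := by nlinarith
    nlinarith
  have hi0 : 0 ≤ i := by
    by_contra hcon
    push Not at hcon
    nlinarith
  have h3 : p * (2 * n + i + i * n * p) = p * (p - 2) := by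
    have h4 : j = -(2 + i * p) := by omega
    rw [h4] at hj
    linear_combination hj
  have h4 := mul_left_cancel₀ (by omega : p ≠ 0) h3
  rcases eq_or_lt_of_le hi0 with h5 | h5
  · rw [← h5] at h4
    apply hodd
    exact ⟨n + 1, by linear_combination -h4⟩
  · have h6 : p ≤ i * n * p := by
      have : 1 ≤ i * n := by nlinarith
      nlinarith
    nlinarith

theorem BD.exists_Y (h : BD G p x0 a Y ε e n c) : ∃ θ, θ ∈ Y := by
  obtain ⟨s, hs1, -, hs⟩ := h.exists_s
  have h1 : Y.Nonempty := by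
    rw [← Finset.card_pos, hs]
    omega
  exact h1

theorem BD.triv_notin (h : BD G p x0 a Y ε e n c) {θ : IrrCharacter G} (hθ : θ ∈ Y) :
    θ ≠ triv G := by
  rintro rfl
  have h1 := h.hYa _ hθ
  rw [h.htriv] at h1
  exact one_ne_zero h1

theorem BD.exists_pred (h : BD G p x0 a Y ε e n c) (hperf : commutator G = ⊤)
    (hNF : H21.SCNum.NF p n) : ∃ χ, a χ = -1 ∧ charDegree (χ : G → ℂ) = p - 1 := by
  classical
  by_contra hcon
  push Not at hcon
  have hp1 := hp.out.one_lt
  have he2 := h.perf_e_two hperf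
  have hn1 := h.perf_n_pos hperf
  obtain ⟨s, hs1, hes, hYs⟩ := h.exists_s
  have hneg : ∀ χ, a χ = -1 → p = e + 1 ∧ charDegree (χ : G → ℂ) = e * (1 + n * p) :=
    fun χ hχ => (h.perf_neg hNF hχ).resolve_left (hcon χ hχ)
  obtain ⟨θ, hθ⟩ := h.exists_Y
  have h1 := h.degree_sum hθ
  have hdv : ((1 + n * p : ℕ) : ℤ) ∣ ε * (charDegree (θ : G → ℂ) : ℤ) - 1 := by
    have h2 : ε * (charDegree (θ : G → ℂ) : ℤ) - 1 = ∑ ψ : IrrCharacter G,
        (a ψ * (charDegree (ψ : G → ℂ) : ℤ) - (if ψ = triv G then 1 else 0)) := by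
      rw [Finset.sum_sub_distrib, ← h1, Finset.sum_ite_eq' Finset.univ (triv G),
        if_pos (Finset.mem_univ _)]
    rw [h2]
    apply Finset.dvd_sum
    intro ψ _
    by_cases hψ : ψ = triv G
    · rw [if_pos hψ, hψ, h.htriv, triv_degree]
      simp
    · rw [if_neg hψ, sub_zero]
      rcases h.ha ψ with h3 | h3 | h3
      · rw [h3, zero_mul]; exact dvd_zero _
      · rw [h3, h.perf_pos hperf hNF h3 hψ, one_mul]
      · rw [(hneg ψ h3).2]
        exact ⟨a ψ * e, by push_cast; ring⟩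
  have hcop : Nat.Coprime (charDegree (θ : G → ℂ)) (1 + n * p) := by
    rw [← Nat.isCoprime_iff_coprime]
    obtain ⟨t, ht⟩ := hdv
    refine ⟨ε, -t, ?_⟩
    linear_combination ht
  have hdE : charDegree (θ : G → ℂ) ∣ e * e := hcop.dvd_of_dvd_mul_right (h.dvd_e_sq hθ)
  have hDle := Nat.le_of_dvd (by positivity) hdE
  rcases Nat.lt_or_ge s 2 with hs | hs
  · have hs' : s = 1 := by omega
    rw [hs', mul_one] at hes
    have hp3 : 3 ≤ p := by omega
    obtain ⟨k, hk⟩ := hdE
    have hk0 : 0 < k := by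
      rcases Nat.eq_zero_or_pos k with h0 | h0
      · rw [h0, mul_zero] at hk
        have : 0 < e * e := by positivity
        omega
      · exact h0
    have heZ : (e : ℤ) = p - 1 := by omega
    have hkZ : (charDegree (θ : G → ℂ) : ℤ) * k = ((p : ℤ) - 1) ^ 2 := by
      have h3 : ((e * e : ℕ) : ℤ) = ((charDegree (θ : G → ℂ) * k : ℕ) : ℤ) := by rw [hk]
      push_cast at h3
      rw [heZ] at h3
      linear_combination -h3
    obtain ⟨m, hm⟩ := h.hdegY θ hθ
    push_cast at hdv
    have hD1 := degree_gt_one_perf hperf (h.triv_notin hθ)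
    have hD1' : (1 : ℤ) < charDegree (θ : G → ℂ) := by exact_mod_cast hD1
    have hp0 : (0 : ℤ) < p := by exact_mod_cast hp.out.pos
    rcases h.hε with h4 | h4
    · rw [h4, one_mul, heZ] at hm
      rw [h4, one_mul] at hdv
      have h5 : (charDegree (θ : G → ℂ) : ℤ) = (m + 1) * p - 1 := by rw [hm]; ring
      rw [h5] at hdv hkZ hD1'
      refine num1 (n := (n : ℤ)) (by exact_mod_cast hp3) (by exact_mod_cast hn1) ?_ (by exact_mod_cast hk0) hkZ hdv
      by_contra hcc
      push Not at hcc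
      nlinarith
    · rw [h4, heZ] at hm
      rw [h4] at hdv
      have h5 : (charDegree (θ : G → ℂ) : ℤ) = 1 + (m - 1) * p := by rw [hm]; ring
      rw [h5] at hdv hkZ hD1'
      refine num2 (n := (n : ℤ)) (by exact_mod_cast hp3) ?_ (by exact_mod_cast hn1) ?_ (by exact_mod_cast hk0) hkZ
        (by rwa [neg_one_mul] at hdv)
      · intro hd
        have hd' : 2 ∣ p := by exact_mod_cast hd
        rcases (Nat.dvd_prime hp.out).1 hd' with h6 | h6 <;> omega
      · by_contra hcc
        push Not at hcc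
        nlinarith
  · -- no negative characters
    have hneg' : ∀ χ, a χ ≠ -1 := by
      intro χ hχ
      have h3 := (hneg χ hχ).1
      have h4 : e * 2 ≤ e * s := Nat.mul_le_mul_left _ hs
      omega
    have h2 : ∀ ψ : IrrCharacter G, a ψ * (charDegree (ψ : G → ℂ) : ℤ) =
        (a ψ * a ψ) * (1 + n * p) - (if ψ = triv G then (n * p : ℤ) else 0) := by
      intro ψ
      by_cases hψ : ψ = triv G
      · rw [if_pos hψ, hψ, h.htriv, triv_degree]
        push_cast
        ring
      · rw [if_neg hψ]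
        rcases h.ha ψ with h3 | h3 | h3
        · rw [h3]; ring
        · rw [h3, h.perf_pos hperf hNF h3 hψ]
          push_cast
          ring
        · exact absurd h3 (hneg' ψ)
    rw [Finset.sum_congr rfl (fun ψ _ => h2 ψ), Finset.sum_sub_distrib, ← Finset.sum_mul,
      h.hnorm, Finset.sum_ite_eq' Finset.univ (triv G), if_pos (Finset.mem_univ _)] at h1
    have hpos := H82.Deg.charDegree_pos θ
    have h3 : (0 : ℤ) < e * (1 + n * p) - n * p := by
      have : (2 : ℤ) ≤ e := by exact_mod_cast he2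
      nlinarith [(by positivity : (0 : ℤ) ≤ n * p)]
    have hε : ε = 1 := by
      rcases h.hε with h4 | h4
      · exact h4
      · rw [h4] at h1
        have : (0 : ℤ) < charDegree (θ : G → ℂ) := by exact_mod_cast hpos
        omega
    rw [hε, one_mul] at h1
    have h4 : (charDegree (θ : G → ℂ) : ℤ) ≤ e * e := by exact_mod_cast hDle
    rw [h1] at h4
    have h5 : (e : ℤ) * 2 + 1 ≤ p := by
      have : e * 2 + 1 ≤ p := by
        have : e * 2 ≤ e * s := Nat.mul_le_mul_left _ hs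
        omega
      exact_mod_cast this
    have h6 : (p : ℤ) ≤ n * p := by
      have : 1 * p ≤ n * p := Nat.mul_le_mul_right _ hn1
      have h7 : p ≤ n * p := by omega
      exact_mod_cast h7
    have h7 : (2 : ℤ) ≤ e := by exact_mod_cast he2
    nlinarith

theorem BD.mem_of_dvd (h : BD G p x0 a Y ε e n c) (N : Subgroup G) [hN : N.Normal]
    (hd : p ∣ Nat.card N) : x0 ∈ N := by
  obtain ⟨P, hP⟩ := exists_sylow_eq h.hx0 h.hidx
  obtain ⟨⟨y, hyK⟩, hy⟩ := exists_prime_orderOf_dvd_card' p hd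
  rw [Subgroup.orderOf_mk] at hy
  have hpg' : IsPGroup p (Subgroup.zpowers y) := by
    rw [IsPGroup.iff_card]
    exact ⟨1, by rw [Nat.card_zpowers, hy, pow_one]⟩
  obtain ⟨Q, hQ⟩ := hpg'.exists_le_sylow
  have hQc : Nat.card (Q : Subgroup G) = p := by
    have h1 := Q.card_eq_multiplicity
    rw [← P.card_eq_multiplicity] at h1
    have h2 : Nat.card (P : Subgroup G) = p := by rw [hP]; exact card_zp h.hx0
    exact h1.trans h2
  have hQy : Subgroup.zpowers y = (Q : Subgroup G) := by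
    apply Subgroup.eq_of_le_of_card_ge hQ
    rw [hQc, Nat.card_zpowers, hy]
  obtain ⟨g, hg⟩ := MulAction.exists_smul_eq G Q P
  have hx : x0 ∈ (P : Subgroup G) := by rw [hP]; exact Subgroup.mem_zpowers x0
  rw [← hg] at hx
  have hx' : x0 ∈ g • Q := hx
  rw [H21.SelfC.mem_smul_sylow] at hx'
  have h1 : g⁻¹ * x0 * g ∈ Subgroup.zpowers y := by rw [hQy]; exact hx'
  have h2 : g⁻¹ * x0 * g ∈ N := (Subgroup.zpowers_le.2 hyK) h1
  have h3 := hN.conj_mem _ h2 g
  have h4 : g * (g⁻¹ * x0 * g) * g⁻¹ = x0 := by group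
  rwa [h4] at h3

theorem BD.dvd_card_of_core (h : BD G p x0 a Y ε e n c) (hcore : pPrimeCore p G = ⊥)
    (N : Subgroup G) [hN : N.Normal] (hne : N ≠ ⊥) : p ∣ Nat.card N := by
  by_contra hd
  apply hne
  rw [eq_bot_iff, ← hcore]
  exact H1.Cores.le_pPrimeCore hN ((Nat.Prime.coprime_iff_not_dvd hp.out).2 hd).symm

theorem BD.perf_c_one (h : BD G p x0 a Y ε e n c) (hperf : commutator G = ⊤)
    (hNF : H21.SCNum.NF p n) (hcore : pPrimeCore p G = ⊥) : c = 1 := by
  obtain ⟨χ, hχ, hD⟩ := h.exists_pred hperf hNF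
  have hp1 := hp.out.one_lt
  have hne : a χ ≠ 0 := by rw [hχ]; decide
  have h0 : ∑ k : ZMod p, (χ : G → ℂ) (pw x0 k) = 0 := by
    rw [h.sum_pw hne, hD, hχ, Nat.cast_sub hp1.le]
    push_cast
    ring
  have hker : H82.Deg.ker χ = ⊥ := by
    by_contra hb
    have hnorm : (H82.Deg.ker χ).Normal := H82.Deg.ker_normal χ
    have h1 := h.mem_of_dvd (H82.Deg.ker χ) (h.dvd_card_of_core hcore (H82.Deg.ker χ) hb)
    have h2 := H82.Deg.mem_ker.1 h1
    have h3 := h.hval χ hne 1 one_ne_zero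
    rw [pw_one h.hx0, h2, ← H82.Deg.coe_charDegree', hχ] at h3
    have h4 : ((charDegree (χ : G → ℂ) : ℕ) : ℤ) = -1 := by exact_mod_cast h3
    omega
  rw [← h.hc]
  have hbot : VV p x0 = ⊥ := by
    rw [eq_bot_iff]
    intro v hv
    have h1 : v ∈ H82.Deg.ker χ := H82.Deg.mem_ker.2 (h.ker (Or.inl hne) h0 hv)
    rwa [hker] at h1
  rw [hbot, Subgroup.card_bot]

theorem BD.perf_simple (h : BD G p x0 a Y ε e n c) (hperf : commutator G = ⊤)
    (hNF : H21.SCNum.NF p n) (hcore : pPrimeCore p G = ⊥) : IsSimpleGroup G := by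
  have hc := h.perf_c_one hperf hNF hcore
  have hC := h.cen hc
  have hx1 : x0 ≠ 1 := by
    intro h0
    have := h.hx0
    rw [h0, orderOf_one] at this
    exact hp.out.one_lt.ne this
  have hnt : Nontrivial G := ⟨⟨x0, 1, hx1⟩⟩
  obtain ⟨P, hP⟩ := exists_sylow_eq h.hx0 h.hidx
  refine ⟨fun K hK => ?_⟩
  by_cases hb : K = ⊥
  · exact Or.inl hb
  · right
    have h1 := h.mem_of_dvd K (h.dvd_card_of_core hcore K hb)
    have hPK : (P : Subgroup G) ≤ K := by
      rw [hP]; exact Subgroup.zpowers_le.2 h1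
    have h2 := Sylow.normalizer_sup_eq_top' P hPK
    apply H21.SelfC.eq_top_of_sup hperf K (Subgroup.normalizer (Subgroup.zpowers x0 : Set G))
      (H21.SelfC.solvable_normalizer h.hx0 hC)
    rw [sup_comm, ← hP]
    exact h2

theorem not_comm_of_perfect {G : Type*} [Group G] [Nontrivial G] (hperf : commutator G = ⊤) :
    ¬ IsMulCommutative G := by
  intro hcomm
  have h1 : commutator G = ⊥ := by
    rw [commutator_eq_bot_iff_center_eq_top, Subgroup.center_eq_top_iff]
    exact hcomm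
  rw [h1] at hperf
  exact bot_ne_top hperf

/-- perfect groups without normal subgroups of order prime to `p` -/
theorem core_case {G : Type u} [Group G] [Finite G] (hperf : commutator G = ⊤)
    {p : ℕ} [hp : Fact p.Prime] (P : Sylow p G) (hP : Nat.card P = p)
    (hcore : pPrimeCore p G = ⊥)
    (hNF : ∀ n : ℕ, Nat.card (Sylow p G) = 1 + n * p → H21.SCNum.NF p n) :
    (∃ (F : Type) (_ : Field F) (_ : Fintype F), Fintype.card F = p ∧ 3 < p ∧
      Nonempty (G ≃* Matrix.ProjectiveSpecialLinearGroup (Fin 2) F)) ∨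
    (∃ (m : ℕ) (F : Type) (_ : Field F) (_ : Fintype F), Fintype.card F = 2 ^ m ∧
      p = 2 ^ m + 1 ∧ 3 < p ∧ Nonempty (G ≃* Matrix.ProjectiveSpecialLinearGroup (Fin 2) F)) := by
  classical
  let _ : Fintype G := Fintype.ofFinite G
  let _ : Fintype (IrrCharacter G) := Fintype.ofFinite _
  obtain ⟨x0, hx0P, hx0⟩ := H21.CommAct.exists_orderOf_eq_of_sylow P hP
  have hz : Subgroup.zpowers x0 = (P : Subgroup G) := by
    apply Subgroup.eq_of_le_of_card_ge (Subgroup.zpowers_le.2 hx0P)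
    rw [hP, Nat.card_zpowers, hx0]
  have hidx' : ¬ p ∣ (Subgroup.zpowers x0).index := by
    rw [hz]; exact P.not_dvd_index
  obtain ⟨a, Y, ε, e, n, c, h⟩ := exists_BD hx0 hidx'
  have hNF' := hNF n h.hsyl
  have hc := h.perf_c_one hperf hNF' hcore
  have hs := h.perf_simple hperf hNF' hcore
  exact H21.SelfC.simple_case_NF (not_comm_of_perfect hperf) hx0 (h.cen hc) hNF

end H21.BK
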