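import Cfsg.Agent.Lib.H21.BK3
import Cfsg.Agent.Lib.H25.SL2Card
import Cfsg.Agent.Lib.H6.SLCard

/-!
Perfect groups whose Sylow subgroup has prime order: reduction modulo the largest normal subgroup of
order prime to `p`.
-/

set_option autoImplicit false
set_option linter.unusedSectionVars false

namespace H21.BK

open Cfsg H18.CharBasic H18.CharOrtho H18.CharInd H21.PLat

universe u

/-- `PSL(2,q) = SL(2,q)` for even `q` -/
theorem psl_equiv_sl {F : Type*} [Field F] [Fintype F] {m : ℕ} (hm : 1 ≤ m)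
    (hF : Fintype.card F = 2 ^ m) :
    Nonempty (Matrix.ProjectiveSpecialLinearGroup (Fin 2) F ≃*
      Matrix.SpecialLinearGroup (Fin 2) F) := by
  have : Fact (Nat.Prime 2) := ⟨Nat.prime_two⟩
  have hch : CharP F 2 := charP_of_card_eq_prime_pow (f := m) hF
  have h1 := H25.SL2Card.center_SL2_char_two (K := F)
  exact ⟨(QuotientGroup.quotientMulEquivOfEq h1).trans QuotientGroup.quotientBot⟩

theorem quot_case {G : Type u} [Group G] [Finite G] (hperf : commutator G = ⊤)
    {p : ℕ} [hp : Fact p.Prime] (P : Sylow p G) (hP : Nat.card P = p) {n : ℕ}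
    (hn : Nat.card (Sylow p G) = 1 + n * p) (hNF : H21.SCNum.NF p n) :
    Nat.card (Sylow p (G ⧸ pPrimeCore p G)) = 1 + n * p ∧
    ((∃ (F : Type) (_ : Field F) (_ : Fintype F), Fintype.card F = p ∧ 3 < p ∧
      Nonempty (G ⧸ pPrimeCore p G ≃* Matrix.ProjectiveSpecialLinearGroup (Fin 2) F)) ∨
    (∃ (m : ℕ) (F : Type) (_ : Field F) (_ : Fintype F), Fintype.card F = 2 ^ m ∧
      p = 2 ^ m + 1 ∧ 3 < p ∧
      Nonempty (G ⧸ pPrimeCore p G ≃* Matrix.SpecialLinearGroup (Fin 2) F))) := by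
  classical
  have hp1 := hp.out.one_lt
  set K := pPrimeCore p G with hK
  have hKcop : (Nat.card K).Coprime p := H1.Cores.coprime_card_pPrimeCore p
  have hf : Function.Surjective (QuotientGroup.mk' K) := QuotientGroup.mk'_surjective K
  set Q : Sylow p (G ⧸ K) := P.mapSurjective hf with hQ
  have hperf' := perfect_quotient hperf K
  have hQcard : Nat.card Q = p := by
    have h1 : Nat.card (Q : Subgroup (G ⧸ K)) ∣ p := by
      have h0 : Nat.card (Q : Subgroup (G ⧸ K)) ∣ Nat.card (P : Subgroup G) :=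
        Subgroup.card_map_dvd _ _
      rwa [hP] at h0
    rcases (Nat.dvd_prime hp.out).1 h1 with h2 | h2
    · exfalso
      have h3 : p ∣ Nat.card (G ⧸ K) := by
        have h4 : p ∣ Nat.card G := by
          rw [← hP]; exact (P : Subgroup G).card_subgroup_dvd_card
        rw [Subgroup.card_eq_card_quotient_mul_card_subgroup K] at h4
        exact (Nat.Coprime.dvd_mul_right hKcop.symm).1 h4
      have h4 := Q.dvd_card_of_dvd_card h3
      rw [h2] at h4
      have := Nat.le_of_dvd one_pos h4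
      omega
    · exact h2
  have hcore : pPrimeCore p (G ⧸ K) = ⊥ := H1.Cores.pPrimeCore_quotient_pPrimeCore p
  -- number of Sylow subgroups of the quotient
  obtain ⟨n', hn', hn1⟩ : ∃ n' : ℕ, Nat.card (Sylow p (G ⧸ K)) = 1 + n' * p ∧ 1 ≤ n' := by
    let _ : Fintype (G ⧸ K) := Fintype.ofFinite _
    let _ : Fintype (IrrCharacter (G ⧸ K)) := Fintype.ofFinite _
    obtain ⟨x0, hx0P, hx0⟩ := H21.CommAct.exists_orderOf_eq_of_sylow Q hQcard
    have hz : Subgroup.zpowers x0 = (Q : Subgroup (G ⧸ K)) := by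
      apply Subgroup.eq_of_le_of_card_ge (Subgroup.zpowers_le.2 hx0P)
      rw [hQcard, Nat.card_zpowers, hx0]
    have hidx' : ¬ p ∣ (Subgroup.zpowers x0).index := by
      rw [hz]; exact Q.not_dvd_index
    obtain ⟨a, Y, ε, e, n, c, h⟩ := exists_BD hx0 hidx'
    exact ⟨n, h.hsyl, h.perf_n_pos hperf'⟩
  have hstep := H74.SylNum.card_step_one K P
  rw [hn, hn'] at hstep
  set w := (Subgroup.normalizer (P : Set G)).relIndex K with hw
  have hwmod : w % p = 1 := by
    have h1 : (1 + n * p) % p = ((1 + n' * p) * w) % p := by rw [hstep]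
    have h2 : (1 + n' * p) * w = w + n' * w * p := by ring
    rw [h2, Nat.add_mul_mod_self_right, Nat.add_mul_mod_self_right, Nat.mod_eq_of_lt hp1] at h1
    exact h1.symm
  have hw1 : n' = n := by
    obtain ⟨v, hv⟩ : ∃ v, w = 1 + v * p := ⟨w / p, by
      have := Nat.div_add_mod w p
      rw [hwmod] at this
      rw [mul_comm]; omega⟩
    rcases Nat.eq_zero_or_pos v with h0 | h0
    · rw [h0, zero_mul, add_zero] at hv
      rw [hv, mul_one] at hstep
      have h1 : n' * p = n * p := by omega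
      exact Nat.eq_of_mul_eq_mul_right (by omega) h1
    · exfalso
      refine hNF ((n' + 1) * v : ℕ) n' (by
        have : 0 < (n' + 1) * v := by positivity
        exact_mod_cast this) (by exact_mod_cast hn1) ?_
      rw [hv] at hstep
      have h1 : ((1 + n * p : ℕ) : ℤ) = (((1 + n' * p) * (1 + v * p) : ℕ) : ℤ) := by rw [hstep]
      push_cast at h1 ⊢
      have h2 : (p : ℤ) * (n - n' - v - n' * v * p) = 0 := by linear_combination h1
      have hp0 : (p : ℤ) ≠ 0 := by
        have : (0 : ℤ) < p := by exact_mod_cast hp.out.pos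
        omega
      have h3 := (mul_eq_zero.1 h2).resolve_left hp0
      linear_combination ((n' : ℤ) + 1) * h3
  rw [hw1] at hn'
  refine ⟨hn', ?_⟩
  rcases core_case hperf' Q hQcard hcore (fun n'' h'' => by
    have h1 : n'' = n := by
      rw [h''] at hn'
      have h2 : n'' * p = n * p := by omega
      exact Nat.eq_of_mul_eq_mul_right (by omega) h2
    rw [h1]; exact hNF) with h | h
  · left; exact h
  · right
    obtain ⟨m, F, i1, i2, h1, h2, h3, ⟨f⟩⟩ := h
    have hm : 1 ≤ m := by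
      rcases Nat.eq_zero_or_pos m with h0 | h0
      · rw [h0, pow_zero] at h2; omega
      · exact h0
    obtain ⟨g⟩ := psl_equiv_sl hm h1
    exact ⟨m, F, i1, i2, h1, h2, h3, ⟨f.trans g⟩⟩

theorem card_psl_two {F : Type*} [Field F] [Fintype F] {p : ℕ} (hF : Fintype.card F = p)
    (hodd : ¬ 2 ∣ p) (hp : 1 < p) :
    2 * Nat.card (Matrix.ProjectiveSpecialLinearGroup (Fin 2) F) = p * (p ^ 2 - 1) := by
  have h1 := H6.SLCard.card_psl (F := F) (n := 2) (by norm_num)
  rw [hF, Fin.prod_univ_two] at h1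
  simp only [Fin.val_zero, pow_zero, Fin.val_one, pow_one] at h1
  have h2 : Nat.gcd 2 (p - 1) = 2 := Nat.gcd_eq_left (by omega)
  rw [h2] at h1
  have h3 : p ^ 2 - p = p * (p - 1) := by rw [pow_two, Nat.mul_sub, mul_one]
  rw [h3] at h1
  have h4 : (p - 1) * (2 * Nat.card (Matrix.ProjectiveSpecialLinearGroup (Fin 2) F)) =
      (p - 1) * (p * (p ^ 2 - 1)) := by
    calc _ = 2 * ((p - 1) * Nat.card (Matrix.ProjectiveSpecialLinearGroup (Fin 2) F)) := by ring
      _ = _ := h1
      _ = _ := by ring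
  exact Nat.eq_of_mul_eq_mul_left (by omega) h4

theorem num_card1 {A B p : ℕ} (hp : 3 < p) (h6 : 2 * A = p * (p ^ 2 - 1)) (hbig : A * B < p ^ 3) :
    B ≤ 2 := by
  by_contra hcon
  push Not at hcon
  obtain ⟨r, rfl⟩ : ∃ r, p = r + 1 := ⟨p - 1, by omega⟩
  have h7 : (r + 1) ^ 2 - 1 = r * (r + 2) := by
    have : (r + 1) ^ 2 = r * (r + 2) + 1 := by ring
    omega
  rw [h7] at h6
  have h8 : A * 3 ≤ A * B := Nat.mul_le_mul_left _ hcon
  have h9 : 3 * ((r + 1) * (r * (r + 2))) < 2 * (r + 1) ^ 3 := by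
    rw [← h6]
    have : 3 * (2 * A) = 2 * (A * 3) := by ring
    rw [this]
    omega
  have h10 : (r + 1) * (3 * (r * (r + 2))) < (r + 1) * (2 * (r + 1) ^ 2) := by
    calc _ = 3 * ((r + 1) * (r * (r + 2))) := by ring
      _ < _ := h9
      _ = _ := by ring
  have h11 := Nat.lt_of_mul_lt_mul_left h10
  nlinarith

theorem num_card2 {A B p q : ℕ} (hp : 3 < p) (hq : p = q + 1) (h6 : A = q * (q ^ 2 - 1))
    (hbig : A * B < p ^ 3) : B ≤ 2 := by
  by_contra hcon
  push Not at hcon
  obtain ⟨r, rfl⟩ : ∃ r, q = r + 1 := ⟨q - 1, by omega⟩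
  have h7 : (r + 1) ^ 2 - 1 = r * (r + 2) := by
    have : (r + 1) ^ 2 = r * (r + 2) + 1 := by ring
    omega
  rw [h7] at h6
  have h8 : A * 3 ≤ A * B := Nat.mul_le_mul_left _ hcon
  have h9 : (r + 2) * (3 * (r + 1) * r) < (r + 2) * (r + 2) ^ 2 := by
    calc _ = (r + 1) * (r * (r + 2)) * 3 := by ring
      _ = A * 3 := by rw [h6]
      _ ≤ _ := h8
      _ < _ := hbig
      _ = _ := by rw [hq]; ring
  have h11 := Nat.lt_of_mul_lt_mul_left h9
  have : 2 ≤ r := by omega
  nlinarith

theorem perf_cube {G : Type u} [Group G] [Finite G] (hperf : commutator G = ⊤) {p : ℕ}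
    [hp : Fact p.Prime] (hdvd : p ∣ Nat.card G) (hbig : Nat.card G < p ^ 3) (P : Sylow p G)
    (hPn : ¬ (P : Subgroup G).Normal) (h2 : ∀ N : Subgroup G, N.Normal → Nat.card N ≠ 2) :
    (∃ (F : Type) (_ : Field F) (_ : Fintype F), Fintype.card F = p ∧ 3 < p ∧
      Nonempty (G ≃* Matrix.ProjectiveSpecialLinearGroup (Fin 2) F)) ∨
    (∃ (m : ℕ) (F : Type) (_ : Field F) (_ : Fintype F), Fintype.card F = 2 ^ m ∧
      p = 2 ^ m + 1 ∧ 3 < p ∧ Nonempty (G ≃* Matrix.SpecialLinearGroup (Fin 2) F)) := by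
  classical
  let _ : Fintype G := Fintype.ofFinite G
  let _ : Fintype (IrrCharacter G) := Fintype.ofFinite _
  have hp1 := hp.out.one_lt
  have hp2 := hp.out.two_le
  obtain ⟨k, hk⟩ := (IsPGroup.iff_card.1 P.2)
  have hpP : p ∣ Nat.card (P : Subgroup G) := P.dvd_card_of_dvd_card hdvd
  have hidx := (P : Subgroup G).card_mul_index
  have hk1 : k = 1 := by
    have hk0 : k ≠ 0 := by
      rintro rfl
      rw [hk, pow_zero] at hpP
      have := Nat.le_of_dvd one_pos hpP
      omega
    by_contra hne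
    have hk2 : 2 ≤ k := by omega
    have h1 : p ^ 2 ≤ Nat.card (P : Subgroup G) := by
      rw [hk]; exact Nat.pow_le_pow_right (by omega) hk2
    have h2 : (P : Subgroup G).index < p := by
      have h3 : p ^ 2 * (P : Subgroup G).index ≤ Nat.card G := by
        rw [← hidx]; exact Nat.mul_le_mul_right _ h1
      have h4 : p ^ 2 * (P : Subgroup G).index < p ^ 2 * p := by
        have : p ^ 3 = p ^ 2 * p := by ring
        omega
      exact Nat.lt_of_mul_lt_mul_left h4
    have h3 := P.card_dvd_index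
    have h4 := Nat.le_of_dvd (Nat.pos_of_ne_zero Subgroup.index_ne_zero_of_finite) h3
    have h5 : Nat.card (Sylow p G) % p = 1 % p := card_sylow_modEq_one p G
    rw [Nat.mod_eq_of_lt (by omega), Nat.mod_eq_of_lt hp1] at h5
    apply hPn
    rw [P.card_eq_index_normalizer, Subgroup.index_eq_one] at h5
    exact Subgroup.normalizer_eq_top_iff.1 h5
  rw [hk1, pow_one] at hk
  obtain ⟨x0, hx0P, hx0⟩ := H21.CommAct.exists_orderOf_eq_of_sylow P hk
  have hz : Subgroup.zpowers x0 = (P : Subgroup G) := by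
    apply Subgroup.eq_of_le_of_card_ge (Subgroup.zpowers_le.2 hx0P)
    rw [hk, Nat.card_zpowers, hx0]
  have hidx' : ¬ p ∣ (Subgroup.zpowers x0).index := by
    rw [hz]; exact P.not_dvd_index
  obtain ⟨a, Y, ε, e, n, c, h⟩ := exists_BD hx0 hidx'
  have he2 := h.perf_e_two hperf
  have hc := h.c_pos
  have hlt : c * e * (1 + n * p) < p ^ 2 := by
    have hbig' := hbig
    rw [h.hcard] at hbig'
    have h1 : p * c * e * (1 + n * p) = p * (c * e * (1 + n * p)) := by ring
    have h2 : p ^ 3 = p * p ^ 2 := by ring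
    rw [h1, h2] at hbig'
    exact Nat.lt_of_mul_lt_mul_left hbig'
  have hce : 2 ≤ c * e := by nlinarith
  have hNF : H21.SCNum.NF p n := by
    apply H21.SCNum.NF_of_le (by exact_mod_cast hp1)
    have h1 : 2 * (1 + n * p) ≤ c * e * (1 + n * p) := Nat.mul_le_mul_right _ hce
    have h3 : 2 * n * p < p * p := by nlinarith
    have h4 : 2 * n < p := Nat.lt_of_mul_lt_mul_right h3
    have h5 : 2 * n ≤ p + 2 := by omega
    exact_mod_cast h5
  obtain ⟨-, hres⟩ := quot_case hperf P hk h.hsyl hNF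
  have hcard := Subgroup.card_eq_card_quotient_mul_card_subgroup (pPrimeCore p G)
  have hKpos : 0 < Nat.card (pPrimeCore p G) := Nat.card_pos
  have hle : Nat.card (pPrimeCore p G) ≤ 2 → pPrimeCore p G = ⊥ := by
    intro hle
    have h3 := h2 (pPrimeCore p G) inferInstance
    apply Subgroup.eq_bot_of_card_eq
    omega
  have hodd : 3 < p → ¬ 2 ∣ p := by
    intro h3 hd
    rcases (Nat.dvd_prime hp.out).1 hd with h6 | h6 <;> omega
  rcases hres with ⟨F, i1, i2, h3, h4, ⟨f⟩⟩ | ⟨m, F, i1, i2, h3, h4, h5, ⟨f⟩⟩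
  · left
    have hb : pPrimeCore p G = ⊥ := by
      apply hle
      have h6 := card_psl_two h3 (hodd h4) hp1
      rw [← Nat.card_congr f.toEquiv] at h6
      rw [hcard] at hbig
      exact num_card1 h4 h6 hbig
    exact ⟨F, i1, i2, h3, h4, ⟨((QuotientGroup.quotientMulEquivOfEq hb).trans
      QuotientGroup.quotientBot).symm.trans f⟩⟩
  · right
    have hb : pPrimeCore p G = ⊥ := by
      apply hle
      have h6 := H25.SL2Card.card_SL2 (K := F)
      rw [← Nat.card_congr f.toEquiv, h3] at h6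
      rw [hcard] at hbig
      exact num_card2 h5 h4 h6 hbig
    exact ⟨m, F, i1, i2, h3, h4, h5, ⟨((QuotientGroup.quotientMulEquivOfEq hb).trans
      QuotientGroup.quotientBot).symm.trans f⟩⟩

end H21.BK
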