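import Cfsg.Agent.Lib.H21.BK4
import Cfsg.Agent.S4731
import Cfsg.Agent.S4730
import Cfsg.Agent.Lib.H67.Mod13

/-!
Brauer and Tuan: characters that belong to the principal blocks for two primes.
-/

set_option autoImplicit false
set_option linter.unusedSectionVars false

namespace H21.BT

open Cfsg H18.CharBasic H18.CharOrtho H18.CharInd H21.PLat H21.BK

universe u

section kernel

variable {G : Type u} [Group G] {p : ℕ} [hp : Fact p.Prime] {x0 : G}

/-- a character in whose restriction a linear character of `⟨x0⟩` is missing -/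
theorem sum_mul_of_mu {χ : G → ℂ} (hχ : IsCharacter G χ) (hx0 : orderOf x0 = p) {j : ZMod p}
    (h0 : mu p x0 χ j = 0) (y : G) : ∑ k : ZMod p, χ (pw x0 k * y) * ac p (-(j * k)) = 0 := by
  obtain ⟨n, ρ, rfl⟩ := hχ
  set E : (Fin n → ℂ) →ₗ[ℂ] (Fin n → ℂ) := ∑ k : ZMod p, ac p (-(j * k)) • ρ (pw x0 k) with hE
  have hEE : E * E = (p : ℂ) • E := by
    have h1 : ∀ k : ZMod p, (ac p (-(j * k)) • ρ (pw x0 k)) * E = E := by
      intro k
      rw [hE, Finset.mul_sum]
      rw [← Equiv.sum_comp (Equiv.addLeft k) (fun l => ac p (-(j * l)) • ρ (pw x0 l))]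
      refine Finset.sum_congr rfl fun l _ => ?_
      rw [Equiv.coe_addLeft, pw_add hx0, map_mul, smul_mul_smul_comm, ← AddChar.map_add_eq_mul]
      congr 2
      ring
    have h2 : E * E = ∑ k : ZMod p, (ac p (-(j * k)) • ρ (pw x0 k)) * E := by
      conv_lhs => rw [hE]
      rw [← hE, Finset.sum_mul]
    rw [h2, Finset.sum_congr rfl (fun k _ => h1 k), Finset.sum_const, Finset.card_univ, ZMod.card,
      Nat.cast_smul_eq_nsmul]
  have hid : IsIdempotentElem ((p : ℂ)⁻¹ • E) := by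
    rw [IsIdempotentElem, smul_mul_smul_comm, hEE, smul_smul]
    congr 1
    have := pC (p := p)
    field_simp
  have htr : LinearMap.trace ℂ (Fin n → ℂ) ((p : ℂ)⁻¹ • E) = 0 := by
    rw [map_smul, hE, map_sum]
    have h3 : ∑ k : ZMod p, LinearMap.trace ℂ (Fin n → ℂ) (ac p (-(j * k)) • ρ (pw x0 k)) =
        (p : ℂ) * mu p x0 ρ.character j := by
      rw [mu, ← mul_assoc, mul_inv_cancel₀ pC, one_mul]
      refine Finset.sum_congr rfl fun k _ => ?_
      rw [map_smul, smul_eq_mul, mul_comm]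
      rfl
    rw [h3, h0, mul_zero, smul_zero]
  have h1 := LinearMap.IsIdempotentElem.eq_zero_of_trace_eq_zero hid htr
  have hE0 : E = 0 := by
    rw [smul_eq_zero] at h1
    exact h1.resolve_left (inv_ne_zero pC)
  have h2 : ∑ k : ZMod p, ρ.character (pw x0 k * y) * ac p (-(j * k)) =
      LinearMap.trace ℂ (Fin n → ℂ) (E * ρ y) := by
    rw [hE, Finset.sum_mul, map_sum]
    refine Finset.sum_congr rfl fun k _ => ?_
    rw [smul_mul_assoc, ← map_mul, map_smul, smul_eq_mul, mul_comm]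
    rfl
  rw [h2, hE0, zero_mul, map_zero]

end kernel

variable {G : Type u} [Group G] [Fintype G] [Fintype (IrrCharacter G)] {p : ℕ} [hp : Fact p.Prime]
  {x0 : G} {a : IrrCharacter G → ℤ} {Y : Finset (IrrCharacter G)} {ε : ℤ} {e n c : ℕ}

/-- block characters of degree less than `p` have `V` in their kernel -/
theorem ker_of_lt (h : BD G p x0 a Y ε e n c) {χ : IrrCharacter G} (hχ : a χ ≠ 0 ∨ χ ∈ Y)
    (hD : charDegree (χ : G → ℂ) < p) {v : G} (hv : v ∈ VV p x0) :
    (χ : G → ℂ) v = (χ : G → ℂ) 1 := by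
  have hch := isCharacter_of_isIrr χ.2
  obtain ⟨j, hj⟩ : ∃ j : ZMod p, mu p x0 (χ : G → ℂ) j = 0 := by
    by_contra hcon
    push Not at hcon
    choose m hm using fun j : ZMod p => mu_nat h.hx0 hch j
    have h1 := mu_sum (p := p) (x0 := x0) (χ : G → ℂ)
    rw [Finset.sum_congr rfl (fun j _ => hm j), ← H82.Deg.coe_charDegree'] at h1
    have h2 : charDegree (χ : G → ℂ) = ∑ j : ZMod p, m j := by exact_mod_cast h1
    have h3 : ∀ j ∈ (Finset.univ : Finset (ZMod p)), 1 ≤ m j := by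
      intro j _
      rcases Nat.eq_zero_or_pos (m j) with h0 | h0
      · exfalso
        apply hcon j
        rw [hm j, h0, Nat.cast_zero]
      · exact h0
    have h4 := Finset.card_nsmul_le_sum _ _ _ h3
    rw [Finset.card_univ, ZMod.card, smul_eq_mul, mul_one, ← h2] at h4
    omega
  have h1 := sum_mul_of_mu hch h.hx0 hj v
  have h2 := sum_mul_of_mu hch h.hx0 hj 1
  rw [← Finset.add_sum_erase _ _ (Finset.mem_univ (0 : ZMod p))] at h1 h2
  rw [Finset.sum_congr rfl (fun k hk => by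
    rw [h.hV χ hχ v hv k (Finset.ne_of_mem_erase hk)])] at h1
  simp only [pw_zero, one_mul, mul_one, mul_zero, neg_zero, AddChar.map_zero_eq_one] at h1 h2
  linear_combination h1 - h2

theorem c_eq_one_of_lt (h : BD G p x0 a Y ε e n c) [IsSimpleGroup G] {χ : IrrCharacter G}
    (hχ : a χ ≠ 0 ∨ χ ∈ Y) (hχt : χ ≠ triv G) (hD : charDegree (χ : G → ℂ) < p) : c = 1 := by
  rw [← h.hc]
  have hbot : VV p x0 = ⊥ := by
    rw [eq_bot_iff]
    intro v hv
    exact Subgroup.mem_bot.2 (ker_trivial hχt (ker_of_lt h hχ hD hv))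
  rw [hbot, Subgroup.card_bot]

/-- characters outside the principal block vanish at `x0` -/
theorem hz (h : BD G p x0 a Y ε e n c) (hc : c = 1) {χ : IrrCharacter G} (hχa : a χ = 0)
    (hχY : χ ∉ Y) {k : ZMod p} (hk : k ≠ 0) : (χ : G → ℂ) (pw x0 k) = 0 := by
  classical
  obtain ⟨M, hM, hB⟩ := h.hM
  have hχB : χ ∉ principalBlock M G := by
    intro h1
    rcases (hB χ).2 h1 with h2 | h2
    · exact h2 hχa
    · exact hχY h2
  have h1 := gamma_self hM h.hx0 h.hidx hk
  have h2 := column_orthogonality (G := G) (pw x0 k) (pw x0 k)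
  rw [if_pos (IsConj.refl _), H21.SelfC.centralizer_pw_eq h.hx0 (h.cen hc) hk, card_zp h.hx0] at h2
  have h3 : ∑ ψ : IrrCharacter G, (if ψ ∈ principalBlock M G then (0 : ℝ) else
      ‖(ψ : G → ℂ) (pw x0 k)‖ ^ 2) = 0 := by
    have h4 : ((∑ ψ : IrrCharacter G, (if ψ ∈ principalBlock M G then (0 : ℝ) else
      ‖(ψ : G → ℂ) (pw x0 k)‖ ^ 2) : ℝ) : ℂ) = 0 := by
      have h5 : ∀ ψ : IrrCharacter G, ((if ψ ∈ principalBlock M G then (0 : ℝ) else
          ‖(ψ : G → ℂ) (pw x0 k)‖ ^ 2 : ℝ) : ℂ) =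
          (ψ : G → ℂ) (pw x0 k) * (starRingEnd ℂ) ((ψ : G → ℂ) (pw x0 k)) -
          (if ψ ∈ principalBlock M G then
            (ψ : G → ℂ) (pw x0 k) * (starRingEnd ℂ) ((ψ : G → ℂ) (pw x0 k)) else 0) := by
        intro ψ
        by_cases h : ψ ∈ principalBlock M G
        · rw [if_pos h, if_pos h, sub_self, Complex.ofReal_zero]
        · rw [if_neg h, if_neg h, sub_zero, Complex.mul_conj', Complex.ofReal_pow]
      rw [Complex.ofReal_sum, Finset.sum_congr rfl (fun ψ _ => h5 ψ), Finset.sum_sub_distrib, h2,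
        h1, sub_self]
    exact_mod_cast h4
  have h4 := (Finset.sum_eq_zero_iff_of_nonneg (fun ψ _ => by
    by_cases h : ψ ∈ principalBlock M G
    · rw [if_pos h]
    · rw [if_neg h]; positivity)).1 h3 χ (Finset.mem_univ χ)
  rw [if_neg hχB] at h4
  exact norm_eq_zero.1 (pow_eq_zero_iff (two_ne_zero) |>.1 h4)

/-- elements of order divisible by `p` are conjugate to powers of `x0` -/
theorem exists_conj_pw (h : BD G p x0 a Y ε e n c) (hc : c = 1) {g : G} (hg : p ∣ orderOf g) :
    ∃ k : ZMod p, k ≠ 0 ∧ IsConj g (pw x0 k) := by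
  classical
  have hp1 := hp.out.one_lt
  -- the `p`-part
  obtain ⟨m, hm⟩ := hg
  have hm0 : m ≠ 0 := by
    rintro rfl
    have := orderOf_pos g
    rw [hm, mul_zero] at this
    omega
  have hy : orderOf (g ^ m) = p := by
    rw [orderOf_pow_of_dvd hm0 ⟨p, by rw [hm, mul_comm]⟩, hm]
    exact Nat.mul_div_cancel _ (Nat.pos_of_ne_zero hm0)
  have hsq : ¬ p ^ 2 ∣ Nat.card G := by
    intro hd
    apply h.hidx
    have h1 := (Subgroup.zpowers x0).card_mul_index
    rw [card_zp h.hx0] at h1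
    rw [← h1, sq] at hd
    exact (Nat.mul_dvd_mul_iff_left hp.out.pos).1 hd
  obtain ⟨t, ht⟩ := H67.Mod.conj_of_order hsq hy h.hx0
  -- `t g t⁻¹` centralizes a generator of `⟨x0⟩`
  obtain ⟨k, hk'⟩ := mem_zpowers_pw h.hx0 ht
  have hk := hk'.symm
  have hk0 : k ≠ 0 := by
    rintro rfl
    rw [pw_zero] at hk
    have h1 : g ^ m = 1 := by
      rw [mul_inv_eq_one] at hk
      simpa using hk
    rw [h1, orderOf_one] at hy
    omega
  have hcom : t * g * t⁻¹ ∈ Subgroup.centralizer ({pw x0 k} : Set G) := by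
    rw [Subgroup.mem_centralizer_singleton_iff, ← hk]
    have h1 : g * g ^ m = g ^ m * g := by rw [← pow_succ, ← pow_succ']
    calc t * g * t⁻¹ * (t * g ^ m * t⁻¹) = t * (g * g ^ m) * t⁻¹ := by group
      _ = t * (g ^ m * g) * t⁻¹ := by rw [h1]
      _ = _ := by group
  rw [H21.SelfC.centralizer_pw_eq h.hx0 (h.cen hc) hk0] at hcom
  obtain ⟨l, hl'⟩ := mem_zpowers_pw h.hx0 hcom
  have hl := hl'.symm
  refine ⟨l, ?_, ?_⟩
  · rintro rfl
    rw [pw_zero] at hl
    have h1 : g = 1 := by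
      rw [mul_inv_eq_one] at hl
      simpa using hl
    rw [h1, one_pow, orderOf_one] at hy
    omega
  · exact isConj_iff.2 ⟨t, hl⟩

theorem no_pq (h : BD G p x0 a Y ε e n c) (hc : c = 1) {q : ℕ} (hq : q.Prime) (g : G) :
    orderOf g ≠ p * q := by
  intro hg
  obtain ⟨k, hk, hconj⟩ := exists_conj_pw h hc (g := g) (by rw [hg]; exact dvd_mul_right _ _)
  obtain ⟨t, ht⟩ := isConj_iff.1 hconj
  have h1 : orderOf (pw x0 k) = orderOf g := by
    rw [← ht]
    exact H20.Orth.orderOf_conj t g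
  rw [orderOf_pw h.hx0 hk, hg] at h1
  have h2 : p * 1 = p * q := by rw [mul_one]; exact h1
  have := Nat.eq_of_mul_eq_mul_left hp.out.pos h2
  exact hq.one_lt.ne this

theorem degree_Y (h : BD G p x0 a Y ε e n c) {θ θ' : IrrCharacter G} (hθ : θ ∈ Y) (hθ' : θ' ∈ Y) :
    charDegree (θ : G → ℂ) = charDegree (θ' : G → ℂ) := by
  have h1 := h.degree_sum hθ
  rw [← h.degree_sum hθ'] at h1
  have h2 : (charDegree (θ : G → ℂ) : ℤ) = charDegree (θ' : G → ℂ) := by
    rcases h.hε with h3 | h3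
    · rw [h3] at h1; linarith
    · rw [h3] at h1; linarith
  exact_mod_cast h2

theorem value_Y (h : BD G p x0 a Y ε e n c) {θ θ' : IrrCharacter G} (hθ : θ ∈ Y) (hθ' : θ' ∈ Y)
    {g : G} (hg : ¬ p ∣ orderOf g) : (θ : G → ℂ) g = (θ' : G → ℂ) g := by
  have h1 := h.hrel θ hθ g hg
  rw [← h.hrel θ' hθ' g hg] at h1
  rcases h.hε with h3 | h3
  · rw [h3, Int.cast_one, one_mul, one_mul] at h1; exact h1
  · rw [h3, Int.cast_neg, Int.cast_one, neg_one_mul, neg_one_mul] at h1
    exact neg_injective h1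

/-- the exceptional characters lie in the same `q`-block -/
theorem sameBlock_Y (h : BD G p x0 a Y ε e n c) (hc : c = 1) {q : ℕ} {Mq : Ideal AlgInt}
    (hMq : IsPModular q Mq) {θ θ' : IrrCharacter G} (hθ : θ ∈ Y) (hθ' : θ' ∈ Y)
    (hdiv : ∃ m, e * (1 + n * p) = q * m * charDegree (θ : G → ℂ)) :
    SameBlock Mq (θ : G → ℂ) (θ' : G → ℂ) := by
  have hpr := H20.Loc.pm_isPrime hMq
  have hD := degree_Y h hθ hθ'
  intro g
  by_cases hg : p ∣ orderOf g
  · obtain ⟨k, hk, hconj⟩ := exists_conj_pw h hc hg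
    obtain ⟨t, ht⟩ := isConj_iff.1 hconj
    obtain ⟨m, hm⟩ := hdiv
    have hpos := H82.Deg.charDegree_ne_zero θ
    have hval : ∀ ψ : IrrCharacter G, (ψ : G → ℂ) g = (ψ : G → ℂ) (pw x0 k) := by
      intro ψ
      rw [← ht]
      exact (isClassFunction_of_isIrr ψ.2 g t).symm
    have hcen : (Subgroup.centralizer ({g} : Set G)).index =
        (Subgroup.centralizer ({pw x0 k} : Set G)).index := by
      have h1 : Nat.card (Subgroup.centralizer ({g} : Set G)) =
          Nat.card (Subgroup.centralizer ({pw x0 k} : Set G)) := by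
        have h2 := column_orthogonality (G := G) g g
        have h3 := column_orthogonality (G := G) (pw x0 k) (pw x0 k)
        rw [if_pos (IsConj.refl _)] at h2 h3
        rw [Finset.sum_congr rfl (fun ψ _ => by rw [hval ψ]), h3] at h2
        exact_mod_cast h2.symm
      have h4 := (Subgroup.centralizer ({g} : Set G)).card_mul_index
      rw [← (Subgroup.centralizer ({pw x0 k} : Set G)).card_mul_index, h1] at h4
      exact Nat.eq_of_mul_eq_mul_left Nat.card_pos h4
    have key : ∀ ψ : IrrCharacter G, charDegree (ψ : G → ℂ) = charDegree (θ : G → ℂ) →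
        centralChar (ψ : G → ℂ) g = (q : ℂ) * (m * (ψ : G → ℂ) g) := by
      intro ψ hψ
      rw [centralChar, hcen, h.index_pw hk, hm, ← H82.Deg.coe_charDegree' ψ, hψ]
      have : (charDegree (θ : G → ℂ) : ℂ) ≠ 0 := by exact_mod_cast hpos
      push_cast
      field_simp
    rw [key θ rfl, key θ' hD.symm, ← mul_sub]
    apply H20.Loc.locI_mul_right
    · have h1 := (H20.Loc.locI_coe_iff (M := Mq) (a := (q : AlgInt))).2 hMq.2.2
      simpa using h1
    · apply H20.Loc.isIntegral_mem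
      exact ((isIntegral_algebraMap (x := (m : ℤ))).mul
          (char_isIntegral (isCharacter_of_isIrr θ.2) g)).sub
        ((isIntegral_algebraMap (x := (m : ℤ))).mul
          (char_isIntegral (isCharacter_of_isIrr θ'.2) g))
  · have h1 : centralChar (θ : G → ℂ) g = centralChar (θ' : G → ℂ) g := by
      rw [centralChar, centralChar, value_Y h hθ hθ' hg, ← H82.Deg.coe_charDegree' θ,
        ← H82.Deg.coe_charDegree' θ', hD]
    rw [h1, sub_self]
    exact H20.Loc.locI_zero

theorem isPBlock_principal {q : ℕ} {M : Ideal AlgInt} (hM : IsPModular q M) :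
    IsPBlock M (principalBlock M G) := by
  have : M.IsPrime := H20.Loc.pm_isPrime hM
  refine ⟨triv G, ?_⟩
  have h1 : ((triv G : IrrCharacter G) : G → ℂ) = fun _ => 1 := by
    funext g; simp
  rw [h1]
  rfl

/-- sum over the exceptional characters -/
theorem sum_Y (h : BD G p x0 a Y ε e n c) (hc : c = 1) :
    ∑ θ ∈ Y, (charDegree (θ : G → ℂ) : ℂ) * (θ : G → ℂ) x0 =
      -∑ χ : IrrCharacter G, (a χ : ℂ) * charDegree (χ : G → ℂ) := by
  classical
  have h1 := column_orthogonality (G := G) x0 1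
  have hx1 : ¬ IsConj x0 1 := by
    intro h0
    have h0' : x0 = 1 := by
      obtain ⟨t, ht⟩ := isConj_iff.1 h0
      rw [mul_inv_eq_one] at ht
      simpa using ht
    have := h.hx0
    rw [h0', orderOf_one] at this
    exact hp.out.one_lt.ne this
  rw [if_neg hx1] at h1
  have hp1 := h.hx0
  have h2 : ∀ χ : IrrCharacter G, (χ : G → ℂ) x0 * (starRingEnd ℂ) ((χ : G → ℂ) 1) =
      (a χ : ℂ) * charDegree (χ : G → ℂ) +
        (if χ ∈ Y then (charDegree (χ : G → ℂ) : ℂ) * (χ : G → ℂ) x0 else 0) := by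
    intro χ
    rw [← H82.Deg.coe_charDegree', Complex.conj_natCast]
    by_cases hY : χ ∈ Y
    · rw [if_pos hY, h.hYa χ hY, Int.cast_zero, zero_mul, zero_add, mul_comm]
    · rw [if_neg hY, add_zero]
      by_cases ha : a χ = 0
      · have h3 := hz h hc ha hY (k := 1) one_ne_zero
        rw [pw_one h.hx0] at h3
        rw [h3, ha, Int.cast_zero, zero_mul]
      · have h3 := h.hval χ ha 1 one_ne_zero
        rw [pw_one h.hx0] at h3
        rw [h3]
  rw [Finset.sum_congr rfl (fun χ _ => h2 χ), Finset.sum_add_distrib, Finset.sum_ite_mem,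
    Finset.univ_inter] at h1
  linear_combination h1

open Classical in
/-- **Brauer-Tuan**: the alternating sum of the degrees in the intersection of two principal
blocks -/
theorem two_primes (h : BD G p x0 a Y ε e n c) (hc : c = 1) {q : ℕ} [hq : Fact q.Prime]
    (hpq : p ≠ q) {Mq : Ideal AlgInt} (hMq : IsPModular q Mq) {θ : IrrCharacter G} (hθ : θ ∈ Y)
    (hdiv : ∃ m, e * (1 + n * p) = q * m * charDegree (θ : G → ℂ)) :
    ∃ δ t : ℤ, (δ = 0 ∨ δ = 1) ∧
      ∑ χ : IrrCharacter G, (if χ ∈ principalBlock Mq G then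
        a χ * (charDegree (χ : G → ℂ) : ℤ) else 0) - δ * (ε * charDegree (θ : G → ℂ)) =
        (q : ℤ) ^ (Nat.card G).factorization q * t := by
  have hprq := H20.Loc.pm_isPrime hMq
  obtain ⟨Mp, hMp, hB⟩ := h.hM
  obtain ⟨ω, hω⟩ := Cfsg.Agent.S4731.result p q hpq Mp Mq hMp hMq (no_pq h hc hq.out)
    _ rfl (principalBlock Mp G) (isPBlock_principal hMp) (principalBlock Mq G)
    (isPBlock_principal hMq) x0 (by rw [h.hx0])
  rw [H20.Orth.finsum_mem_eq_sum] at hω
  -- all or none of the exceptional characters are in the `q`-block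
  obtain ⟨δ, hδ, hδY⟩ : ∃ δ : ℤ, (δ = 0 ∨ δ = 1) ∧
      ∑ χ ∈ Y, (if χ ∈ principalBlock Mq G then (charDegree (χ : G → ℂ) : ℂ) * (χ : G → ℂ) x0
        else 0) = δ * -(ε * charDegree (θ : G → ℂ)) := by
    have hsum := sum_Y h hc
    have h1 := h.degree_sum hθ
    have h2 : ∑ χ : IrrCharacter G, (a χ : ℂ) * charDegree (χ : G → ℂ) =
        ε * charDegree (θ : G → ℂ) := by
      exact_mod_cast h1.symm
    rw [h2] at hsum
    by_cases hin : θ ∈ principalBlock Mq G
    · refine ⟨1, Or.inr rfl, ?_⟩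
      rw [Int.cast_one, one_mul, ← hsum]
      refine Finset.sum_congr rfl fun χ hχ => ?_
      rw [if_pos]
      exact H20.Blk.sameBlock_trans hin (sameBlock_Y h hc hMq hθ hχ hdiv)
    · refine ⟨0, Or.inl rfl, ?_⟩
      rw [Int.cast_zero, zero_mul]
      refine Finset.sum_eq_zero fun χ hχ => ?_
      rw [if_neg]
      intro hχB
      exact hin (H20.Blk.sameBlock_trans hχB
        (H20.Blk.sameBlock_symm (sameBlock_Y h hc hMq hθ hχ hdiv)))
  have hterm : ∀ χ : IrrCharacter G,
      (if χ ∈ principalBlock Mp G ∩ principalBlock Mq G then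
        (charDegree (χ : G → ℂ) : ℂ) * (χ : G → ℂ) x0 else 0) =
      (if χ ∈ principalBlock Mq G then (a χ : ℂ) * (charDegree (χ : G → ℂ) : ℂ) else 0) +
      (if χ ∈ Y then (if χ ∈ principalBlock Mq G then
        (charDegree (χ : G → ℂ) : ℂ) * (χ : G → ℂ) x0 else 0) else 0) := by
    intro χ
    by_cases hq' : χ ∈ principalBlock Mq G
    · rw [if_pos hq', if_pos hq']
      by_cases hY : χ ∈ Y
      · rw [if_pos ⟨(hB χ).1 (Or.inr hY), hq'⟩, if_pos hY, h.hYa χ hY, Int.cast_zero, zero_mul,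
          zero_add]
      · rw [if_neg hY, add_zero]
        by_cases ha : a χ = 0
        · rw [if_neg, ha, Int.cast_zero, zero_mul]
          intro hmem
          rcases (hB χ).2 hmem.1 with h3 | h3
          · exact h3 ha
          · exact hY h3
        · rw [if_pos ⟨(hB χ).1 (Or.inl ha), hq'⟩]
          have h3 := h.hval χ ha 1 one_ne_zero
          rw [pw_one h.hx0] at h3
          rw [h3, mul_comm]
    · rw [if_neg (fun h => hq' h.2), if_neg hq', if_neg hq', ite_self, add_zero]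
  rw [Finset.sum_congr rfl (fun χ _ => hterm χ), Finset.sum_add_distrib, Finset.sum_ite_mem,
    Finset.univ_inter, hδY] at hω
  -- an algebraic integer which is rational
  set N : ℤ := ∑ χ : IrrCharacter G, (if χ ∈ principalBlock Mq G then
        a χ * (charDegree (χ : G → ℂ) : ℤ) else 0) - δ * (ε * charDegree (θ : G → ℂ)) with hN
  have hNω : (N : ℂ) = (q : ℂ) ^ (Nat.card G).factorization q * (ω : ℂ) := by
    rw [← hω, hN]
    push_cast
    rw [Finset.sum_congr rfl (fun χ _ => by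
      rw [show ((if χ ∈ principalBlock Mq G then (a χ : ℂ) * (charDegree (χ : G → ℂ) : ℂ) else 0) :
        ℂ) = (if χ ∈ principalBlock Mq G then (a χ : ℂ) * (charDegree (χ : G → ℂ) : ℂ) else 0)
        from rfl])]
    ring
  have hq0 : (q : ℂ) ^ (Nat.card G).factorization q ≠ 0 :=
    pow_ne_zero _ (by exact_mod_cast hq.out.ne_zero)
  have hrat : IsIntegral ℤ (((N : ℚ) / (q : ℚ) ^ (Nat.card G).factorization q : ℚ) : ℂ) := by
    have h1 : (((N : ℚ) / (q : ℚ) ^ (Nat.card G).factorization q : ℚ) : ℂ) = (ω : ℂ) := by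
      push_cast
      rw [hNω, mul_div_cancel_left₀ _ hq0]
    rw [h1]
    exact ω.2
  obtain ⟨t, ht⟩ := H82.Deg.exists_int_of_isIntegral_rat hrat
  refine ⟨δ, t, hδ, ?_⟩
  have hq0' : (q : ℚ) ^ (Nat.card G).factorization q ≠ 0 :=
    pow_ne_zero _ (by exact_mod_cast hq.out.ne_zero)
  rw [div_eq_iff hq0'] at ht
  have h3 : (N : ℚ) = (((q : ℤ) ^ (Nat.card G).factorization q * t : ℤ) : ℚ) := by
    rw [ht]; push_cast; ring
  exact_mod_cast h3

end H21.BT
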