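import Cfsg.Agent.Lib.H21.BT1

/-!
Brauer and Tuan: arithmetic, and characters of prime power degree.
-/

set_option autoImplicit false
set_option linter.unusedSectionVars false

namespace H21.BT

open Cfsg H18.CharBasic H18.CharOrtho H18.CharInd H21.PLat H21.BK

universe u

theorem pow_mod {p m : ℕ} (hp : p = 2 ^ m + 1) (t : ℕ) :
    (p : ℤ) ∣ (2 ^ m) ^ t - 1 ∨ (p : ℤ) ∣ (2 ^ m) ^ t + 1 := by
  have hpz : (p : ℤ) = 2 ^ m + 1 := by rw [hp]; push_cast; ring
  induction t with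
  | zero => left; simp
  | succ t ih =>
    rcases ih with ⟨c, hc⟩ | ⟨c, hc⟩
    · right
      refine ⟨c * 2 ^ m + 1, ?_⟩
      rw [pow_succ, hpz] at *
      linear_combination (2 ^ m : ℤ) * hc
    · left
      refine ⟨c * 2 ^ m - 1, ?_⟩
      rw [pow_succ, hpz] at *
      linear_combination (2 ^ m : ℤ) * hc

theorem odd_part {p m j d : ℕ} (hm : 1 ≤ m) (hp : p = 2 ^ m + 1) (hd : d % 2 = 1)
    (hd2 : 2 * d ≤ 2 ^ (m - 1) + 1)
    (h : (p : ℤ) ∣ (2 ^ j * d : ℕ) - 1 ∨ (p : ℤ) ∣ (2 ^ j * d : ℕ) + 1) : d = 1 := by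
  have hpz : (p : ℤ) = 2 ^ m + 1 := by rw [hp]; push_cast; ring
  obtain ⟨k, hk, hdk⟩ : ∃ k < m, (p : ℤ) ∣ (d : ℤ) - 2 ^ k ∨ (p : ℤ) ∣ (d : ℤ) + 2 ^ k := by
    obtain ⟨l, r, hr, hj⟩ : ∃ l r, r < m ∧ j = m * l + r :=
      ⟨j / m, j % m, Nat.mod_lt _ (by omega), (Nat.div_add_mod j m).symm⟩
    rcases Nat.eq_zero_or_pos r with h0 | h0
    · refine ⟨0, by omega, ?_⟩
      rw [h0, add_zero] at hj
      have h1 : (2 : ℤ) ^ j = (2 ^ m) ^ l := by rw [hj, pow_mul]
      push_cast at h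
      rw [h1] at h
      rcases pow_mod hp l with ⟨c, hc⟩ | ⟨c, hc⟩ <;> rcases h with ⟨c', hc'⟩ | ⟨c', hc'⟩
      · left; exact ⟨c' - c * d, by linear_combination hc' - (d : ℤ) * hc⟩
      · right; exact ⟨c' - c * d, by linear_combination hc' - (d : ℤ) * hc⟩
      · right; exact ⟨c * d - c', by linear_combination -hc' + (d : ℤ) * hc⟩
      · left; exact ⟨c * d - c', by linear_combination -hc' + (d : ℤ) * hc⟩
    · refine ⟨m - r, by omega, ?_⟩
      have h1 : (2 : ℤ) ^ (m - r) * 2 ^ j = (2 ^ m) ^ (l + 1) := by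
        rw [← pow_add, ← pow_mul, hj]
        congr 1
        rw [Nat.mul_add, mul_one]
        omega
      push_cast at h
      rcases pow_mod hp (l + 1) with ⟨c, hc⟩ | ⟨c, hc⟩ <;> rcases h with ⟨c', hc'⟩ | ⟨c', hc'⟩
      · left
        exact ⟨2 ^ (m - r) * c' - c * d, by
          linear_combination (2 : ℤ) ^ (m - r) * hc' - (d : ℤ) * hc - (d : ℤ) * h1⟩
      · right
        exact ⟨2 ^ (m - r) * c' - c * d, by
          linear_combination (2 : ℤ) ^ (m - r) * hc' - (d : ℤ) * hc - (d : ℤ) * h1⟩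
      · right
        exact ⟨c * d - 2 ^ (m - r) * c', by
          linear_combination -(2 : ℤ) ^ (m - r) * hc' + (d : ℤ) * hc + (d : ℤ) * h1⟩
      · left
        exact ⟨c * d - 2 ^ (m - r) * c', by
          linear_combination -(2 : ℤ) ^ (m - r) * hc' + (d : ℤ) * hc + (d : ℤ) * h1⟩
  have hk2 : 2 ^ k ≤ 2 ^ (m - 1) := Nat.pow_le_pow_right (by norm_num) (by omega)
  have hmm : 2 ^ m = 2 * 2 ^ (m - 1) := by
    rw [← pow_succ', Nat.sub_add_cancel hm]
  have hk1 : 1 ≤ 2 ^ k := Nat.one_le_two_pow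
  have hm1 : 1 ≤ 2 ^ (m - 1) := Nat.one_le_two_pow
  rcases hdk with hd' | hd'
  · have h1 : (d : ℤ) - 2 ^ k = 0 := by
      apply Int.eq_zero_of_abs_lt_dvd hd'
      rw [abs_lt]
      have h2 : ((2 ^ k : ℕ) : ℤ) = 2 ^ k := by push_cast; rfl
      constructor <;> omega
    have h2 : d = 2 ^ k := by
      have : (d : ℤ) = ((2 ^ k : ℕ) : ℤ) := by push_cast; linarith
      exact_mod_cast this
    rcases Nat.eq_zero_or_pos k with h0 | h0
    · rw [h2, h0, pow_zero]
    · exfalso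
      rw [h2] at hd
      have : 2 ∣ 2 ^ k := dvd_pow_self 2 (by omega)
      omega
  · exfalso
    have h2 : ((2 ^ k : ℕ) : ℤ) = 2 ^ k := by push_cast; rfl
    have h3 := Int.le_of_dvd (by omega) hd'
    omega

theorem exp_cases {p m b : ℕ} (hm : 1 ≤ m) (hp : p = 2 ^ m + 1) (h : (p : ℤ) ∣ 2 ^ b + 1) :
    b = m ∨ 3 * m ≤ b := by
  have hpz : (p : ℤ) = 2 ^ m + 1 := by rw [hp]; push_cast; ring
  obtain ⟨l, r, hr, hj⟩ : ∃ l r, r < m ∧ b = m * l + r :=
    ⟨b / m, b % m, Nat.mod_lt _ (by omega), (Nat.div_add_mod b m).symm⟩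
  have hb : (2 : ℤ) ^ b = (2 ^ m) ^ l * 2 ^ r := by rw [hj, pow_add, pow_mul]
  have hr2 : 2 * 2 ^ r ≤ 2 ^ m := by
    rw [← pow_succ']
    exact Nat.pow_le_pow_right (by norm_num) (by omega)
  have h2r : ((2 ^ r : ℕ) : ℤ) = 2 ^ r := by push_cast; rfl
  have hr1 : 1 ≤ 2 ^ r := Nat.one_le_two_pow
  have hodd : l % 2 = 1 := by
    by_contra hcon
    have hev : l % 2 = 0 := by omega
    obtain ⟨t, ht⟩ : ∃ t, l = 2 * t := ⟨l / 2, by omega⟩
    have h1 : (p : ℤ) ∣ (2 ^ m) ^ l - 1 := by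
      rw [ht, pow_mul]
      have h3 : (p : ℤ) ∣ ((2 : ℤ) ^ m) ^ 2 - 1 := ⟨2 ^ m - 1, by rw [hpz]; ring⟩
      exact h3.trans (sub_one_dvd_pow_sub_one _ t) 
    obtain ⟨c, hc⟩ := h1
    obtain ⟨c', hc'⟩ := h
    have h3 : (p : ℤ) ∣ 2 ^ r + 1 := ⟨c' - c * 2 ^ r, by
      rw [hb] at hc'
      linear_combination hc' - (2 : ℤ) ^ r * hc⟩
    have h4 := Int.le_of_dvd (by positivity) h3
    omega
  have hr0 : r = 0 := by
    obtain ⟨t, ht⟩ : ∃ t, l = 2 * t + 1 := ⟨l / 2, by omega⟩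
    have h1 : (p : ℤ) ∣ (2 ^ m) ^ l + 1 := by
      rw [hpz]
      exact Odd.add_dvd_pow_add_pow (2 ^ m : ℤ) 1 ⟨t, ht⟩ |>.trans (by rw [one_pow])
    obtain ⟨c, hc⟩ := h1
    obtain ⟨c', hc'⟩ := h
    have h3 : (p : ℤ) ∣ 2 ^ r - 1 := ⟨c * 2 ^ r - c', by
      rw [hb] at hc'
      linear_combination -hc' + (2 : ℤ) ^ r * hc⟩
    have h4 : (2 : ℤ) ^ r - 1 = 0 := by
      apply Int.eq_zero_of_abs_lt_dvd h3
      rw [abs_lt]
      constructor <;> omega
    have h5 : 2 ^ r = 1 := by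
      have : ((2 ^ r : ℕ) : ℤ) = 1 := by rw [h2r]; linarith
      exact_mod_cast this
    by_contra hne
    have : 2 ∣ 2 ^ r := dvd_pow_self 2 hne
    omega
  rw [hr0, add_zero] at hj
  rcases Nat.lt_or_ge l 2 with h1 | h1
  · left
    have : l = 1 := by omega
    rw [hj, this, mul_one]
  · right
    have : 3 ≤ l := by omega
    rw [hj, mul_comm]
    exact Nat.mul_le_mul_left _ this

theorem psl_arith {p q b g : ℕ} (hp : p.Prime) (hq : q.Prime) (hp3 : 3 < p)
    (hcard : p * (p ^ 2 - 1) = 2 * (p * q ^ b * g)) (hg : g < p - 1) :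
    ∃ m, p = 2 ^ m + 1 ∨ p = 2 ^ m - 1 := by
  have hodd : p % 2 = 1 := by
    rcases hp.eq_two_or_odd with h | h
    · omega
    · exact h
  obtain ⟨r, hr⟩ : ∃ r, p = 2 * r + 1 := ⟨p / 2, by omega⟩
  have h1 : p ^ 2 - 1 = 4 * (r * (r + 1)) := by
    have : p ^ 2 = 4 * (r * (r + 1)) + 1 := by rw [hr]; ring
    omega
  have h2 : 2 * (r * (r + 1)) = q ^ b * g := by
    rw [h1] at hcard
    have h3 : p * (2 * (2 * (r * (r + 1)))) = p * (2 * (q ^ b * g)) := by
      calc _ = p * (4 * (r * (r + 1))) := by ring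
        _ = _ := hcard
        _ = _ := by ring
    have h4 := Nat.eq_of_mul_eq_mul_left hp.pos h3
    exact Nat.eq_of_mul_eq_mul_left (by norm_num) h4
  -- `q ^ b > r + 1`
  have hlt : r + 1 < q ^ b := by
    by_contra hcon
    push Not at hcon
    have h3 : q ^ b * g ≤ (r + 1) * g := Nat.mul_le_mul_right _ hcon
    have h4 : (r + 1) * g < (r + 1) * (2 * r) := Nat.mul_lt_mul_of_pos_left (by omega) (by omega)
    nlinarith
  have hcop : Nat.Coprime r (r + 1) := by simp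
  have hb0 : b ≠ 0 := by rintro rfl; rw [pow_zero] at hlt; omega
  by_cases hq2 : q = 2
  · subst hq2
    have h3 : 2 ^ b ∣ 2 * (r * (r + 1)) := ⟨g, h2⟩
    obtain ⟨b', rfl⟩ : ∃ b', b = b' + 1 := ⟨b - 1, by omega⟩
    rw [pow_succ'] at h3 hlt
    have h4 : 2 ^ b' ∣ r * (r + 1) := (Nat.mul_dvd_mul_iff_left (by norm_num)).1 h3
    rcases Nat.eq_zero_or_pos b' with h0 | h0
    · rw [h0, pow_zero] at hlt; omega
    · have hpp : IsPrimePow (2 ^ b') := Nat.prime_two.isPrimePow.pow h0.ne'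
      have hpos : 0 < 2 ^ b' := by positivity
      rcases (Nat.Coprime.isPrimePow_dvd_mul hcop hpp).1 h4 with ⟨t, ht⟩ | ⟨t, ht⟩
      · have ht1 : t = 1 := by
          have h5 : 2 ^ b' * t < 2 ^ b' * 2 := by omega
          have h6 := Nat.lt_of_mul_lt_mul_left h5
          have h7 : t ≠ 0 := by rintro rfl; omega
          omega
        refine ⟨b' + 1, Or.inl ?_⟩
        rw [hr, ht, ht1, pow_succ']
        ring
      · have ht1 : t = 1 := by
          have h5 : 2 ^ b' * t < 2 ^ b' * 2 := by omega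
          have h6 := Nat.lt_of_mul_lt_mul_left h5
          have h7 : t ≠ 0 := by rintro rfl; omega
          omega
        refine ⟨b' + 1, Or.inr ?_⟩
        rw [pow_succ']
        rw [ht1, mul_one] at ht
        omega
  · exfalso
    have hcop2 : Nat.Coprime (q ^ b) 2 :=
      Nat.Coprime.pow_left _ ((Nat.coprime_primes hq Nat.prime_two).2 hq2)
    have h3 : q ^ b ∣ 2 * (r * (r + 1)) := ⟨g, h2⟩
    have h4 : q ^ b ∣ r * (r + 1) := hcop2.dvd_of_dvd_mul_left h3
    have hpp : IsPrimePow (q ^ b) := hq.isPrimePow.pow hb0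
    rcases (Nat.Coprime.isPrimePow_dvd_mul hcop hpp).1 h4 with h5 | h5
    · have := Nat.le_of_dvd (by omega) h5
      omega
    · have := Nat.le_of_dvd (by omega) h5
      omega

variable {G : Type u} [Group G] [Finite G]

theorem defect_principal {q : ℕ} (M : Ideal AlgInt) (hM : IsPModular q M) :
    blockDefect q (principalBlock M G) = (Nat.card G).factorization q := by
  have hpr : M.IsPrime := H20.Loc.pm_isPrime hM
  have h1 : ((triv G : IrrCharacter G) : G → ℂ) = fun _ => 1 := by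
    funext g; simp
  have hmem : triv G ∈ principalBlock M G := by
    have h2 := H20.Blk.mem_blockOf_self (M := M) (triv G)
    rw [h1] at h2
    exact h2
  rw [blockDefect]
  have h2 : sInf ((fun χ : IrrCharacter G => (charDegree (χ : G → ℂ)).factorization q) ''
      principalBlock M G) = 0 := by
    apply Nat.sInf_eq_zero.2
    left
    refine ⟨triv G, hmem, ?_⟩
    have h3 : charDegree ((triv G : IrrCharacter G) : G → ℂ) = 1 := by
      apply H82.Deg.charDegree_eq_of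
      simp
    simp only [h3, Nat.factorization_one, Finsupp.coe_zero, Pi.zero_apply]
  rw [h2, Nat.sub_zero]

/-- characters of prime power degree are not in the principal block -/
theorem notin_principal [IsSimpleGroup G] (hG : ¬ IsMulCommutative G) {q : ℕ} [hq : Fact q.Prime]
    {M : Ideal AlgInt} (hM : IsPModular q M) (hdvd : q ∣ Nat.card G) {χ : IrrCharacter G}
    (hχ : χ ≠ triv G) {j : ℕ} (hD : charDegree (χ : G → ℂ) = q ^ j) :
    χ ∉ principalBlock M G := by
  intro hmem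
  let _ : Fintype G := Fintype.ofFinite G
  let _ : Fintype (IrrCharacter G) := Fintype.ofFinite _
  have hpr : M.IsPrime := H20.Loc.pm_isPrime hM
  have hZ : Subgroup.center G = ⊥ := by
    rcases (inferInstance : (Subgroup.center G).Normal).eq_bot_or_eq_top with h | h
    · exact h
    · exact absurd (Subgroup.center_eq_top_iff.1 h) hG
  obtain ⟨P⟩ := (inferInstance : Nonempty (Sylow q G))
  have ha := P.card_eq_multiplicity
  have hfac : 1 ≤ (Nat.card G).factorization q :=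
    (hq.out.dvd_iff_one_le_factorization Nat.card_pos.ne').1 hdvd
  obtain ⟨b, hb⟩ := IsPGroup.iff_card.1 (P.2.to_subgroup (Subgroup.center ↥(P : Subgroup G)))
  have hb1 : 1 ≤ b := by
    by_contra hcon
    have hb0 : b = 0 := by omega
    rw [hb0, pow_zero] at hb
    have hnt : Nontrivial (P : Subgroup G) := by
      rw [← Finite.one_lt_card_iff_nontrivial, ha]
      exact Nat.one_lt_pow (by omega) hq.out.one_lt
    have h1 := P.2.center_nontrivial
    rw [← Finite.one_lt_card_iff_nontrivial, hb] at h1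
    omega
  have h1 := (Cfsg.Agent.S4730.result q M hM hZ P _ b ha hb χ
    (fun g hg => ker_trivial hχ hg) j hD).1
  have h2 : blockOf M (χ : G → ℂ) = principalBlock M G :=
    (H20.Blk.blockOf_eq_of_sameBlock hmem).symm
  rw [h2, defect_principal M hM] at h1
  omega

end H21.BT
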