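import Cfsg.Agent.Lib.H21.BT2
import Cfsg.Agent.S4503
import Cfsg.Agent.S4504

/-!
The theorem of Brauer and Tuan on simple groups of order `p q ^ b g` with `g < p - 1`.
-/

set_option autoImplicit false
set_option linter.unusedSectionVars false

namespace H21.BT

open Cfsg H18.CharBasic H18.CharOrtho H18.CharInd H21.PLat H21.BK

universe u

variable {G : Type u} [Group G] [Fintype G] [Fintype (IrrCharacter G)] {p : ℕ} [hp : Fact p.Prime]
  {x0 : G} {a : IrrCharacter G → ℤ} {Y : Finset (IrrCharacter G)} {ε : ℤ} {e n c : ℕ}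

/-- nonprincipal nonexceptional characters of the principal block have degree at least `p - 1` -/
theorem degree_ge (h : BD G p x0 a Y ε e n c) [IsSimpleGroup G] (hG : ¬ IsMulCommutative G)
    {χ : IrrCharacter G} (hχ : a χ ≠ 0) (hχt : χ ≠ triv G) : p ≤ charDegree (χ : G → ℂ) + 1 := by
  have hp1 := hp.out.one_lt
  obtain ⟨m, hm⟩ := h.hdeg χ hχ
  have h1 := degree_gt_one hG hχt
  have hm0 : 1 ≤ m := by
    by_contra hcon
    push Not at hcon
    have : (p : ℤ) * m ≤ 0 := mul_nonpos_of_nonneg_of_nonpos (by positivity) (by omega)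
    rcases h.ha χ with h2 | h2 | h2 <;> omega
  have h3 : (p : ℤ) * 1 ≤ p * m := mul_le_mul_of_nonneg_left hm0 (by positivity)
  rcases h.ha χ with h2 | h2 | h2
  · exact absurd h2 hχ
  · omega
  · omega

/-- first reduction -/
theorem setup (h : BD G p x0 a Y ε e n c) [IsSimpleGroup G] (hG : ¬ IsMulCommutative G)
    {q b g : ℕ} (hq : q.Prime) (hcard : c * e * (1 + n * p) = q ^ b * g) (hg : g < p - 1) {θ : IrrCharacter G} (hθ : θ ∈ Y) :
    c = 1 ∧ (∀ χ, a χ ≠ 0 → χ ≠ triv G → q ∣ charDegree (χ : G → ℂ)) ∧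
    ((q : ℤ) ∣ ε * charDegree (θ : G → ℂ) - 1) ∧ charDegree (θ : G → ℂ) ∣ g ∧
    charDegree (θ : G → ℂ) < p - 1 := by
  classical
  have hp1 := hp.out.one_lt
  have he := h.e_pos
  have hc := h.c_pos
  have hgpos : 0 < g := by
    rcases Nat.eq_zero_or_pos g with h0 | h0
    · rw [h0, mul_zero] at hcard
      have : 0 < c * e * (1 + n * p) := by positivity
      omega
    · exact h0
  have hdvd : ∀ χ : IrrCharacter G, (a χ ≠ 0 ∨ χ ∈ Y) → ¬ q ∣ charDegree (χ : G → ℂ) →
      charDegree (χ : G → ℂ) ∣ g := by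
    intro χ hχ hnd
    have h1 := h.degree_dvd hχ
    rw [hcard] at h1
    exact Nat.Coprime.dvd_of_dvd_mul_left
      (Nat.Coprime.pow_right _ ((Nat.Prime.coprime_iff_not_dvd hq).2 hnd).symm) h1
  have hA : ∀ χ, a χ ≠ 0 → χ ≠ triv G → q ∣ charDegree (χ : G → ℂ) := by
    intro χ hχ hχt
    by_contra hnd
    have h1 := Nat.le_of_dvd hgpos (hdvd χ (Or.inl hχ) hnd)
    have h2 := degree_ge h hG hχ hχt
    omega
  have hmod : (q : ℤ) ∣ ε * charDegree (θ : G → ℂ) - 1 := by
    rw [h.degree_sum hθ]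
    have h2 : ∑ ψ : IrrCharacter G, a ψ * (charDegree (ψ : G → ℂ) : ℤ) - 1 = ∑ ψ : IrrCharacter G,
        (a ψ * (charDegree (ψ : G → ℂ) : ℤ) - (if ψ = triv G then 1 else 0)) := by
      rw [Finset.sum_sub_distrib, Finset.sum_ite_eq' Finset.univ (triv G),
        if_pos (Finset.mem_univ _)]
    rw [h2]
    apply Finset.dvd_sum
    intro ψ _
    by_cases hψ : ψ = triv G
    · rw [if_pos hψ, hψ, h.htriv, triv_degree]
      simp
    · rw [if_neg hψ, sub_zero]
      by_cases hψa : a ψ = 0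
      · rw [hψa, zero_mul]; exact dvd_zero _
      · exact Dvd.dvd.mul_left (by exact_mod_cast hA ψ hψa hψ) _
  have hnd : ¬ q ∣ charDegree (θ : G → ℂ) := by
    intro hd
    have h1 : (q : ℤ) ∣ ε * charDegree (θ : G → ℂ) := Dvd.dvd.mul_left (by exact_mod_cast hd) _
    have h2 : (q : ℤ) ∣ 1 := (Int.dvd_iff_dvd_of_dvd_sub hmod).1 h1
    have h3 : q ∣ 1 := by exact_mod_cast h2
    exact hq.one_lt.ne' (Nat.dvd_one.1 h3)
  have hDg := hdvd θ (Or.inr hθ) hnd
  have hDle := Nat.le_of_dvd hgpos hDg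
  refine ⟨?_, hA, hmod, hDg, by omega⟩
  exact c_eq_one_of_lt h (Or.inr hθ) (h.triv_notin hθ) (by omega)

/-- the case of positive sign -/
theorem pos_case (h : BD G p x0 a Y ε e n c) [IsSimpleGroup G] (hG : ¬ IsMulCommutative G)
    {θ : IrrCharacter G} (hθ : θ ∈ Y) (hD : charDegree (θ : G → ℂ) < p - 1)
    (hε : ε = 1) : Nonempty (G ≃* Matrix.ProjectiveSpecialLinearGroup (Fin 2) (ZMod p)) := by
  have hp1 := hp.out.one_lt
  have helt := h.e_lt
  have he := h.e_pos
  have hDe : charDegree (θ : G → ℂ) = e := by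
    obtain ⟨m, hm⟩ := h.hdegY θ hθ
    rw [hε, one_mul] at hm
    have h1 := H82.Deg.charDegree_pos θ
    have hm0 : m = 0 := by
      rcases lt_trichotomy m 0 with h2 | h2 | h2
      · exfalso
        have : (p : ℤ) * m ≤ p * (-1) := mul_le_mul_of_nonneg_left (by omega) (by positivity)
        omega
      · exact h2
      · exfalso
        have : (p : ℤ) * 1 ≤ p * m := mul_le_mul_of_nonneg_left (by omega) (by positivity)
        omega
    rw [hm0, mul_zero, add_zero] at hm
    exact_mod_cast hm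
  have hdiv : p ∣ Nat.card G := by
    rw [h.hcard, mul_assoc, mul_assoc]; exact dvd_mul_right _ _
  have hsq : ¬ p ^ 2 ∣ Nat.card G := by
    intro hd
    apply h.hidx
    have h1 := (Subgroup.zpowers x0).card_mul_index
    rw [card_zp h.hx0] at h1
    rw [← h1, sq] at hd
    exact (Nat.mul_dvd_mul_iff_left hp.out.pos).1 hd
  have hnn : ∀ H : Subgroup G, H.Normal → Nat.card H ≠ p := by
    intro H hH hHc
    rcases hH.eq_bot_or_eq_top with h1 | h1
    · rw [h1, Subgroup.card_bot] at hHc; omega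
    · rw [h1, Subgroup.card_top] at hHc
      apply hG
      have := isCyclic_of_prime_card hHc
      infer_instance
  have hfaith : ∀ g : G, (θ : G → ℂ) g = (θ : G → ℂ) 1 → g = 1 := fun g hg =>
    ker_trivial (h.triv_notin hθ) hg
  have hch := isCharacter_of_isIrr θ.2
  have h1 := Cfsg.Agent.S4503.result p hp.out hdiv hsq hnn _ hch hfaith
  obtain ⟨s, hs1, hes, -⟩ := h.exists_s
  rw [hDe] at h1 hD
  have hs2 : s = 2 := by
    have h2 : s ≤ 2 := by
      by_contra hcon
      push Not at hcon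
      have : e * 3 ≤ e * s := Nat.mul_le_mul_left _ hcon
      omega
    have h3 : s ≠ 1 := by
      rintro rfl
      omega
    omega
  rw [hs2] at hes
  obtain ⟨f⟩ := Cfsg.Agent.S4504.result p hp.out hdiv hsq hnn _ hch hfaith (by rw [hDe]; omega)
  have hZ : Subgroup.center G = ⊥ := by
    rcases (inferInstance : (Subgroup.center G).Normal).eq_bot_or_eq_top with h | h
    · exact h
    · exact absurd (Subgroup.center_eq_top_iff.1 h) hG
  exact ⟨((QuotientGroup.quotientMulEquivOfEq hZ).trans QuotientGroup.quotientBot).symm.trans f⟩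

end H21.BT
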