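import Cfsg.Agent.Lib.H21.BT3

/-!
The theorem of Brauer and Tuan: the case of negative sign.
-/

set_option autoImplicit false
set_option linter.unusedSectionVars false

namespace H21.BT

open Cfsg H18.CharBasic H18.CharOrtho H18.CharInd H21.PLat H21.BK

universe u

variable {G : Type u} [Group G] [Fintype G] [Fintype (IrrCharacter G)] {p : ℕ} [hp : Fact p.Prime]
  {x0 : G} {a : IrrCharacter G → ℤ} {Y : Finset (IrrCharacter G)} {ε : ℤ} {e n c : ℕ}

/-- sums over the block -/
theorem dvd_sub_one_of_forall (h : BD G p x0 a Y ε e n c) {N : ℤ} (P : IrrCharacter G → Prop)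
    [DecidablePred P] (hP : P (triv G))
    (hN : ∀ χ, P χ → a χ ≠ 0 → χ ≠ triv G → N ∣ (charDegree (χ : G → ℂ) : ℤ)) :
    N ∣ ∑ χ : IrrCharacter G, (if P χ then a χ * (charDegree (χ : G → ℂ) : ℤ) else 0) - 1 := by
  classical
  have h2 : ∑ χ : IrrCharacter G, (if P χ then a χ * (charDegree (χ : G → ℂ) : ℤ) else 0) - 1 =
      ∑ χ : IrrCharacter G, ((if P χ then a χ * (charDegree (χ : G → ℂ) : ℤ) else 0) -
        (if χ = triv G then 1 else 0)) := by
    rw [Finset.sum_sub_distrib, Finset.sum_ite_eq' Finset.univ (triv G),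
      if_pos (Finset.mem_univ _)]
  rw [h2]
  apply Finset.dvd_sum
  intro ψ _
  by_cases hψ : ψ = triv G
  · rw [if_pos hψ, hψ, if_pos hP, h.htriv, triv_degree]
    simp
  · rw [if_neg hψ, sub_zero]
    by_cases hPψ : P ψ
    · rw [if_pos hPψ]
      by_cases hψa : a ψ = 0
      · rw [hψa, zero_mul]; exact dvd_zero _
      · exact Dvd.dvd.mul_left (hN ψ hPψ hψa hψ) _
    · rw [if_neg hPψ]; exact dvd_zero _

theorem triv_mem_principal {q : ℕ} {M : Ideal AlgInt} (hM : IsPModular q M) :
    triv G ∈ principalBlock M G := by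
  have hpr : M.IsPrime := H20.Loc.pm_isPrime hM
  have h1 : ((triv G : IrrCharacter G) : G → ℂ) = fun _ => 1 := by
    funext g; simp
  have h2 := H20.Blk.mem_blockOf_self (M := M) (triv G)
  rw [h1] at h2
  exact h2

theorem fin1 (e : ℕ) : (2 * e + 1) * (2 * e) * (e + 1) < (2 * e + 1) ^ 3 := by
  have h1 : (2 * e) * (e + 1) < (2 * e + 1) ^ 2 := by nlinarith
  calc (2 * e + 1) * (2 * e) * (e + 1) = (2 * e + 1) * ((2 * e) * (e + 1)) := by ring
    _ < (2 * e + 1) * (2 * e + 1) ^ 2 := Nat.mul_lt_mul_of_pos_left h1 (by omega)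
    _ = _ := by ring

theorem fin2 {e : ℕ} (h5 : 4 ≤ e) (h4 : (2 * e) ^ 3 ≤ (e + 1) * ((2 * e + 1) * (e + 1))) : False := by
  have h1 : 4 * (e * e) ≤ e * (e * e) := Nat.mul_le_mul_right _ h5
  have h2 : 4 * e ≤ e * e := Nat.mul_le_mul_right _ h5
  nlinarith

set_option maxHeartbeats 2000000 in
theorem neg_case (h : BD G p x0 a Y ε e n c) [IsSimpleGroup G] (hG : ¬ IsMulCommutative G)
    {q b g : ℕ} (hq : q.Prime) (hcard : c * e * (1 + n * p) = q ^ b * g) (hg : g < p - 1)
    (hε : ε = -1) : Nat.card G < p ^ 3 ∧ ∃ m, p = 2 ^ m + 1 := by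
  classical
  have hp1 := hp.out.one_lt
  have he2 := h.e_two hG
  have helt := h.e_lt
  obtain ⟨θ, hθ⟩ := h.exists_Y
  obtain ⟨hc, hA, hmod, hDg, hDlt⟩ := setup h hG hq hcard hg hθ
  obtain ⟨s, hs1, hes, hYs⟩ := h.exists_s
  have hDpos := H82.Deg.charDegree_pos θ
  have hDgt := degree_gt_one hG (h.triv_notin hθ)
  -- the exceptional degree
  have hDe : charDegree (θ : G → ℂ) + e = p := by
    obtain ⟨m, hm⟩ := h.hdegY θ hθ
    rw [hε] at hm
    have hm0 : m = 1 := by
      rcases lt_trichotomy m 1 with h2 | h2 | h2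
      · exfalso
        have : (p : ℤ) * m ≤ p * 0 := mul_le_mul_of_nonneg_left (by omega) (by positivity)
        omega
      · exact h2
      · exfalso
        have : (p : ℤ) * 2 ≤ p * m := mul_le_mul_of_nonneg_left (by omega) (by positivity)
        omega
    rw [hm0] at hm
    omega
  set D := charDegree (θ : G → ℂ) with hD
  have hs2 : 2 ≤ s := by
    by_contra hcon
    have : s = 1 := by omega
    rw [this, mul_one] at hes
    omega
  have h2e : e * 2 ≤ p - 1 := by
    have : e * 2 ≤ e * s := Nat.mul_le_mul_left _ hs2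
    omega
  have hgD : g = D := by
    obtain ⟨k, hk⟩ := hDg
    have hk1 : k ≠ 0 := by
      rintro rfl
      rw [mul_zero] at hk
      rw [hk, mul_zero] at hcard
      have h1 : 0 < c * e * (1 + n * p) := by
        have := h.c_pos
        have := h.e_pos
        positivity
      omega
    have hk2 : ¬ 2 ≤ k := by
      intro h2
      have : D * 2 ≤ D * k := Nat.mul_le_mul_left _ h2
      omega
    have : k = 1 := by omega
    rw [hk, this, mul_one]
  rw [hc, one_mul, hgD] at hcard
  have hcop : Nat.Coprime e D := by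
    rw [Nat.coprime_iff_gcd_eq_one]
    have h1 : Nat.gcd e D ∣ p := by
      rw [← hDe]
      exact dvd_add (Nat.gcd_dvd_right _ _) (Nat.gcd_dvd_left _ _)
    rcases (Nat.dvd_prime hp.out).1 h1 with h2 | h2
    · exact h2
    · have h3 := Nat.le_of_dvd h.e_pos (Nat.gcd_dvd_left e D)
      omega
  have heq : e ∣ q ^ b := by
    have h1 : e ∣ q ^ b * D := by rw [← hcard]; exact dvd_mul_right _ _
    exact hcop.dvd_of_dvd_mul_right h1
  obtain ⟨i, hib, hei⟩ := (Nat.dvd_prime_pow hq).1 heq
  have hi1 : 1 ≤ i := by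
    rcases Nat.eq_zero_or_pos i with h0 | h0
    · rw [h0, pow_zero] at hei; omega
    · exact h0
  have hqe : q ∣ e := by rw [hei]; exact dvd_pow_self q (by omega)
  have hq2 : q = 2 := by
    rw [hε] at hmod
    have h1 : (q : ℤ) ∣ (e : ℤ) := by exact_mod_cast hqe
    have h2 : (q : ℤ) ∣ 2 := by
      have h3 : (2 : ℤ) = -(-1 * (D : ℤ) - 1) + e * (1 - s) := by
        have h4 : (D : ℤ) = p - e := by omega
        have h5 : (p : ℤ) = e * s + 1 := by exact_mod_cast hes
        rw [h4, h5]; ring
      rw [h3]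
      exact dvd_add (dvd_neg.2 hmod) (Dvd.dvd.mul_right h1 _)
    have h3 : q ∣ 2 := by exact_mod_cast h2
    exact (Nat.prime_dvd_prime_iff_eq hq Nat.prime_two).1 h3
  subst hq2
  have : Fact (Nat.Prime 2) := ⟨Nat.prime_two⟩
  have hpodd : p % 2 = 1 := by
    rcases hp.out.eq_two_or_odd with h1 | h1
    · omega
    · exact h1
  have hDodd : D % 2 = 1 := by omega
  have hcardG : Nat.card G = p * 2 ^ b * D := by
    rw [h.hcard, hc, mul_one, mul_assoc, hcard, mul_assoc]
  have hfac : (Nat.card G).factorization 2 = b := by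
    rw [hcardG, Nat.factorization_mul (by positivity) (by omega),
      Nat.factorization_mul (by omega) (by positivity)]
    rw [Finsupp.add_apply, Finsupp.add_apply, Nat.factorization_eq_zero_of_not_dvd (by omega),
      Nat.factorization_eq_zero_of_not_dvd (n := D) (by omega), Nat.prime_two.factorization_pow]
    simp
  obtain ⟨Mq, hMq⟩ := H78.Cong.exists_isPModular Nat.prime_two
  have hb1 : 1 ≤ b := by omega
  obtain ⟨δ, t, hδ, ht⟩ := two_primes h hc (q := 2) (by omega) hMq hθ
    ⟨2 ^ (b - 1), by rw [hcard, ← pow_succ', Nat.sub_add_cancel hb1]⟩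
  rw [hfac, hε] at ht
  have h2G : 2 ∣ Nat.card G := by
    rw [hcardG, mul_assoc]
    exact Dvd.dvd.mul_left (Dvd.dvd.mul_right (dvd_pow_self 2 (by omega)) _) _
  have htm := triv_mem_principal (G := G) hMq
  rcases Nat.lt_or_ge i 2 with hi2 | hi2
  · -- `e = 2`
    have hi : i = 1 := by omega
    rw [hi, pow_one] at hei
    have hnorm := h.hnorm
    rw [← Finset.add_sum_erase _ _ (Finset.mem_univ (triv G)), h.htriv, hei] at hnorm
    obtain ⟨χ1, hχ1m, hχ1⟩ : ∃ χ ∈ Finset.univ.erase (triv G), a χ ≠ 0 := by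
      by_contra hcon
      push Not at hcon
      rw [Finset.sum_eq_zero (fun χ hχ => by rw [hcon χ hχ, mul_zero])] at hnorm
      norm_num at hnorm
    have hχ1t := Finset.ne_of_mem_erase hχ1m
    have ha1 : a χ1 * a χ1 = 1 := by
      rcases h.ha χ1 with h1 | h1 | h1
      · exact absurd h1 hχ1
      · rw [h1]; norm_num
      · rw [h1]; norm_num
    rw [← Finset.add_sum_erase _ _ hχ1m, ha1] at hnorm
    have hrest : ∀ χ ∈ (Finset.univ.erase (triv G)).erase χ1, a χ = 0 := by
      have h1 : ∑ χ ∈ (Finset.univ.erase (triv G)).erase χ1, a χ * a χ = 0 := by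
        push_cast at hnorm
        linarith
      intro χ hχ
      have h2 := (Finset.sum_eq_zero_iff_of_nonneg (fun χ _ => mul_self_nonneg (a χ))).1 h1 χ hχ
      exact mul_self_eq_zero.1 h2
    have hzero : ∀ χ : IrrCharacter G, χ ≠ triv G → χ ≠ χ1 → a χ = 0 := fun χ h1 h2 =>
      hrest χ (Finset.mem_erase.2 ⟨h2, Finset.mem_erase.2 ⟨h1, Finset.mem_univ _⟩⟩)
    have hdeg := h.degree_sum hθ
    rw [← Finset.add_sum_erase _ _ (Finset.mem_univ (triv G)), ← Finset.add_sum_erase _ _ hχ1m,
      Finset.sum_eq_zero (fun χ hχ => by rw [hrest χ hχ, zero_mul]), h.htriv, triv_degree, hε]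
      at hdeg
    have hD1 : charDegree (χ1 : G → ℂ) = p - 1 := by
      rcases h.ha χ1 with h1 | h1 | h1
      · exact absurd h1 hχ1
      · rw [h1] at hdeg
        push_cast at hdeg
        omega
      · rw [h1] at hdeg
        push_cast at hdeg
        omega
    have hpow : p - 1 ∣ 2 ^ b := by
      have h1 := h.degree_dvd (χ := χ1) (Or.inl hχ1)
      rw [hc, one_mul, hcard, hD1] at h1
      have h2 : Nat.Coprime (p - 1) D := by
        have h3 : p - 1 = D + 1 := by omega
        rw [h3]
        exact (Nat.coprime_self_add_left.2 (Nat.coprime_one_left D))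
      exact h2.dvd_of_dvd_mul_right h1
    obtain ⟨j, -, hj⟩ := (Nat.dvd_prime_pow Nat.prime_two).1 hpow
    have hnot : χ1 ∉ principalBlock Mq G :=
      notin_principal hG hMq h2G hχ1t (j := j) (by rw [hD1, hj])
    have hS : ∑ χ : IrrCharacter G, (if χ ∈ principalBlock Mq G then
        a χ * (charDegree (χ : G → ℂ) : ℤ) else 0) = 1 := by
      rw [← Finset.add_sum_erase _ _ (Finset.mem_univ (triv G)), if_pos htm, h.htriv,
        triv_degree, Finset.sum_eq_zero]
      · norm_num
      · intro χ hχ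
        by_cases h1 : χ = χ1
        · rw [h1, if_neg hnot]
        · rw [hzero χ (Finset.ne_of_mem_erase hχ) h1]
          simp
    rw [hS] at ht
    have hb : 2 ^ b ≤ p - 1 := by
      rcases hδ with h1 | h1
      · exfalso
        rw [h1, zero_mul, sub_zero] at ht
        have h3 : (2 : ℤ) ∣ 1 := by
          rw [ht]
          exact Dvd.dvd.mul_right (by exact_mod_cast dvd_pow_self 2 (by omega : b ≠ 0)) _
        norm_num at h3
      · rw [h1] at ht
        have h3 : ((2 ^ b : ℕ) : ℤ) ∣ ((p - 1 : ℕ) : ℤ) := by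
          refine ⟨t, ?_⟩
          push_cast at ht ⊢
          rw [← ht]
          omega
        exact Nat.le_of_dvd (by omega) (by exact_mod_cast h3)
    refine ⟨?_, j, by omega⟩
    rw [hcardG]
    have h3 : p * 2 ^ b * D < p * p * p := by
      apply Nat.mul_lt_mul_of_le_of_lt _ (by omega) (by positivity)
      exact Nat.mul_le_mul_left _ (by omega)
    calc _ < _ := h3
      _ = _ := by ring
  · -- `4 ∣ e`
    have h4e : 4 ∣ e := by
      rw [hei]
      exact (pow_dvd_pow 2 hi2)
    -- a degree which is not divisible by `4`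
    obtain ⟨χ, hχa, hχt, hχ4⟩ : ∃ χ, a χ ≠ 0 ∧ χ ≠ triv G ∧ ¬ 4 ∣ charDegree (χ : G → ℂ) := by
      by_contra hcon
      push Not at hcon
      have h1 := dvd_sub_one_of_forall h (N := 4) (fun _ => True) trivial
        (fun χ _ h1 h2 => by exact_mod_cast hcon χ h1 h2)
      simp only [if_true] at h1
      rw [← h.degree_sum hθ, hε] at h1
      obtain ⟨e', he'⟩ := h4e
      have h5 : (p : ℤ) = 4 * (e' * s) + 1 := by
        rw [hes, he']; push_cast; ring
      omega
    have h2χ := hA χ hχa hχt
    obtain ⟨d, hd⟩ := h2χ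
    have hdodd : d % 2 = 1 := by omega
    have hcopd : Nat.Coprime d (2 ^ b) :=
      Nat.Coprime.pow_right _ (Nat.coprime_two_right.2 (Nat.odd_iff.2 hdodd))
    have hdD : d ∣ D := by
      have h1 := h.degree_dvd (χ := χ) (Or.inl hχa)
      rw [hc, one_mul, hcard, hd] at h1
      have h3 : d ∣ 2 ^ b * D := (dvd_mul_left _ _).trans h1
      exact hcopd.dvd_of_dvd_mul_left h3
    have hdle := Nat.le_of_dvd hDpos hdD
    obtain ⟨m, hm⟩ := h.hdeg χ hχa
    have hge := degree_ge h hG hχa hχt
    have hp2e : p = 2 * e + 1 := by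
      have hm1 : m = 1 := by
        rcases lt_trichotomy m 1 with h2 | h2 | h2
        · exfalso
          have : (p : ℤ) * m ≤ p * 0 := mul_le_mul_of_nonneg_left (by omega) (by positivity)
          rcases h.ha χ with h3 | h3 | h3 <;> omega
        · exact h2
        · exfalso
          have : (p : ℤ) * 2 ≤ p * m := mul_le_mul_of_nonneg_left (by omega) (by positivity)
          rcases h.ha χ with h3 | h3 | h3 <;> omega
      rw [hm1] at hm
      rcases h.ha χ with h3 | h3 | h3
      · exact absurd h3 hχa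
      · obtain ⟨k, hk⟩ := hdD
        have hk1 : k = 1 := by
          have hk0 : k ≠ 0 := by rintro rfl; omega
          have hk2 : ¬ 2 ≤ k := by
            intro h4
            have : d * 2 ≤ d * k := Nat.mul_le_mul_left _ h4
            omega
          omega
        rw [hk1, mul_one] at hk
        omega
      · exfalso
        obtain ⟨e', he'⟩ := h4e
        have h5 : (p : ℤ) = 4 * (e' * s) + 1 := by
          rw [hes, he']; push_cast; ring
        apply hχ4
        have h6 : (charDegree (χ : G → ℂ) : ℤ) = 4 * (e' * s) := by omega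
        have h7 : (4 : ℤ) ∣ (charDegree (χ : G → ℂ) : ℤ) := ⟨_, h6⟩
        exact_mod_cast h7
    have hDe1 : D = e + 1 := by omega
    have hp2 : p = 2 ^ (i + 1) + 1 := by rw [hp2e, hei, pow_succ']
    -- the degrees in the intersection of the principal blocks
    have hdivB : ∀ χ, χ ∈ principalBlock Mq G → a χ ≠ 0 → χ ≠ triv G →
        ((e + 1 : ℕ) : ℤ) ∣ (charDegree (χ : G → ℂ) : ℤ) := by
      intro ψ hψB hψa hψt
      have hψpos := H82.Deg.charDegree_pos ψ
      obtain ⟨j, d', hd'odd, hd'⟩ := Nat.exists_eq_two_pow_mul_odd hψpos.ne'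
      have hd'1 := Nat.odd_iff.1 hd'odd
      have hd'D : d' ∣ e + 1 := by
        have h1 := h.degree_dvd (χ := ψ) (Or.inl hψa)
        rw [hc, one_mul, hcard, hd', hDe1] at h1
        have h3 : d' ∣ 2 ^ b * (e + 1) := (dvd_mul_left _ _).trans h1
        exact (Nat.Coprime.pow_right _ (Nat.coprime_two_right.2 hd'odd)).dvd_of_dvd_mul_left h3
      by_cases hde : d' = e + 1
      · rw [hd', hde]
        push_cast
        exact dvd_mul_left _ _
      · exfalso
        have h2d : 2 * d' ≤ e + 1 := by
          obtain ⟨k, hk⟩ := hd'D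
          have hk0 : k ≠ 0 := by rintro rfl; omega
          have hk1 : k ≠ 1 := by rintro rfl; omega
          have : d' * 2 ≤ d' * k := Nat.mul_le_mul_left _ (by omega)
          omega
        obtain ⟨m', hm'⟩ := h.hdeg ψ hψa
        have hodd := odd_part (p := p) (m := i + 1) (j := j) (d := d') (by omega) hp2 hd'1
          (by rw [Nat.add_sub_cancel, ← hei]; exact h2d) (by
            rw [← hd']
            rcases h.ha ψ with h3 | h3 | h3
            · exact absurd h3 hψa
            · left; exact ⟨m', by rw [hm', h3]; ring⟩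
            · right; exact ⟨m', by rw [hm', h3]; ring⟩)
        rw [hodd, mul_one] at hd'
        exact notin_principal hG hMq h2G hψt hd' hψB
    have hN1 := dvd_sub_one_of_forall h (N := ((e + 1 : ℕ) : ℤ)) (fun χ => χ ∈ principalBlock Mq G)
      htm hdivB
    set S := ∑ χ : IrrCharacter G, (if χ ∈ principalBlock Mq G then
        a χ * (charDegree (χ : G → ℂ) : ℤ) else 0) with hS
    have ht0 : t ≠ 0 := by
      rintro rfl
      rw [mul_zero] at ht
      have h1 : ((e + 1 : ℕ) : ℤ) ∣ S + δ * D := by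
        have : S + δ * D = 0 := by linarith
        rw [this]; exact dvd_zero _
      have h2 : ((e + 1 : ℕ) : ℤ) ∣ δ * D := by
        rw [hDe1]; exact dvd_mul_left _ _
      have h3 : ((e + 1 : ℕ) : ℤ) ∣ 1 := by
        have h4 : (1 : ℤ) = (S + δ * D) - δ * D - (S - 1) := by ring
        rw [h4]
        exact dvd_sub (dvd_sub h1 h2) hN1
      have h5 : e + 1 ∣ 1 := by exact_mod_cast h3
      have := Nat.le_of_dvd one_pos h5
      omega
    -- bounding by the sum of the squares
    set T : Finset (IrrCharacter G) := insert θ (Finset.univ.filter fun χ => a χ ≠ 0) with hT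
    have hθT : θ ∉ Finset.univ.filter (fun χ => a χ ≠ 0) := by
      rw [Finset.mem_filter]
      intro h1
      exact h1.2 (h.hYa θ hθ)
    have hTcard : T.card = e + 1 := by
      rw [hT, Finset.card_insert_of_notMem hθT]
      congr 1
      have h1 : ((Finset.univ.filter fun χ : IrrCharacter G => a χ ≠ 0).card : ℤ) = e := by
        rw [← h.hnorm, Finset.card_eq_sum_ones, Finset.sum_filter]
        push_cast
        refine Finset.sum_congr rfl fun χ _ => ?_
        rcases h.ha χ with h2 | h2 | h2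
        · rw [h2]; simp
        · rw [h2]; simp
        · rw [h2]; simp
      exact_mod_cast h1
    have hbound : |S + δ * D| ≤ ∑ χ ∈ T, (charDegree (χ : G → ℂ) : ℤ) := by
      rw [hT, Finset.sum_insert hθT]
      have h1 : |S| ≤ ∑ χ ∈ Finset.univ.filter (fun χ => a χ ≠ 0), (charDegree (χ : G → ℂ) : ℤ) := by
        rw [Finset.sum_filter]
        refine (Finset.abs_sum_le_sum_abs _ _).trans (Finset.sum_le_sum fun χ _ => ?_)
        split_ifs with h2 h3 h3
        · rcases h.ha χ with h4 | h4 | h4
          · exact absurd h4 h3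
          · rw [h4, one_mul]; exact (abs_of_nonneg (by positivity)).le
          · rw [h4, neg_one_mul, abs_neg]; exact (abs_of_nonneg (by positivity)).le
        · push Not at h3
          rw [h3, zero_mul, abs_zero]
        · rw [abs_zero]; positivity
        · rw [abs_zero]
      have h2 : |δ * (D : ℤ)| ≤ D := by
        rcases hδ with h3 | h3
        · rw [h3, zero_mul, abs_zero]; positivity
        · rw [h3, one_mul]; exact (abs_of_nonneg (by positivity)).le
      calc |S + δ * D| ≤ |S| + |δ * (D : ℤ)| := abs_add_le _ _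
        _ ≤ _ := by rw [add_comm]; exact add_le_add h2 h1
    have h2b : ((2 : ℤ) ^ b) ≤ |S + δ * D| := by
      have h1 : S + δ * D = 2 ^ b * t := by push_cast at ht; linarith
      rw [h1, abs_mul, abs_of_nonneg (by positivity : (0 : ℤ) ≤ 2 ^ b)]
      exact le_mul_of_one_le_right (by positivity) (Int.one_le_abs ht0)
    have hCS : (∑ χ ∈ T, (charDegree (χ : G → ℂ) : ℤ)) ^ 2 ≤ (e + 1) * Nat.card G := by
      have h1 := sq_sum_le_card_mul_sum_sq (s := T) (f := fun χ => (charDegree (χ : G → ℂ) : ℤ))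
      rw [hTcard] at h1
      have h3 : ∑ χ ∈ T, (charDegree (χ : G → ℂ)) ^ 2 ≤ Nat.card G := by
        rw [← H82.Deg.sum_degree_sq_nat]
        exact Finset.sum_le_sum_of_subset (Finset.subset_univ _)
      have h4 : (∑ χ ∈ T, (charDegree (χ : G → ℂ) : ℤ) ^ 2) ≤ Nat.card G := by exact_mod_cast h3
      calc _ ≤ _ := h1
        _ ≤ _ := by
          push_cast
          exact mul_le_mul_of_nonneg_left h4 (by positivity)
    have hfin : 2 ^ b ≤ (e + 1) * (p * (e + 1)) := by
      have h1 : ((2 : ℤ) ^ b) ^ 2 ≤ (e + 1) * Nat.card G := by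
        refine le_trans ?_ hCS
        exact pow_le_pow_left₀ (by positivity) (h2b.trans hbound) 2
      rw [hcardG, hDe1] at h1
      have h3 : (2 ^ b) * (2 ^ b) ≤ (2 ^ b) * ((e + 1) * (p * (e + 1))) := by
        have h5 : (((2 ^ b) * (2 ^ b) : ℕ) : ℤ) ≤ (((2 ^ b) * ((e + 1) * (p * (e + 1))) : ℕ) : ℤ) := by
          push_cast at h1 ⊢
          calc ((2 : ℤ) ^ b) * 2 ^ b = (2 ^ b) ^ 2 := by ring
            _ ≤ _ := h1
            _ = _ := by ring
        exact_mod_cast h5
      exact Nat.le_of_mul_le_mul_left h3 (by positivity)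
    have hdvd : (p : ℤ) ∣ 2 ^ b + 1 := by
      have h1 : (p : ℤ) ∣ e * (2 ^ b + 1) := by
        refine ⟨2 ^ b - e * n, ?_⟩
        have h3 : ((e * (1 + n * p) : ℕ) : ℤ) = ((2 ^ b * D : ℕ) : ℤ) := by rw [hcard]
        have h4 : (D : ℤ) = p - e := by omega
        push_cast at h3
        rw [h4] at h3
        linear_combination h3
      have h3 : IsCoprime (p : ℤ) e := by
        rw [Nat.isCoprime_iff_coprime]
        exact (Nat.Prime.coprime_iff_not_dvd hp.out).2 (fun hd => by
          have := Nat.le_of_dvd h.e_pos hd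
          omega)
      exact h3.dvd_of_dvd_mul_left h1
    rcases exp_cases (m := i + 1) (by omega) hp2 hdvd with hb | hb
    · refine ⟨?_, i + 1, hp2⟩
      rw [hcardG, hDe1, hb, pow_succ', ← hei, hp2e]
      exact fin1 e
    · exfalso
      have h1 : 2 ^ (3 * (i + 1)) ≤ 2 ^ b := Nat.pow_le_pow_right (by norm_num) hb
      have h3 : 2 ^ (3 * (i + 1)) = (2 * e) ^ 3 := by
        rw [hei, ← pow_succ', ← pow_mul, mul_comm]
      rw [h3] at h1
      have h4 := h1.trans hfin
      rw [hp2e] at h4
      exact fin2 (Nat.le_of_dvd h.e_pos h4e) h4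

end H21.BT
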