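import Cfsg.Agent.Lib.H21.PrimeStruct

set_option autoImplicit false

/-! Counting elements by divisors of their order. -/

namespace H21.CountElts

open Subgroup MulAction H21.SimpleBasic H21.SylowTools H21.CountPrime H21.PrimeAct H21.PrimeCent
  H21.PrimeStruct

variable {G : Type*} [Group G] [Finite G]

/-- disjoint predicates -/
theorem card_or {α : Type*} [Finite α] (P Q : α → Prop) (h : ∀ g, P g → Q g → False) :
    Nat.card {g // P g ∨ Q g} = Nat.card {g // P g} + Nat.card {g // Q g} := by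
  classical
  have hft : Fintype α := Fintype.ofFinite α
  rw [Nat.card_eq_fintype_card, Nat.card_eq_fintype_card, Nat.card_eq_fintype_card,
    Fintype.card_subtype, Fintype.card_subtype, Fintype.card_subtype, Finset.filter_or,
    Finset.card_union_of_disjoint]
  rw [Finset.disjoint_filter]
  intro x _ h1 h2
  exact h x h1 h2

theorem card_sub_le {α : Type*} [Finite α] (P : α → Prop) : Nat.card {g // P g} ≤ Nat.card α :=
  Nat.card_le_card_of_injective (fun g : {g // P g} => g.1) Subtype.val_injective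

/-- if `p ∣ orderOf g` then `g` centralizes a Sylow p-subgroup generated by a power of `g` -/
theorem exists_sylow_of_dvd {p : ℕ} [hp : Fact p.Prime]
    (hP : ∀ P : Sylow p G, Nat.card (P : Subgroup G) = p) {g : G} (h : p ∣ orderOf g) :
    ∃ P : Sylow p G, g ∈ centralizer ((P : Subgroup G) : Set G) ∧
      (P : Subgroup G) = Subgroup.zpowers (g ^ (orderOf g / p)) := by
  obtain ⟨m, hm⟩ := h
  have hpos : 0 < orderOf g := orderOf_pos g
  have hm0 : 0 < m := by
    rcases Nat.eq_zero_or_pos m with h0 | h0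
    · rw [h0, mul_zero] at hm; omega
    · exact h0
  have hdiv : orderOf g / p = m := by
    rw [hm, Nat.mul_div_cancel_left _ hp.out.pos]
  rw [hdiv]
  have hu : orderOf (g ^ m) = p := by
    rw [orderOf_pow_of_dvd hm0.ne' ⟨p, by rw [hm, mul_comm]⟩, hm, Nat.mul_div_cancel _ hm0]
  have h1 : IsPGroup p (Subgroup.zpowers (g ^ m)) := by
    rw [IsPGroup.iff_card]
    exact ⟨1, by rw [Nat.card_zpowers, hu, pow_one]⟩
  obtain ⟨Q, hQ⟩ := h1.exists_le_sylow
  have h2 : (Q : Subgroup G) = Subgroup.zpowers (g ^ m) :=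
    (Subgroup.eq_of_le_of_card_ge hQ (by rw [Nat.card_zpowers, hu, hP Q])).symm
  refine ⟨Q, ?_, h2⟩
  rw [h2, mem_centralizer_iff]
  rintro _ ⟨k, rfl⟩
  exact ((Commute.refl g).pow_left m |>.zpow_left k).eq

/-- if an element has order divisible by `p` and `q`, then `q` divides `|C(P)|` -/
theorem dvd_card_centralizer {p q : ℕ} [hp : Fact p.Prime]
    (hP : ∀ P : Sylow p G, Nat.card (P : Subgroup G) = p) {g : G} (h : p ∣ orderOf g)
    (hq : q ∣ orderOf g) : ∃ P : Sylow p G, q ∣ Nat.card (centralizer ((P : Subgroup G) : Set G)) := by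
  obtain ⟨P, hgP, -⟩ := exists_sylow_of_dvd hP h
  refine ⟨P, hq.trans ?_⟩
  have := orderOf_dvd_natCard (⟨g, hgP⟩ : centralizer ((P : Subgroup G) : Set G))
  rwa [Subgroup.orderOf_mk] at this

/-- an element of order divisible by `p` centralizing `P` determines `P` -/
theorem sylow_eq_of_centralizer {p : ℕ} [hp : Fact p.Prime]
    (hP : ∀ P : Sylow p G, Nat.card (P : Subgroup G) = p) {g : G} (h : p ∣ orderOf g)
    (P Q : Sylow p G) (h1 : g ∈ centralizer ((P : Subgroup G) : Set G))
    (h2 : g ∈ centralizer ((Q : Subgroup G) : Set G)) : P = Q := by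
  obtain ⟨R, hR, hR'⟩ := exists_sylow_of_dvd hP h
  have key : ∀ S : Sylow p G, g ∈ centralizer ((S : Subgroup G) : Set G) → R = S := by
    intro S hS
    have h3 : (R : Subgroup G) ≤ centralizer ((S : Subgroup G) : Set G) := by
      rw [hR', Subgroup.zpowers_le]
      exact pow_mem hS _
    apply Sylow.ext
    have hRnt : Nontrivial (R : Subgroup G) := by
      rw [← Finite.one_lt_card_iff_nontrivial, hP R]; exact hp.out.one_lt
    obtain ⟨⟨u, huR⟩, hu1'⟩ := exists_ne (1 : (R : Subgroup G))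
    have hu1 : u ≠ 1 := fun h => hu1' (Subtype.ext h)
    have h4 : orderOf u = p ^ 1 := by
      rw [pow_one]; exact orderOf_eq_of_mem_of_card_prime (hP R) huR hu1
    have h5 : u ∈ (S : Subgroup G) :=
      mem_of_orderOf_of_mem_normalizer S h4 (Subgroup.centralizer_le_normalizer _ (h3 huR))
    rw [← zpowers_eq_of_card_prime (hP R) huR hu1, ← zpowers_eq_of_card_prime (hP S) h5 hu1]
  rw [← key P h1, ← key Q h2]

/-- number of elements of `C(P)` of order prime to `p` -/
theorem card_coprime_centralizer_le {p : ℕ} [hp : Fact p.Prime] (P : Sylow p G)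
    (hP : Nat.card (P : Subgroup G) = p) {c : ℕ}
    (hc : Nat.card (centralizer ((P : Subgroup G) : Set G)) = p * c) :
    Nat.card {y : centralizer ((P : Subgroup G) : Set G) // ¬ p ∣ orderOf y} ≤ c := by
  classical
  set C := centralizer ((P : Subgroup G) : Set G) with hC
  have hPC : (P : Subgroup G) ≤ C := sylow_le_centralizer P hP
  let P' : Subgroup C := (P : Subgroup G).subgroupOf C
  have hcent : ∀ u : C, u ∈ P' → ∀ y : C, u * y = y * u := by
    intro u hu y
    apply Subtype.ext
    exact mem_centralizer_iff.1 y.2 u hu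
  have hP'card : Nat.card P' = p := by
    rw [Nat.card_congr (Subgroup.subgroupOfEquivOfLe hPC).toEquiv]
    exact hP
  have hidx : Nat.card (C ⧸ P') = c := by
    have h1 := Subgroup.card_mul_index P'
    rw [hP'card, hc] at h1
    exact Nat.eq_of_mul_eq_mul_left hp.out.pos h1
  have hpow : ∀ u : C, u ∈ P' → u ^ p = 1 := by
    intro u hu
    have := pow_card_eq_one' (x := (⟨u, hu⟩ : P'))
    rw [hP'card] at this
    have h2 := congrArg (fun z : P' => (z : C)) this
    simpa using h2
  have key : ∀ y z : C, ¬ p ∣ orderOf y → ¬ p ∣ orderOf z → y⁻¹ * z ∈ P' → y = z := by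
    intro y z hy hz h
    set u := y⁻¹ * z with hu
    have hzy : z = y * u := by rw [hu]; group
    have hcm : Commute y u := (hcent u h y).symm
    set n := orderOf y * orderOf z with hn
    have h1 : u ^ n = 1 := by
      have h2 : z ^ n = 1 := orderOf_dvd_iff_pow_eq_one.1 ⟨orderOf y, mul_comm _ _⟩
      have h3 : y ^ n = 1 := orderOf_dvd_iff_pow_eq_one.1 ⟨orderOf z, rfl⟩
      rw [hzy, hcm.mul_pow, h3, one_mul] at h2
      exact h2
    have h2 : u ^ p = 1 := hpow u h
    have h3 : orderOf u ∣ Nat.gcd n p := Nat.dvd_gcd (orderOf_dvd_of_pow_eq_one h1) (orderOf_dvd_of_pow_eq_one h2)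
    have h5 : Nat.gcd n p = 1 := by
      rw [← Nat.coprime_iff_gcd_eq_one, Nat.coprime_comm, Nat.Prime.coprime_iff_not_dvd hp.out, hn,
        hp.out.dvd_mul]
      push Not
      exact ⟨hy, hz⟩
    rw [h5] at h3
    have h4 : u = 1 := orderOf_eq_one_iff.1 (Nat.dvd_one.1 h3)
    rw [hzy, h4, mul_one]
  rw [← hidx]
  refine Nat.card_le_card_of_injective
    (fun y : {y : C // ¬ p ∣ orderOf y} => (QuotientGroup.mk y.1 : C ⧸ P')) ?_
  rintro ⟨y, hy⟩ ⟨z, hz⟩ h
  have h1 : (QuotientGroup.mk y : C ⧸ P') = QuotientGroup.mk z := h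
  rw [QuotientGroup.eq] at h1
  exact Subtype.ext (key y z hy hz h1)

/-- number of elements of order divisible by `p` -/
theorem card_dvd_orderOf {p : ℕ} [hp : Fact p.Prime]
    (hP : ∀ P : Sylow p G, Nat.card (P : Subgroup G) = p) {c : ℕ}
    (hc : ∀ P : Sylow p G, Nat.card (centralizer ((P : Subgroup G) : Set G)) = p * c) :
    Nat.card (Sylow p G) * ((p - 1) * c) ≤ Nat.card {g : G // p ∣ orderOf g} := by
  classical
  have hft : Fintype (Sylow p G) := Fintype.ofFinite _
  let S := Σ P : Sylow p G, {y : centralizer ((P : Subgroup G) : Set G) // p ∣ orderOf y}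
  have hS : Nat.card (Sylow p G) * ((p - 1) * c) ≤ Nat.card S := by
    rw [Nat.card_sigma, Nat.card_eq_fintype_card (α := Sylow p G), ← Finset.card_univ,
      ← smul_eq_mul]
    apply Finset.card_nsmul_le_sum
    intro P _
    have hftC : Fintype (centralizer ((P : Subgroup G) : Set G)) := Fintype.ofFinite _
    have h1 := card_coprime_centralizer_le P (hP P) (hc P)
    have h2 : Nat.card {y : centralizer ((P : Subgroup G) : Set G) // ¬ p ∣ orderOf y} =
        p * c - Nat.card {y : centralizer ((P : Subgroup G) : Set G) // p ∣ orderOf y} := by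
      rw [← hc P, Nat.card_eq_fintype_card, Nat.card_eq_fintype_card, Nat.card_eq_fintype_card,
        Fintype.card_subtype_compl]
    rw [h2] at h1
    have h3 : (p - 1) * c = p * c - c := by rw [Nat.sub_mul, one_mul]
    rw [h3]
    omega
  refine hS.trans ?_
  refine Nat.card_le_card_of_injective
    (fun s : S => (⟨(s.2.1 : G), by
      have := s.2.2
      rwa [← Subgroup.orderOf_coe] at this⟩ : {g : G // p ∣ orderOf g})) ?_
  rintro ⟨P, ⟨y, hyC⟩, hy⟩ ⟨Q, ⟨z, hzC⟩, hz⟩ h
  have h1 : y = z := congrArg Subtype.val h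
  subst h1
  rw [Subgroup.orderOf_mk] at hy
  have hPQ : P = Q := sylow_eq_of_centralizer hP hy P Q hyC hzC
  subst hPQ
  rfl

/-- trivial intersection Sylow subgroups: number of `p`-elements -/
theorem card_pelt_of_TI {p : ℕ} [hp : Fact p.Prime] {k : ℕ}
    (hk : ∀ P : Sylow p G, Nat.card (P : Subgroup G) = k)
    (hTI : ∀ P Q : Sylow p G, ∀ x ∈ (P : Subgroup G), x ∈ (Q : Subgroup G) → x ≠ 1 → P = Q) :
    Nat.card (Sylow p G) * (k - 1) ≤ Nat.card {g : G // g ≠ 1 ∧ ∃ j, orderOf g = p ^ j} := by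
  classical
  have hft : Fintype (Sylow p G) := Fintype.ofFinite _
  let S := Σ P : Sylow p G, {y : (P : Subgroup G) // y ≠ 1}
  have hS : Nat.card (Sylow p G) * (k - 1) ≤ Nat.card S := by
    rw [Nat.card_sigma, Nat.card_eq_fintype_card (α := Sylow p G), ← Finset.card_univ,
      ← smul_eq_mul]
    apply Finset.card_nsmul_le_sum
    intro P _
    have hftC : Fintype (P : Subgroup G) := Fintype.ofFinite _
    rw [Nat.card_eq_fintype_card, Fintype.card_subtype_compl, Fintype.card_subtype_eq,
      ← Nat.card_eq_fintype_card, hk P]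
  refine hS.trans ?_
  refine Nat.card_le_card_of_injective
    (fun s : S => (⟨(s.2.1 : G), fun h => s.2.2 (Subtype.ext h), by
      obtain ⟨n, hn⟩ := (IsPGroup.iff_orderOf.1 s.1.2) s.2.1
      exact ⟨n, by rw [Subgroup.orderOf_coe]; exact hn⟩⟩ :
        {g : G // g ≠ 1 ∧ ∃ j, orderOf g = p ^ j})) ?_
  rintro ⟨P, ⟨y, hyC⟩, hy⟩ ⟨Q, ⟨z, hzC⟩, hz⟩ h
  have h1 : y = z := congrArg Subtype.val h
  subst h1
  have hPQ : P = Q := hTI P Q y hyC hzC (fun h => hy (Subtype.ext h))
  subst hPQ
  rfl

end H21.CountElts
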