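import Cfsg.Agent.Lib.H21.BrauerDeg

/-!
Characters of a finite group with a normal self-centralizing abelian subgroup: the part with the
subgroup in the kernel.
-/

set_option autoImplicit false
set_option linter.unusedSectionVars false

namespace H21.FrobRes

open Cfsg H18.CharBasic H18.CharOrtho H18.CharInd H21.BrauerDeg
open scoped ComplexConjugate

universe u

variable {N : Type u} [Group N] [Fintype N] (K : Subgroup N) [hK : K.Normal] [Fintype K]
  (hC : ∀ k ∈ K, k ≠ 1 → Subgroup.centralizer ({k} : Set N) ≤ K)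

include hC in
theorem sum_rel {χ : N → ℂ} (hχ : IsIrrCharacter N χ) (hker : ∃ k ∈ K, χ k ≠ χ 1) :
    ∑ k : K, χ k = 0 := by
  classical
  have h1 := inner_rho_rel K hC hχ hker
  rw [← H18.CharOrtho.inner_conj_symm, map_eq_zero, classInner] at h1
  have h2 : (Nat.card N : ℂ)⁻¹ ≠ 0 := inv_ne_zero card_ne_zero'
  have h3 := (mul_eq_zero.1 h1).resolve_left h2
  have h4 : ∑ g : N, χ g * (starRingEnd ℂ) (rho K g) = K.index * ∑ k : K, χ k := by
    have h5 : ∑ k : K, χ k = ∑ g : N, if g ∈ K then χ g else 0 := by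
      rw [← Finset.sum_filter]
      refine Finset.sum_bij (fun x _ => (x : N)) (fun x _ => by simp)
        (fun x _ y _ h => Subtype.ext h)
        (fun g hg => ⟨⟨g, by simpa using hg⟩, Finset.mem_univ _, rfl⟩) (fun x _ => rfl)
    rw [h5, Finset.mul_sum]
    refine Finset.sum_congr rfl fun g _ => ?_
    by_cases hg : g ∈ K
    · rw [rho_mem K hg, if_pos hg, Complex.conj_natCast]
      ring
    · rw [rho_not_mem K hg, if_neg hg, map_zero, mul_zero, mul_zero]
  rw [h4] at h3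
  have h6 : (K.index : ℂ) ≠ 0 := by exact_mod_cast K.index_ne_zero_of_finite
  exact (mul_eq_zero.1 h3).resolve_left h6

include hC in
/-- the part of a character with `K` in the kernel -/
theorem exists_fix {χ : N → ℂ} (hχ : IsCharacter N χ) :
    ∃ f : N → ℂ, IsCharacter N f ∧ (∀ x, x ∉ K → χ x = f x) ∧
      ∑ k : K, χ k = Nat.card K * f 1 ∧
      classInner f (fun _ => 1) = classInner χ (fun _ => 1) := by
  classical
  let _ := Fintype.ofFinite (IrrCharacter N)
  have hnat : ∀ ψ : IrrCharacter N, ∃ m : ℕ, classInner χ (ψ : N → ℂ) = m := fun ψ =>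
    inner_char_natCast hχ (isCharacter_of_isIrr ψ.2)
  choose m hm using hnat
  let S : Finset (IrrCharacter N) := Finset.univ.filter fun ψ => ∀ k ∈ K, (ψ : N → ℂ) k = (ψ : N → ℂ) 1
  have hexp := mem_classFun_expand (isClassFunction_of_isCharacter hχ)
  have hexp' : χ = ∑ ψ : IrrCharacter N, (m ψ : ℂ) • (ψ : N → ℂ) := by
    conv_lhs => rw [hexp]
    exact Finset.sum_congr rfl fun ψ _ => by rw [hm]
  have hsplit : ∀ x, χ x = ∑ ψ ∈ S, (m ψ : ℂ) * (ψ : N → ℂ) x +
      ∑ ψ ∈ Finset.univ.filter (fun ψ : IrrCharacter N => ¬ ∀ k ∈ K, (ψ : N → ℂ) k = (ψ : N → ℂ) 1),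
        (m ψ : ℂ) * (ψ : N → ℂ) x := by
    intro x
    rw [Finset.sum_filter_add_sum_filter_not]
    conv_lhs => rw [hexp']
    rw [Finset.sum_apply]
    rfl
  refine ⟨∑ ψ ∈ S, (m ψ : ℂ) • (ψ : N → ℂ), ?_, ?_, ?_, ?_⟩
  · exact isCharacter_sum _ _ fun ψ _ => isCharacter_natCast_smul _ (isCharacter_of_isIrr ψ.2)
  · intro x hx
    rw [hsplit x, Finset.sum_apply]
    have h1 : ∑ ψ ∈ Finset.univ.filter (fun ψ : IrrCharacter N =>
        ¬ ∀ k ∈ K, (ψ : N → ℂ) k = (ψ : N → ℂ) 1), (m ψ : ℂ) * (ψ : N → ℂ) x = 0 := by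
      apply Finset.sum_eq_zero
      intro ψ hψ
      have h2 := (Finset.mem_filter.1 hψ).2
      push Not at h2
      rw [H18.TICoh.vanish K hC ψ.2 h2 hx, mul_zero]
    rw [h1, add_zero]
    rfl
  · have h1 : ∀ k : K, χ k = ∑ ψ ∈ S, (m ψ : ℂ) * (ψ : N → ℂ) 1 +
      ∑ ψ ∈ Finset.univ.filter (fun ψ : IrrCharacter N => ¬ ∀ k ∈ K, (ψ : N → ℂ) k = (ψ : N → ℂ) 1),
        (m ψ : ℂ) * (ψ : N → ℂ) k := by
      intro k
      rw [hsplit k]
      congr 1
      refine Finset.sum_congr rfl fun ψ hψ => ?_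
      rw [(Finset.mem_filter.1 hψ).2 k k.2]
    rw [Finset.sum_congr rfl (fun k _ => h1 k), Finset.sum_add_distrib, Finset.sum_const,
      Finset.card_univ, nsmul_eq_mul, Finset.sum_comm]
    have h2 : ∑ ψ ∈ Finset.univ.filter (fun ψ : IrrCharacter N =>
        ¬ ∀ k ∈ K, (ψ : N → ℂ) k = (ψ : N → ℂ) 1), ∑ k : K, (m ψ : ℂ) * (ψ : N → ℂ) k = 0 := by
      apply Finset.sum_eq_zero
      intro ψ hψ
      have h2 := (Finset.mem_filter.1 hψ).2
      push Not at h2
      rw [← Finset.mul_sum, sum_rel K hC ψ.2 h2, mul_zero]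
    rw [h2, add_zero, Nat.card_eq_fintype_card, Finset.sum_apply]
    rfl
  · have h1 : (⟨fun _ => 1, isIrrCharacter_one⟩ : IrrCharacter N) ∈ S := by
      simp [S]
    rw [H18.CharOrtho.inner_sum_left, Finset.sum_eq_single (⟨fun _ => 1, isIrrCharacter_one⟩ : IrrCharacter N)]
    · rw [H18.CharOrtho.inner_smul_left, inner_irr_self isIrrCharacter_one, mul_one]
      exact (hm _).symm
    · intro ψ _ hψ
      rw [H18.CharOrtho.inner_smul_left, inner_irr_ne ψ.2 isIrrCharacter_one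
        (fun h => hψ (Subtype.ext h)), mul_zero]
    · intro h
      exact absurd h1 h

/-- a character with maximal multiplicity of `1` is constant -/
theorem const_of_inner {f : N → ℂ} (hf : IsCharacter N f) (h : classInner f (fun _ => 1) = f 1)
    (x : N) : f x = f 1 := by
  classical
  let _ := Fintype.ofFinite (IrrCharacter N)
  have hnat : ∀ ψ : IrrCharacter N, ∃ m : ℕ, classInner f (ψ : N → ℂ) = m := fun ψ =>
    inner_char_natCast hf (isCharacter_of_isIrr ψ.2)
  choose m hm using hnat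
  have hexp := mem_classFun_expand (isClassFunction_of_isCharacter hf)
  have hexp' : f = ∑ ψ : IrrCharacter N, (m ψ : ℂ) • (ψ : N → ℂ) := by
    conv_lhs => rw [hexp]
    exact Finset.sum_congr rfl fun ψ _ => by rw [hm]
  have hval : ∀ x, f x = ∑ ψ : IrrCharacter N, (m ψ : ℂ) * (ψ : N → ℂ) x := by
    intro x
    conv_lhs => rw [hexp']
    rw [Finset.sum_apply]
    rfl
  have hdeg : ∀ χ : IrrCharacter N, ∃ d : ℕ, 0 < d ∧ (χ : N → ℂ) 1 = d :=
    fun χ => exists_degree_pos χ.2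
  choose d hd0 hd using hdeg
  set t : IrrCharacter N := ⟨fun _ => 1, isIrrCharacter_one⟩ with ht
  have h1 : f 1 = m t := by rw [← h]; exact hm t
  have h2 : (∑ ψ ∈ Finset.univ.erase t, m ψ * d ψ : ℕ) = 0 := by
    have h3 := hval 1
    rw [h1, ← Finset.add_sum_erase _ _ (Finset.mem_univ t)] at h3
    have h4 : (t : N → ℂ) 1 = 1 := rfl
    rw [h4, mul_one, left_eq_add] at h3
    have h5 : ((∑ ψ ∈ Finset.univ.erase t, m ψ * d ψ : ℕ) : ℂ) = 0 := by
      push_cast
      rw [← h3]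
      exact Finset.sum_congr rfl fun ψ _ => by rw [hd]
    exact_mod_cast h5
  have h3 : ∀ ψ ∈ Finset.univ.erase t, m ψ = 0 := by
    intro ψ hψ
    have := (Finset.sum_eq_zero_iff.1 h2) ψ hψ
    rcases Nat.mul_eq_zero.1 this with h4 | h4
    · exact h4
    · exact absurd h4 (hd0 ψ).ne'
  rw [hval x, ← Finset.add_sum_erase _ _ (Finset.mem_univ t), Finset.sum_eq_zero, add_zero, h1]
  · exact mul_one _
  · intro ψ hψ
    rw [h3 ψ hψ, Nat.cast_zero, zero_mul]

end H21.FrobRes
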