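import Cfsg.Agent.Lib.H89.MX0
set_option autoImplicit false
open Subgroup Cfsg Cfsg.FusionSystem H67.HallPetrescu H57.Mc H89.MX
open H86.FusBasic H86.FusSat H86.FusAlperin H57.Ess

/-! S5316, pieces FE and PE (helper21 for helper89): extension of automorphisms stabilizing a flag. -/

namespace H21.MXFE

variable {Ω : Type*} [Group Ω] {S : Subgroup Ω} [Finite S] {p n : ℕ} [hp : Fact p.Prime] {F : FusionSystem S}

theorem le_nz {V : Subgroup Ω} (n : ∀ g ∈ S, ∀ v ∈ V, g * v * g⁻¹ ∈ V) :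
    S ≤ normalizer (V : Set Ω) := by
  intro g hg
  rw [Subgroup.mem_normalizer_iff]
  intro x
  refine ⟨n g hg x, fun hx => ?_⟩
  have h3 := n g⁻¹ (inv_mem hg) _ hx
  simpa [mul_assoc] using h3

theorem nzIn {V : Subgroup Ω} (n : ∀ g ∈ S, ∀ v ∈ V, g * v * g⁻¹ ∈ V) : normalizerIn S V = S :=
  inf_eq_left.2 (le_nz n)

theorem fn_of_normal {V : Subgroup Ω} (hV : V ≤ S) (n : ∀ g ∈ S, ∀ v ∈ V, g * v * g⁻¹ ∈ V) :
    F.IsFullyNormalized V := by
  refine ⟨hV, fun Q hQ => ?_⟩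
  rw [nzIn n]
  exact Nat.card_le_card_of_injective _ (Subgroup.inclusion_injective (normalizerIn_le S Q))

set_option maxHeartbeats 1000000 in
/-- the flag stabilizer is a `p`-group, contained in `Aut_S(V)`. -/
theorem chain_le (hS : IsPGroup p ↥S) (hF : F.IsSaturated p) {V : Subgroup Ω} [Finite V] (hV : V ≤ S)
    (nV : ∀ g ∈ S, ∀ v ∈ V, g * v * g⁻¹ ∈ V) (d : ℕ → Subgroup V) (m : ℕ) (hm : Monotone d)
    (h0 : d 0 = ⊥) (hn : d m = ⊤)
    (hinv : ∀ i ≤ m, ∀ g (hg : g ∈ S), ∀ x ∈ d i, conjAut V (le_nz nV hg) x ∈ d i) :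
    chainStab d m hm ⊓ F.autGroup V ≤ autInducedBy S V := by
  have hfA : Finite (MulAut V) := finite_mulAut V
  have hfn : F.IsFullyNormalized V := fn_of_normal hV nV
  have hsy := sylIn_aut hS hF hfn
  set U := chainStab d m hm ⊓ F.autGroup V with hU
  set R := autInducedBy S V with hR
  have hRA : R ≤ F.autGroup V := hsy.1
  have hUp : IsPGroup p U := (isPGroup_chainStab (hS.to_le hV) h0 hn).to_le inf_le_left
  -- `R` normalizes `U`
  have hRU : ∀ α ∈ R, ∀ β ∈ U, α * β * α⁻¹ ∈ U := by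
    rintro α hα β ⟨hβ, hβ'⟩
    have hαA := hRA hα
    refine ⟨fun i hi x hx => ?_, Subgroup.mul_mem _ (Subgroup.mul_mem _ hαA hβ') (inv_mem hαA)⟩
    obtain ⟨g, hg, hgx⟩ := mem_autInducedBy.1 hα
    obtain ⟨g', hg', hgx'⟩ := mem_autInducedBy.1 (inv_mem hα)
    have e1 : ∀ x : V, α x = conjAut V (le_nz nV hg) x := fun x => Subtype.ext (hgx x)
    have e2 : ∀ x : V, α⁻¹ x = conjAut V (le_nz nV hg') x := fun x => Subtype.ext (hgx' x)
    have key : x⁻¹ * (α * β * α⁻¹) x = α ((α⁻¹ x)⁻¹ * β (α⁻¹ x)) := by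
      rw [map_mul, map_inv, MulAut.apply_inv_self, MulAut.mul_apply, MulAut.mul_apply]
    rw [key, e1]
    refine hinv i hi.le g hg _ (hβ i hi _ ?_)
    rw [e2]
    exact hinv (i + 1) hi g' hg' _ hx
  have hle : R ≤ normalizer (U : Set (MulAut V)) := by
    intro α hα
    rw [Subgroup.mem_normalizer_iff]
    intro β
    refine ⟨hRU α hα β, fun hβ => ?_⟩
    have h3 := hRU α⁻¹ (inv_mem hα) _ hβ
    simpa [mul_assoc] using h3
  have hsup : IsPGroup p (R ⊔ U : Subgroup (MulAut V)) :=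
    IsPGroup.to_sup_of_normal_right' hsy.2.1 hUp hle
  have heq := hsy.eq_of_le le_sup_left (sup_le hRA inf_le_right) hsup
  rw [heq]
  exact le_sup_right

/-- `φ` normalizes the flag stabilizer. -/
theorem chain_conj {V : Subgroup Ω} [Finite V] (d : ℕ → Subgroup V) (m : ℕ) (hm : Monotone d)
    {φ : MulAut V} (hφ : φ ∈ F.autGroup V)
    (hφd : ∀ i ≤ m, ∀ x ∈ d i, φ x ∈ d i) (hφd' : ∀ i ≤ m, ∀ x ∈ d i, φ⁻¹ x ∈ d i) :
    ∀ β ∈ chainStab d m hm ⊓ F.autGroup V, φ * β * φ⁻¹ ∈ chainStab d m hm ⊓ F.autGroup V := by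
  rintro β ⟨hβ, hβ'⟩
  refine ⟨fun i hi x hx => ?_, Subgroup.mul_mem _ (Subgroup.mul_mem _ hφ hβ') (inv_mem hφ)⟩
  have key : x⁻¹ * (φ * β * φ⁻¹) x = φ ((φ⁻¹ x)⁻¹ * β (φ⁻¹ x)) := by
    rw [map_mul, map_inv, MulAut.apply_inv_self, MulAut.mul_apply, MulAut.mul_apply]
  rw [key]
  exact hφd i hi.le _ (hβ i hi _ (hφd' (i + 1) hi _ hx))

/-- an automorphism mapping a subgroup into itself also maps it back. -/
theorem inv_mem_of {V : Subgroup Ω} [Finite V] {D : Subgroup V} {φ : MulAut V}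
    (h : ∀ x ∈ D, φ x ∈ D) : ∀ x ∈ D, φ⁻¹ x ∈ D := by
  have hfD : Finite D := inferInstance
  have hb : Function.Injective (fun x : D => (⟨φ x, h x x.2⟩ : D)) := by
    intro a b hab
    exact Subtype.ext (φ.injective (congrArg Subtype.val hab))
  intro x hx
  obtain ⟨y, hy⟩ := (Finite.injective_iff_surjective.1 hb) ⟨x, hx⟩
  have hy' : φ y = x := congrArg Subtype.val hy
  rw [← hy', MulAut.inv_apply_self]
  exact y.2


theorem relIndex_of_card {A B : Subgroup Ω} (hAB : A ≤ B) {a b : ℕ} (ha : Nat.card A = a) (hb : Nat.card B = b)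
    {q : ℕ} (ha0 : 0 < a) (h : b = a * q) : A.relIndex B = q := by
  have h1 := Subgroup.relIndex_mul_relIndex (⊥ : Subgroup Ω) A B bot_le hAB
  rw [Subgroup.relIndex_bot_left, Subgroup.relIndex_bot_left, ha, hb, h] at h1
  exact Nat.eq_of_mul_eq_mul_left ha0 h1

theorem transport {N V : Subgroup Ω} (h : N = S) (hVN : V ≤ N) (hVS : V ≤ S) (φ : V → Ω)
    (hx : ∃ γ ∈ F.autGroup N, ∀ x : V, ((γ ⟨x, hVN x.2⟩ : N) : Ω) = φ x) :
    ∃ γ ∈ F.autGroup S, ∀ x : V, ((γ ⟨x, hVS x.2⟩ : S) : Ω) = φ x := by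
  cases h
  exact hx

/-- the flag `1 < V1 < V2 < V3`. -/
def dF {V3 : Subgroup Ω} (V2 V1 : Subgroup Ω) : ℕ → Subgroup V3
  | 0 => ⊥
  | 1 => V1.subgroupOf V3
  | 2 => V2.subgroupOf V3
  | _ => ⊤

theorem flag_ext (hS : IsPGroup p ↥S) (hF : F.IsSaturated p) {V3 V2 V1 : Subgroup Ω} (h3 : V3 ≤ S)
    (h23 : V2 ≤ V3) (h12 : V1 ≤ V2) (n3 : ∀ g ∈ S, ∀ v ∈ V3, g * v * g⁻¹ ∈ V3)
    (n2 : ∀ g ∈ S, ∀ v ∈ V2, g * v * g⁻¹ ∈ V2) (n1 : ∀ g ∈ S, ∀ v ∈ V1, g * v * g⁻¹ ∈ V1)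
    (c3 : Nat.card V3 = p ^ 3) (c2 : Nat.card V2 = p ^ 2) (c1 : Nat.card V1 = p)
    {φ : MulAut V3} (hφ : φ ∈ F.autGroup V3) (f2 : ∀ v : V3, (v : Ω) ∈ V2 → ((φ v : V3) : Ω) ∈ V2)
    (f1 : ∀ v : V3, (v : Ω) ∈ V1 → ((φ v : V3) : Ω) ∈ V1) :
    ∃ σ ∈ F.autGroup S, ∀ v : V3, ((σ ⟨v, h3 v.2⟩ : S) : Ω) = φ v := by
  have hfV : Finite V3 := finite_of_le h3
  have hp0 : 0 < p := hp.out.pos
  have hm : Monotone (dF (V3 := V3) V2 V1) := by
    refine monotone_nat_of_le_succ fun i => ?_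
    match i with
    | 0 => exact bot_le
    | 1 => exact fun x hx => h12 hx
    | 2 => exact le_top
    | (k + 3) => exact le_rfl
  have hfn : F.IsFullyNormalized V3 := fn_of_normal h3 n3
  have hrec := receptive_of_fullyNormalized hS hF hfn
  have hinv : ∀ i ≤ 3, ∀ g (hg : g ∈ S), ∀ x ∈ dF (V3 := V3) V2 V1 i,
      conjAut V3 (le_nz n3 hg) x ∈ dF (V3 := V3) V2 V1 i := by
    intro i hi g hg x hx
    match i with
    | 0 =>
      have : x = 1 := hx
      rw [this, map_one]; exact one_mem _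
    | 1 => exact n1 g hg _ hx
    | 2 => exact n2 g hg _ hx
    | (k + 3) => exact Subgroup.mem_top _
  have hle := chain_le hS hF h3 n3 (dF V2 V1) 3 hm rfl rfl hinv
  have hφd : ∀ i ≤ 3, ∀ x ∈ dF (V3 := V3) V2 V1 i, φ x ∈ dF (V3 := V3) V2 V1 i := by
    intro i hi x hx
    match i with
    | 0 =>
      have : x = 1 := hx
      rw [this, map_one]; exact one_mem _
    | 1 => exact f1 _ hx
    | 2 => exact f2 _ hx
    | (k + 3) => exact Subgroup.mem_top _
  have hcj := chain_conj (F := F) (dF V2 V1) 3 hm hφ hφd (fun i hi => inv_mem_of (hφd i hi))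
  have hR : ∀ β ∈ autInducedBy S V3, β ∈ chainStab (dF V2 V1) 3 hm ⊓ F.autGroup V3 := by
    intro β hβ
    refine ⟨?_, autInducedBy_le_autGroup F h3 hβ⟩
    obtain ⟨g, hg, hgx⟩ := mem_autInducedBy.1 hβ
    intro i hi x hx
    have e1 : ((x⁻¹ * β x : V3) : Ω) = (x : Ω)⁻¹ * (g * x * g⁻¹) := by
      rw [Subgroup.coe_mul, Subgroup.coe_inv, hgx]
    match i, hi with
    | 0, _ =>
      have h4 := comm_mem_of_relIndex hS (H := ⊥) (H' := V1) bot_le (h12.trans (h23.trans h3))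
        (fun k hk => by
          rw [Subgroup.mem_normalizer_iff]
          intro y
          constructor
          · intro hy
            have hy' : y = 1 := hy
            rw [hy']; simp
          · intro hy
            have hy' : k * y * k⁻¹ = 1 := hy
            have : y = 1 := by
              have h5 : y = k⁻¹ * (k * y * k⁻¹) * k := by group
              rw [h5, hy']; group
            rw [this]; exact one_mem _) (le_nz n1)
        (by rw [Subgroup.relIndex_bot_left]; exact c1) (x := (x : Ω)) hx hg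
      have h5 : ((x⁻¹ * β x : V3) : Ω) = 1 := by rw [e1]; exact h4
      exact Subtype.ext h5
    | 1, _ =>
      have h4 := comm_mem_of_relIndex hS (H := V1) (H' := V2) h12 (h23.trans h3) (le_nz n1) (le_nz n2)
        (relIndex_of_card h12 c1 c2 hp0 (by ring)) (x := (x : Ω)) hx hg
      change ((x⁻¹ * β x : V3) : Ω) ∈ V1
      rw [e1]; exact h4
    | 2, _ =>
      have h4 := comm_mem_of_relIndex hS (H := V2) (H' := V3) h23 h3 (le_nz n2) (le_nz n3)
        (relIndex_of_card h23 c2 c3 (by positivity) (by ring)) (x := (x : Ω)) x.2 hg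
      change ((x⁻¹ * β x : V3) : Ω) ∈ V2
      rw [e1]; exact h4
    | (k + 3), hk => exact absurd hk (by omega)
  obtain ⟨γ, hγ, hx⟩ := extend_aut hrec hφ (fun β hβ => hle (hcj β (hR β hβ)))
  exact transport (nzIn n3) (le_normalizerIn h3) h3 (fun x => φ x) ⟨γ, hγ, hx⟩

/-- the flag `1 < V2 < V3`. -/
def dP {V3 : Subgroup Ω} (V2 : Subgroup Ω) : ℕ → Subgroup V3
  | 0 => ⊥
  | 1 => V2.subgroupOf V3
  | _ => ⊤

theorem part_ext (hS : IsPGroup p ↥S) (hF : F.IsSaturated p) {V3 V2 : Subgroup Ω} (h3 : V3 ≤ S)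
    (h23 : V2 ≤ V3) (n3 : ∀ g ∈ S, ∀ v ∈ V3, g * v * g⁻¹ ∈ V3)
    (n2 : ∀ g ∈ S, ∀ v ∈ V2, g * v * g⁻¹ ∈ V2) (hab : ∀ x ∈ V3, ∀ y ∈ V3, x * y = y * x)
    (hi : V2.relIndex V3 = p)
    {φ : MulAut V3} (hφ : φ ∈ F.autGroup V3) (f2 : ∀ v : V3, (v : Ω) ∈ V2 → ((φ v : V3) : Ω) ∈ V2) :
    ∃ ψ ∈ F.autGroup (centralizerIn S V2), ∀ (v : V3) (hv : (v : Ω) ∈ centralizerIn S V2),
      ((ψ ⟨v, hv⟩ : centralizerIn S V2) : Ω) = φ v := by
  have hfV : Finite V3 := finite_of_le h3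
  have hp0 : 0 < p := hp.out.pos
  have hm : Monotone (dP (V3 := V3) V2) := by
    refine monotone_nat_of_le_succ fun i => ?_
    match i with
    | 0 => exact bot_le
    | 1 => exact le_top
    | (k + 2) => exact le_rfl
  have hfn : F.IsFullyNormalized V3 := fn_of_normal h3 n3
  have hrec := receptive_of_fullyNormalized hS hF hfn
  have hinv : ∀ i ≤ 2, ∀ g (hg : g ∈ S), ∀ x ∈ dP (V3 := V3) V2 i,
      conjAut V3 (le_nz n3 hg) x ∈ dP (V3 := V3) V2 i := by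
    intro i hi g hg x hx
    match i with
    | 0 =>
      have : x = 1 := hx
      rw [this, map_one]; exact one_mem _
    | 1 => exact n2 g hg _ hx
    | (k + 2) => exact Subgroup.mem_top _
  have hle := chain_le hS hF h3 n3 (dP V2) 2 hm rfl rfl hinv
  have hφd : ∀ i ≤ 2, ∀ x ∈ dP (V3 := V3) V2 i, φ x ∈ dP (V3 := V3) V2 i := by
    intro i hi x hx
    match i with
    | 0 =>
      have : x = 1 := hx
      rw [this, map_one]; exact one_mem _
    | 1 => exact f2 _ hx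
    | (k + 2) => exact Subgroup.mem_top _
  have hcj := chain_conj (F := F) (dP V2) 2 hm hφ hφd (fun i hi => inv_mem_of (hφd i hi))
  have hCS : centralizerIn S V2 ≤ S := inf_le_left
  have hCN : centralizerIn S V2 ≤ normalizer (V3 : Set Ω) := hCS.trans (le_nz n3)
  have hcc : ∀ g ∈ centralizerIn S V2, ∀ v ∈ V2, g * v = v * g := by
    rintro g ⟨-, hg⟩ v hv
    exact (Subgroup.mem_centralizer_iff.1 hg v hv).symm
  have h3C : V3 ≤ centralizerIn S V2 := by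
    intro x hx
    exact ⟨h3 hx, Subgroup.mem_centralizer_iff.2 fun v hv => hab v (h23 hv) x hx⟩
  have hR : ∀ g (hg : g ∈ centralizerIn S V2), conjAut V3 (hCN hg) ∈ chainStab (dP V2) 2 hm ⊓ F.autGroup V3 := by
    intro g hg
    refine ⟨?_, autInducedBy_le_autGroup F h3 (conjAut_mem_autInducedBy _ (hCS hg))⟩
    intro i hi' x hx
    have e1 : ((x⁻¹ * conjAut V3 (hCN hg) x : V3) : Ω) = (x : Ω)⁻¹ * (g * x * g⁻¹) := rfl
    match i, hi' with
    | 0, _ =>
      have h5 : ((x⁻¹ * conjAut V3 (hCN hg) x : V3) : Ω) = 1 := by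
        rw [e1, hcc g hg x hx]; group
      exact Subtype.ext h5
    | 1, _ =>
      have h4 := comm_mem_of_relIndex hS (H := V2) (H' := V3) h23 h3 (le_nz n2) (le_nz n3)
        hi (x := (x : Ω)) x.2 (hCS hg)
      exact h4
    | (k + 2), hk => exact absurd hk (by omega)
  have he : IsIso F (φ : V3 ≃* V3) := (H86.FusBasic.mem_autGroup F h3).1 hφ
  obtain ⟨ψ, hψ, hψx⟩ := receptive_extend' hrec he h3C hCS hCN
    (fun g hg => hle (hcj _ (hR g hg)))
  have hrange : ψ.range = centralizerIn S V2 := by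
    apply Subgroup.eq_of_le_of_card_ge
    · rintro _ ⟨x, rfl⟩
      refine ⟨apply_mem F hψ x, Subgroup.mem_centralizer_iff.2 fun v hv => ?_⟩
      have hv1 := inv_mem_of (D := V2.subgroupOf V3) (φ := φ) (fun y hy => f2 y hy) ⟨v, h23 hv⟩ hv
      set w : V3 := φ⁻¹ ⟨v, h23 hv⟩ with hw
      have hφw : φ w = ⟨v, h23 hv⟩ := by rw [hw, MulAut.apply_inv_self]
      have e2 : ψ ⟨w, h3C w.2⟩ = v := by rw [hψx]; exact congrArg Subtype.val hφw
      have e3 : x * ⟨w, h3C w.2⟩ = ⟨w, h3C w.2⟩ * x := Subtype.ext (hcc x x.2 w hv1)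
      have e4 := congrArg ψ e3
      rw [map_mul, map_mul, e2] at e4
      exact e4.symm
    · rw [← Nat.card_congr (MonoidHom.ofInjective (F.injective_of_mem hψ)).toEquiv]
  have hiso := isIso_toEquiv F hψ hrange
  exact ⟨_, hiso.mem_autGroup, fun v _ => hψx v⟩

end H21.MXFE
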