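import Cfsg.Agent.Lib.H21.BT4
import Cfsg.Agent.S4729
import Cfsg.Agent.Lib.H20.DefZero
import Cfsg.Agent.Lib.H67.Mod13

/-!
Numerical elimination of orders of simple groups by means of the principal block for a prime
dividing the order exactly once.
-/

set_option autoImplicit false
set_option linter.unusedSectionVars false

namespace H21.NE

open Cfsg H18.CharBasic H18.CharOrtho H18.CharInd H21.PLat H21.BK H21.BT
open scoped commutatorElement

universe u

section bd

variable {G : Type u} [Group G] [Fintype G] [Fintype (IrrCharacter G)] {p : ℕ} [hp : Fact p.Prime]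
  {x0 : G} {a : IrrCharacter G → ℤ} {Y : Finset (IrrCharacter G)} {ε : ℤ} {e n c : ℕ}

theorem perfect_of_simple [IsSimpleGroup G] (hG : ¬ IsMulCommutative G) : commutator G = ⊤ := by
  rcases (inferInstance : (commutator G).Normal).eq_bot_or_eq_top with h | h
  · exfalso
    apply hG
    refine ⟨⟨fun a b => ?_⟩⟩
    have h1 : ⁅a, b⁆ ∈ commutator G := by
      rw [commutator_def]
      exact Subgroup.commutator_mem_commutator (Subgroup.mem_top _) (Subgroup.mem_top _)
    rw [h, Subgroup.mem_bot] at h1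
    exact commutatorElement_eq_one_iff_mul_comm.1 h1
  · exact h

theorem vtest (h : BD G p x0 a Y ε e n c) [IsSimpleGroup G] (hG : ¬ IsMulCommutative G)
    {χ : IrrCharacter G} (hχ : a χ ≠ 0 ∨ χ ∈ Y) (hχt : χ ≠ triv G)
    (hD : charDegree (χ : G → ℂ) < 2 * p) : c = 1 := by
  obtain ⟨M, hM, hB⟩ := h.hM
  obtain ⟨Q, hQ⟩ := exists_sylow_eq h.hx0 h.hidx
  have h1 := Cfsg.Agent.S4729.result p M hM (perfect_of_simple hG) Q χ ((hB χ).1 hχ)
    (fun g hg => ker_trivial hχt hg) hD
  have h2 : VV p x0 ≤ Subgroup.centralizer ((Q : Subgroup G) : Set G) := by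
    intro v hv
    have h3 := VV_le hv
    rw [Subgroup.mem_centralizer_iff]
    intro y hy
    rw [hQ] at hy
    obtain ⟨k, rfl⟩ := Subgroup.mem_zpowers_iff.1 hy
    have h4 : x0 * v = v * x0 := by
      have h5 := (Subgroup.mem_centralizer_iff.1 h3)
      exact h5 x0 (by first | exact Set.mem_singleton _ | exact Subgroup.mem_zpowers _)
    exact ((show Commute x0 v from h4).zpow_left k).eq
  have h3 : IsPGroup p (VV p x0) := h1.to_le h2
  obtain ⟨k, hk⟩ := IsPGroup.iff_card.1 h3
  rw [h.hc] at hk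
  have h4 : ¬ p ∣ c := by
    intro hd
    apply h.hidx
    have h5 := (Subgroup.zpowers x0).card_mul_index
    rw [card_zp h.hx0, h.hcard, mul_assoc, mul_assoc] at h5
    have h6 := Nat.eq_of_mul_eq_mul_left hp.out.pos h5
    rw [h6]
    exact hd.trans (dvd_mul_right _ _)
  rcases Nat.eq_zero_or_pos k with h5 | h5
  · rw [hk, h5, pow_zero]
  · exact absurd (by rw [hk]; exact dvd_pow_self p h5.ne') h4

/-- the sign of a degree -/
def sg (p D : ℕ) : ℤ := if D % p = 1 then 1 else -1

theorem deg_mod (h : BD G p x0 a Y ε e n c) (hp3 : 2 < p) {χ : IrrCharacter G} (hχ : a χ ≠ 0) :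
    (charDegree (χ : G → ℂ) % p = 1 ∨ charDegree (χ : G → ℂ) % p = p - 1) ∧
      a χ = sg p (charDegree (χ : G → ℂ)) := by
  obtain ⟨m, hm⟩ := h.hdeg χ hχ
  set D := charDegree (χ : G → ℂ)
  rcases (h.ha χ).resolve_left hχ with h1 | h1
  · rw [h1] at hm ⊢
    have h2 : D % p = 1 := by
      have h3 : ((D : ℤ)) % p = 1 := by
        rw [hm, Int.add_mul_emod_self_left]
        exact Int.emod_eq_of_lt (by norm_num) (by exact_mod_cast (by omega : 1 < p))
      exact_mod_cast h3
    exact ⟨Or.inl h2, by rw [sg, if_pos h2]⟩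
  · rw [h1] at hm ⊢
    have h2 : D % p = p - 1 := by
      have h3 : ((D : ℤ)) % p = p - 1 := by
        have h4 : (D : ℤ) = (p - 1) + p * (m - 1) := by rw [hm]; ring
        rw [h4, Int.add_mul_emod_self_left]
        exact Int.emod_eq_of_lt (by omega) (by omega)
      have h4 : ((D % p : ℕ) : ℤ) = ((p - 1 : ℕ) : ℤ) := by
        rw [Nat.cast_sub (by omega)]
        push_cast
        exact h3
      exact_mod_cast h4
    exact ⟨Or.inr h2, by rw [sg, if_neg (by omega)]⟩

/-- candidates for the degrees -/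
def candOK (N p v e c D : ℕ) : Bool :=
  ((e * v) % D == 0) && decide (1 < D) && decide (D * D < N) && ((D % p == 1) || (D % p == p - 1)) &&
    ((c == 1) || decide (2 * p ≤ D))

/-- candidates for the exceptional degree -/
def thOK (N p v e c D : ℕ) : Bool :=
  ((e * e * v) % D == 0) && ((c * e * v) % D == 0) && decide (1 < D) && decide (D * D < N) &&
    ((c == 1) || decide (2 * p ≤ D))

theorem cand_ok (h : BD G p x0 a Y ε e n c) (hp3 : 2 < p) [IsSimpleGroup G]
    (hG : ¬ IsMulCommutative G) {χ : IrrCharacter G} (hχ : a χ ≠ 0) (hχt : χ ≠ triv G) :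
    candOK (Nat.card G) p (1 + n * p) e c (charDegree (χ : G → ℂ)) = true := by
  have h1 := (deg_mod h hp3 hχ).1
  have h2 := degree_gt_one hG hχt
  have h3 := degree_sq_lt hχt
  have h4 : c = 1 ∨ 2 * p ≤ charDegree (χ : G → ℂ) := by
    by_contra hcon
    push Not at hcon
    exact hcon.1 (vtest h hG (Or.inl hχ) hχt hcon.2)
  have h5 := Nat.mod_eq_zero_of_dvd (h.dvd_e hχ)
  simp only [candOK, Bool.and_eq_true, Bool.or_eq_true, beq_iff_eq, decide_eq_true_eq]
  rw [pow_two] at h3
  exact ⟨⟨⟨⟨h5, h2⟩, h3⟩, h1⟩, h4⟩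

theorem th_ok (h : BD G p x0 a Y ε e n c) [IsSimpleGroup G]
    (hG : ¬ IsMulCommutative G) {χ : IrrCharacter G} (hχ : χ ∈ Y) :
    thOK (Nat.card G) p (1 + n * p) e c (charDegree (χ : G → ℂ)) = true := by
  have hχt := h.triv_notin hχ
  have h2 := degree_gt_one hG hχt
  have h3 := degree_sq_lt hχt
  have h4 : c = 1 ∨ 2 * p ≤ charDegree (χ : G → ℂ) := by
    by_contra hcon
    push Not at hcon
    exact hcon.1 (vtest h hG (Or.inr hχ) hχt hcon.2)
  have h5 := Nat.mod_eq_zero_of_dvd (h.dvd_e_sq hχ)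
  have h6 := Nat.mod_eq_zero_of_dvd (h.degree_dvd (Or.inr hχ))
  simp only [thOK, Bool.and_eq_true, Bool.or_eq_true, beq_iff_eq, decide_eq_true_eq]
  rw [pow_two] at h3
  exact ⟨⟨⟨⟨h5, h6⟩, h2⟩, h3⟩, h4⟩

open Classical in
/-- the nontrivial nonexceptional characters -/
noncomputable def SS (a : IrrCharacter G → ℤ) : Finset (IrrCharacter G) :=
  Finset.univ.filter (fun χ => a χ ≠ 0 ∧ χ ≠ triv G)

theorem mem_SS {χ : IrrCharacter G} : χ ∈ SS a ↔ a χ ≠ 0 ∧ χ ≠ triv G := by
  classical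
  rw [SS, Finset.mem_filter]
  simp

theorem card_SS (h : BD G p x0 a Y ε e n c) : (SS a).card + 1 = e := by
  classical
  have h1 : ∀ χ : IrrCharacter G, a χ * a χ = if a χ ≠ 0 then 1 else 0 := by
    intro χ
    rcases h.ha χ with h2 | h2 | h2 <;> simp [h2]
  have h2 := h.hnorm
  rw [Finset.sum_congr rfl (fun χ _ => h1 χ), Finset.sum_boole] at h2
  have h3 : (Finset.univ.filter (fun χ : IrrCharacter G => a χ ≠ 0)) = insert (triv G) (SS a) := by
    ext χ
    rw [Finset.mem_filter, Finset.mem_insert, mem_SS]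
    constructor
    · rintro ⟨_, h4⟩
      by_cases h5 : χ = triv G
      · exact Or.inl h5
      · exact Or.inr ⟨h4, h5⟩
    · rintro (h4 | h4)
      · rw [h4]; exact ⟨Finset.mem_univ _, by rw [h.htriv]; norm_num⟩
      · exact ⟨Finset.mem_univ _, h4.1⟩
  rw [h3, Finset.card_insert_of_notMem (fun h4 => (mem_SS.1 h4).2 rfl)] at h2
  exact_mod_cast h2

theorem sum_SS (h : BD G p x0 a Y ε e n c) (P : IrrCharacter G → Prop) [DecidablePred P]
    (hP : P (triv G)) :
    ∑ χ : IrrCharacter G, (if P χ then a χ * (charDegree (χ : G → ℂ) : ℤ) else 0) =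
      1 + ∑ χ ∈ (SS a).filter P, a χ * (charDegree (χ : G → ℂ) : ℤ) := by
  classical
  rw [← Finset.sum_filter]
  have h3 : ∑ χ ∈ Finset.univ.filter P, a χ * (charDegree (χ : G → ℂ) : ℤ) =
      ∑ χ ∈ insert (triv G) ((SS a).filter P), a χ * (charDegree (χ : G → ℂ) : ℤ) := by
    symm
    apply Finset.sum_subset
    · intro χ hχ
      rw [Finset.mem_insert, Finset.mem_filter] at hχ
      rw [Finset.mem_filter]
      rcases hχ with hχ | hχ
      · rw [hχ]; exact ⟨Finset.mem_univ _, hP⟩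
      · exact ⟨Finset.mem_univ _, hχ.2⟩
    · intro χ hχ hn
      rw [Finset.mem_filter] at hχ
      rw [Finset.mem_insert, Finset.mem_filter, mem_SS] at hn
      push Not at hn
      by_cases h4 : a χ = 0
      · rw [h4, zero_mul]
      · exact absurd hχ.2 (hn.2 ⟨h4, hn.1⟩)
  rw [h3, Finset.sum_insert (fun h4 => (mem_SS.1 (Finset.mem_filter.1 h4).1).2 rfl), h.htriv,
    triv_degree]
  norm_num

/-- multiplicities of the degrees -/
noncomputable def cnt (S : Finset (IrrCharacter G)) (D : ℕ) : ℕ := by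
  classical
  exact (S.filter (fun χ : IrrCharacter G => charDegree (χ : G → ℂ) = D)).card

theorem sum_cnt (S : Finset (IrrCharacter G)) (L : Finset ℕ)
    (hL : ∀ χ ∈ S, charDegree (χ : G → ℂ) ∈ L) (f : ℕ → ℤ) :
    ∑ χ ∈ S, f (charDegree (χ : G → ℂ)) = ∑ D ∈ L, (cnt S D : ℤ) * f D := by
  classical
  rw [← Finset.sum_fiberwise_of_maps_to hL (fun χ => f (charDegree (χ : G → ℂ)))]
  refine Finset.sum_congr rfl fun D _ => ?_
  rw [Finset.sum_congr rfl (g := fun _ => f D) (fun χ hχ => by rw [(Finset.mem_filter.1 hχ).2]),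
    Finset.sum_const, nsmul_eq_mul, cnt]

theorem sum_sq_le (h : BD G p x0 a Y ε e n c) :
    1 + ∑ χ ∈ SS a, charDegree (χ : G → ℂ) ^ 2 + ∑ χ ∈ Y, charDegree (χ : G → ℂ) ^ 2 ≤ Nat.card G := by
  classical
  have h1 : ∑ χ : IrrCharacter G, charDegree (χ : G → ℂ) ^ 2 = Nat.card G := by
    exact H82.Deg.sum_degree_sq_nat
  rw [← h1]
  have hd1 : Disjoint (SS a) Y := by
    rw [Finset.disjoint_left]
    intro χ h2 h3
    exact (mem_SS.1 h2).1 (h.hYa χ h3)
  have hd2 : triv G ∉ SS a ∪ Y := by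
    rw [Finset.mem_union]
    rintro (h2 | h2)
    · exact (mem_SS.1 h2).2 rfl
    · exact h.triv_notin h2 rfl
  have h2 : 1 + ∑ χ ∈ SS a, charDegree (χ : G → ℂ) ^ 2 + ∑ χ ∈ Y, charDegree (χ : G → ℂ) ^ 2 =
      ∑ χ ∈ insert (triv G) (SS a ∪ Y), charDegree (χ : G → ℂ) ^ 2 := by
    rw [Finset.sum_insert hd2, Finset.sum_union hd1, triv_degree, one_pow, add_assoc]
  rw [h2]
  exact Finset.sum_le_sum_of_subset (Finset.subset_univ _)

end bd

section lists

/-- all values of sums of `k` signed degrees, with the sums of the squares -/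
def sums (p : ℕ) : List ℕ → ℕ → ℤ → ℕ → List (ℤ × ℕ)
  | [], 0, acc, sq => [(acc, sq)]
  | [], (_ + 1), _, _ => []
  | (D :: L), k, acc, sq => (List.range (k + 1)).flatMap
      (fun j => sums p L (k - j) (acc + j * (sg p D * D)) (sq + j * (D * D)))

theorem mem_sums (p : ℕ) (f : ℕ → ℕ) : ∀ (L : List ℕ) (k : ℕ) (acc : ℤ) (sq : ℕ),
    (L.map f).sum = k → (acc + (L.map (fun D => (f D : ℤ) * (sg p D * D))).sum,
      sq + (L.map (fun D => f D * (D * D))).sum) ∈ sums p L k acc sq := by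
  intro L
  induction L with
  | nil =>
    intro k acc sq hk
    subst hk
    simp [sums]
  | cons D L ih =>
    intro k acc sq hk
    rw [List.map_cons, List.sum_cons] at hk
    rw [sums, List.mem_flatMap]
    refine ⟨f D, List.mem_range.2 (by omega), ?_⟩
    have h1 := ih (k - f D) (acc + (f D : ℤ) * (sg p D * D)) (sq + f D * (D * D)) (by omega)
    rw [List.map_cons, List.sum_cons, List.map_cons, List.sum_cons, ← add_assoc, ← add_assoc]
    exact h1

/-- list of candidates -/
def cands (N p v e c B : ℕ) : List ℕ := (List.range B).filter (candOK N p v e c)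

/-- elimination of a pair -/
def pairOK (N p B v e c : ℕ) : Bool :=
  (sums p (cands N p v e c B) (e - 1) 1 1).all
    (fun t => !(thOK N p v e c t.1.natAbs && decide (t.2 + (p - 1) / e * (t.1.natAbs * t.1.natAbs) ≤ N)))

end lists

section bd2

variable {G : Type u} [Group G] [Fintype G] [Fintype (IrrCharacter G)] {p : ℕ} [hp : Fact p.Prime]
  {x0 : G} {a : IrrCharacter G → ℤ} {Y : Finset (IrrCharacter G)} {ε : ℤ} {e n c : ℕ}

theorem mem_cands (h : BD G p x0 a Y ε e n c) (hp3 : 2 < p) [IsSimpleGroup G]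
    (hG : ¬ IsMulCommutative G) {B : ℕ} (hB : Nat.card G ≤ B * B) {χ : IrrCharacter G}
    (hχ : χ ∈ SS a) : charDegree (χ : G → ℂ) ∈ cands (Nat.card G) p (1 + n * p) e c B := by
  rw [cands, List.mem_filter, List.mem_range]
  rw [mem_SS] at hχ
  refine ⟨?_, cand_ok h hp3 hG hχ.1 hχ.2⟩
  have h3 := degree_sq_lt hχ.2
  by_contra hcon
  push Not at hcon
  have := Nat.mul_le_mul hcon hcon
  rw [pow_two] at h3
  omega

theorem nodup_cands (N p v e c B : ℕ) : (cands N p v e c B).Nodup := List.nodup_range.filter _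

/-- the degree equation in terms of multiplicities -/
theorem degree_eq (h : BD G p x0 a Y ε e n c) (hp3 : 2 < p) [IsSimpleGroup G]
    (hG : ¬ IsMulCommutative G) {B : ℕ} (hB : Nat.card G ≤ B * B) {θ : IrrCharacter G}
    (hθ : θ ∈ Y) :
    ((cands (Nat.card G) p (1 + n * p) e c B).map (cnt (SS a))).sum = e - 1 ∧
      ε * (charDegree (θ : G → ℂ) : ℤ) = 1 +
        ((cands (Nat.card G) p (1 + n * p) e c B).map (fun D => (cnt (SS a) D : ℤ) * (sg p D * D))).sum ∧
      ∑ χ ∈ SS a, charDegree (χ : G → ℂ) ^ 2 =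
        ((cands (Nat.card G) p (1 + n * p) e c B).map (fun D => cnt (SS a) D * (D * D))).sum := by
  classical
  set L := cands (Nat.card G) p (1 + n * p) e c B with hL
  have hnd : L.Nodup := nodup_cands _ _ _ _ _ _
  have hmem : ∀ χ ∈ SS a, charDegree (χ : G → ℂ) ∈ L.toFinset := fun χ hχ =>
    List.mem_toFinset.2 (mem_cands h hp3 hG hB hχ)
  refine ⟨?_, ?_, ?_⟩
  · have h1 := sum_cnt (SS a) L.toFinset hmem (fun _ => 1)
    rw [Finset.sum_const, nsmul_eq_mul, mul_one] at h1
    simp only [mul_one] at h1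
    have h2 : ∑ D ∈ L.toFinset, cnt (SS a) D = (SS a).card := by exact_mod_cast h1.symm
    rw [List.sum_toFinset _ hnd] at h2
    rw [h2]
    have := card_SS h
    omega
  · have h1 := sum_cnt (SS a) L.toFinset hmem (fun D => sg p D * D)
    rw [List.sum_toFinset _ hnd] at h1
    rw [← h1, h.degree_sum hθ]
    have h2 := sum_SS h (fun _ => True) trivial
    simp only [if_true, Finset.filter_true] at h2
    rw [h2]
    congr 1
    refine Finset.sum_congr rfl fun χ hχ => ?_
    rw [(deg_mod h hp3 (mem_SS.1 hχ).1).2]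
  · have h1 := sum_cnt (SS a) L.toFinset hmem (fun D => (D : ℤ) * D)
    rw [List.sum_toFinset _ hnd] at h1
    have h3 : ((∑ χ ∈ SS a, charDegree (χ : G → ℂ) ^ 2 : ℕ) : ℤ) =
        (((L.map (fun D => cnt (SS a) D * (D * D))).sum : ℕ) : ℤ) := by
      push_cast
      rw [Finset.sum_congr rfl (fun χ _ => by rw [pow_two]), h1, List.map_map]
      congr 1
    exact_mod_cast h3

theorem pair_false (h : BD G p x0 a Y ε e n c) (hp3 : 2 < p) [IsSimpleGroup G]
    (hG : ¬ IsMulCommutative G) {B : ℕ} (hB : Nat.card G ≤ B * B)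
    (hchk : pairOK (Nat.card G) p B (1 + n * p) e c = true) : False := by
  obtain ⟨θ, hθ⟩ := h.exists_Y
  obtain ⟨h1, h2, h3⟩ := degree_eq h hp3 hG hB hθ
  have h4 := mem_sums p (cnt (SS a)) _ _ 1 1 h1
  rw [← h2] at h4
  rw [pairOK, List.all_eq_true] at hchk
  have h5 := hchk _ h4
  have h6 : (ε * (charDegree (θ : G → ℂ) : ℤ)).natAbs = charDegree (θ : G → ℂ) := by
    rcases h.hε with h7 | h7
    · rw [h7, one_mul, Int.natAbs_natCast]
    · rw [h7, neg_one_mul, Int.natAbs_neg, Int.natAbs_natCast]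
  have h7 := th_ok h hG hθ
  have h8 := sum_sq_le h
  obtain ⟨s, hs1, hs2, hs3⟩ := h.exists_s
  have h9 : (p - 1) / e = s := by
    rw [hs2, Nat.add_sub_cancel, Nat.mul_div_cancel_left _ h.e_pos]
  have h10 : ∑ χ ∈ Y, charDegree (χ : G → ℂ) ^ 2 = s * (charDegree (θ : G → ℂ) * charDegree (θ : G → ℂ)) := by
    rw [Finset.sum_congr rfl (fun χ hχ => by rw [degree_Y h hχ hθ]), Finset.sum_const, hs3,
      smul_eq_mul, pow_two]
  simp only [h6, h7, h9, Bool.true_and, Bool.not_eq_true', decide_eq_false_iff_not, not_le] at h5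
  rw [h10, h3] at h8
  omega

theorem nf_card (h : BD G p x0 a Y ε e n c) (hp3 : 2 < p) [IsSimpleGroup G]
    (hG : ¬ IsMulCommutative G) (hNF : H21.SCNum.NF p n) :
    2 * Nat.card G = p * (p ^ 2 - 1) ∨ Nat.card G = (p - 1) * ((p - 1) ^ 2 - 1) := by
  have hperf := perfect_of_simple hG
  obtain ⟨Q, hQ⟩ := exists_sylow_eq h.hx0 h.hidx
  have hQc : Nat.card Q = p := by
    have : Nat.card (Q : Subgroup G) = p := by rw [hQ, Nat.card_zpowers, h.hx0]
    exact this
  have hcore : pPrimeCore p G = ⊥ := by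
    rcases (inferInstance : (pPrimeCore p G).Normal).eq_bot_or_eq_top with h1 | h1
    · exact h1
    · exfalso
      have h2 := H1.Cores.coprime_card_pPrimeCore (G := G) p
      rw [h1, Subgroup.card_top, h.hcard, mul_assoc, mul_assoc] at h2
      have h3 : Nat.Coprime p p := Nat.Coprime.coprime_mul_right h2
      rw [Nat.coprime_self] at h3
      exact hp.out.one_lt.ne' h3
  have hodd : ¬ 2 ∣ p := by
    intro h6
    rcases (Nat.dvd_prime hp.out).1 h6 with h7 | h7 <;> omega
  rcases core_case hperf Q hQc hcore (fun k hk => by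
    rw [h.hsyl] at hk
    have h1 : n * p = k * p := by omega
    have h2 : n = k := Nat.eq_of_mul_eq_mul_right hp.out.pos h1
    rw [← h2]
    exact hNF) with ⟨F, i1, i2, h3, h4, ⟨f⟩⟩ | ⟨m, F, i1, i2, h3, h4, h5, ⟨f⟩⟩
  · left
    have h6 := card_psl_two h3 hodd hp.out.one_lt
    rw [← Nat.card_congr f.toEquiv] at h6
    exact h6
  · right
    have : Fact (Nat.Prime 2) := ⟨Nat.prime_two⟩
    have hch : CharP F 2 := charP_of_card_eq_prime_pow (f := m) h3
    have h6 := H25.SL2Card.card_PSL2_char_two (K := F)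
    rw [← Nat.card_congr f.toEquiv, h3] at h6
    have h7 : p - 1 = 2 ^ m := by omega
    rw [h7]
    exact h6

/-- decision procedure for `NF` -/
def nfOK (p n : ℕ) : Bool :=
  (List.range n).all (fun u => (u == 0) || !(((n - u) * (u + 1)) % (1 + u * p) == 0))

theorem nf_of_ok {q k : ℕ} (h : nfOK q k = true) : H21.SCNum.NF q k := by
  intro b u hb hu heq
  rcases lt_or_ge u (k : ℤ) with hlt | hge
  · obtain ⟨v, rfl⟩ := Int.eq_ofNat_of_zero_le (by omega : 0 ≤ u)
    have hv : v < k := by exact_mod_cast hlt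
    rw [nfOK, List.all_eq_true] at h
    have h1 := h v (List.mem_range.2 hv)
    have hv0 : v ≠ 0 := by rintro rfl; simp at hu
    simp only [Bool.or_eq_true, beq_iff_eq, hv0, false_or, Bool.not_eq_true', beq_eq_false_iff_ne] at h1
    apply h1
    apply Nat.mod_eq_zero_of_dvd
    obtain ⟨b', rfl⟩ := Int.eq_ofNat_of_zero_le (by omega : 0 ≤ b)
    refine ⟨b', ?_⟩
    have h2 : (((k - v) * (v + 1) : ℕ) : ℤ) = (((1 + v * q) * b' : ℕ) : ℤ) := by
      push_cast [Nat.cast_sub hv.le]
      rw [heq]; ring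
    exact_mod_cast h2
  · have h1 : (k - u) * (u + 1) ≤ 0 := by
      apply mul_nonpos_of_nonpos_of_nonneg <;> omega
    have h2 : 0 < b * (1 + u * q) := by positivity
    omega

/-- the check of an order -/
def chk (N p B : ℕ) (exc : List (ℕ × ℕ)) : Bool :=
  (N % p == 0) && !(N % (p * p) == 0) && decide (2 < p) && decide (N ≤ B * B) &&
  !(2 * N == p * (p ^ 2 - 1)) && !(N == (p - 1) * ((p - 1) ^ 2 - 1)) &&
  (List.range (N / p + 1)).all (fun v => !((v % p == 1) && decide (1 < v) && ((N / p) % v == 0)) ||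
    nfOK p ((v - 1) / p) ||
    (List.range p).all (fun e => !(decide (2 ≤ e) && ((p - 1) % e == 0) && ((N / p / v) % e == 0)) ||
      exc.contains (v, e) || pairOK N p B v e (N / p / v / e)))

end bd2

/-- the possible block data for a simple group of given order -/
theorem main {G : Type u} [Group G] [Fintype G] [Fintype (IrrCharacter G)] [IsSimpleGroup G]
    (hG : ¬ IsMulCommutative G) {N : ℕ} (hN : Nat.card G = N) (p : ℕ) [hp : Fact p.Prime] (B : ℕ)
    (exc : List (ℕ × ℕ)) (hchk : chk N p B exc = true) :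
    ∃ x0 a Y ε e n c, BD G p x0 a Y ε e n c ∧ (1 + n * p, e) ∈ exc := by
  classical
  simp only [chk, Bool.and_eq_true, beq_iff_eq, decide_eq_true_eq, Bool.not_eq_true',
    beq_eq_false_iff_ne] at hchk
  obtain ⟨⟨⟨⟨⟨⟨h1, h2⟩, h3⟩, h4⟩, h5⟩, h6⟩, h7⟩ := hchk
  have hdvd : p ∣ Nat.card G := by rw [hN]; exact Nat.dvd_of_mod_eq_zero h1
  obtain ⟨x0, hx0⟩ := exists_prime_orderOf_dvd_card' p hdvd
  have hidx : ¬ p ∣ (Subgroup.zpowers x0).index := by
    intro hd
    apply h2
    apply Nat.mod_eq_zero_of_dvd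
    rw [← hN, ← (Subgroup.zpowers x0).card_mul_index, Nat.card_zpowers, hx0]
    exact Nat.mul_dvd_mul_left p hd
  obtain ⟨a, Y, ε, e, n, c, h⟩ := exists_BD hx0 hidx
  refine ⟨x0, a, Y, ε, e, n, c, h, ?_⟩
  have hn := h.n_pos hG
  have he := h.e_two hG
  have hcard := h.hcard
  rw [hN] at hcard
  have hM : N / p = c * e * (1 + n * p) := by
    rw [hcard, mul_assoc, mul_assoc, Nat.mul_div_cancel_left _ hp.out.pos, mul_assoc]
  have hc0 := h.c_pos
  rw [List.all_eq_true] at h7
  have h8 := h7 (1 + n * p) (by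
    rw [List.mem_range, hM]
    have : 1 * (1 + n * p) ≤ c * e * (1 + n * p) := Nat.mul_le_mul_right _ (by nlinarith)
    omega)
  have e1 : (1 + n * p) % p = 1 := by
    rw [Nat.add_mul_mod_self_right, Nat.mod_eq_of_lt hp.out.one_lt]
  have e2 : 1 < 1 + n * p := by
    have : 0 < n * p := Nat.mul_pos hn hp.out.pos
    omega
  have e3 : (N / p) % (1 + n * p) = 0 := by rw [hM]; exact Nat.mul_mod_left _ _
  have e4 : (1 + n * p - 1) / p = n := by
    rw [Nat.add_sub_cancel_left, Nat.mul_div_cancel _ hp.out.pos]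
  have e5 : N / p / (1 + n * p) = c * e := by rw [hM, Nat.mul_div_cancel _ (by omega)]
  rw [e1, e3, e4] at h8
  simp only [beq_self_eq_true, Bool.true_and, Bool.and_true, e2, decide_true, Bool.not_true,
    Bool.false_or, Bool.or_eq_true] at h8
  rcases h8 with h8 | h8
  · exfalso
    rcases nf_card h h3 hG (nf_of_ok h8) with h9 | h9
    · rw [hN] at h9; exact h5 h9
    · rw [hN] at h9; exact h6 h9
  · rw [List.all_eq_true] at h8
    obtain ⟨s, hs1, hs2, hs3⟩ := h.exists_s
    have hep := h.e_lt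
    have h9 := h8 e (List.mem_range.2 hep)
    have e6 : (p - 1) % e = 0 := by rw [hs2, Nat.add_sub_cancel]; exact Nat.mul_mod_right _ _
    have e7 : (N / p / (1 + n * p)) % e = 0 := by rw [e5]; exact Nat.mul_mod_left _ _
    have e8 : N / p / (1 + n * p) / e = c := by rw [e5, Nat.mul_div_cancel _ (by omega)]
    rw [e6, e7, e8] at h9
    simp only [beq_self_eq_true, Bool.true_and, Bool.and_true, he, decide_true, Bool.not_true,
      Bool.false_or, Bool.or_eq_true] at h9
    rcases h9 with h9 | h9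
    · exact List.contains_iff_mem.1 h9
    · exfalso
      rw [← hN] at h9 h4
      exact pair_false h h3 hG h4 h9

end H21.NE
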