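import Cfsg.Agent.Lib.H21.NE8
import Cfsg.Agent.Lib.H21.SylowInter

/-!
Elimination of orders by Sylow's theorem.
-/

set_option autoImplicit false

namespace H21.NE

open Cfsg

universe u

/-- a check by means of Sylow's theorem -/
def sylB (N p a m : ℕ) : Bool :=
  (N == p ^ a * m) && !(m % p == 0) && decide (2 ≤ a) &&
  (List.range (m + 1)).all (fun s => !((m % s == 0) && (s % p == 1) && decide (1 < s)) ||
    !(s.factorial % (2 * N) == 0) ||
    (!(s % (p ^ 2) == 1) && (List.range (m + 1)).all (fun k => !(m % k == 0) ||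
      !(k.factorial % (2 * N) == 0) || (List.range (m / k + 1)).all (fun t =>
        !((m / k % t == 0) && (t % p == 1) && decide (1 < t))))))

theorem no_of_sylB {G : Type u} [Group G] [Finite G] [IsSimpleGroup G]
    (hG : ¬ IsMulCommutative G) {p a m : ℕ} (hp : p.Prime)
    (h : sylB (Nat.card G) p a m = true) : False := by
  have : Fact p.Prime := ⟨hp⟩
  simp only [sylB, Bool.and_eq_true, Bool.not_eq_true', beq_iff_eq, beq_eq_false_iff_ne,
    decide_eq_true_eq, Bool.or_eq_true, List.all_eq_true, List.mem_range] at h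
  obtain ⟨⟨⟨h1, h2⟩, h3⟩, h4⟩ := h
  have hm : ¬ p ∣ m := fun hd => h2 (Nat.mod_eq_zero_of_dvd hd)
  have hm0 : 0 < m := by
    rcases Nat.eq_zero_or_pos m with h0 | h0
    · rw [h0] at hm; exact absurd (dvd_zero p) hm
    · exact h0
  have hdvd : p ∣ Nat.card G := by
    rw [h1]
    exact dvd_mul_of_dvd_left (dvd_pow_self p (by omega)) m
  have s1 := H21.SylowTools.card_sylow_dvd_of_card (G := G) h1
  have s2 := H21.SylowTools.card_sylow_ne_one hG (p := p) hdvd
  have s3 := card_sylow_modEq_one p G
  have s4 : Nat.card (Sylow p G) % p = 1 := by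
    rw [s3, Nat.mod_eq_of_lt hp.one_lt]
  have s5 : 0 < Nat.card (Sylow p G) := Nat.card_pos
  have h5 := h4 (Nat.card (Sylow p G)) (by
    have := Nat.le_of_dvd hm0 s1
    omega)
  rcases h5 with (h5 | h5) | h5
  · rw [Nat.mod_eq_zero_of_dvd s1, s4] at h5
    simp only [beq_self_eq_true, Bool.true_and, decide_eq_false_iff_not, not_lt] at h5
    omega
  · apply h5
    apply Nat.mod_eq_zero_of_dvd
    obtain ⟨P⟩ := (inferInstance : Nonempty (Sylow p G))
    exact H21.SylowInter.dvd_factorial_of_card hG _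
      (H21.SylowTools.normalizer_sylow_ne_top hG hdvd P)
      (H21.SylowTools.card_normalizer_mul_card_sylow P)
  · obtain ⟨h5, h6⟩ := h5
    obtain ⟨P, R, M, w, k, -, -, -, -, -, hM, hwk, hkf, -, t1, t2, t3⟩ :=
      H21.SylowInter.exists_normalizer hG h1 hm h3 (by
        intro hcon
        apply h5
        rw [hcon, Nat.mod_eq_of_lt (Nat.one_lt_pow (by norm_num) hp.one_lt)])
    have hk0 : 0 < k := by
      rcases Nat.eq_zero_or_pos k with h0 | h0
      · rw [h0, mul_zero] at hwk; omega
      · exact h0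
    have hw0 : 0 < w := by
      rcases Nat.eq_zero_or_pos w with h0 | h0
      · rw [h0, zero_mul] at hwk; omega
      · exact h0
    have h7 := h6 k (by
      have : k ∣ m := ⟨w, by rw [← hwk, mul_comm]⟩
      have := Nat.le_of_dvd hm0 this
      omega)
    rcases h7 with (h7 | h7) | h7
    · exact h7 (Nat.mod_eq_zero_of_dvd ⟨w, by rw [← hwk, mul_comm]⟩)
    · exact h7 (Nat.mod_eq_zero_of_dvd hkf)
    · have e1 : m / k = w := by rw [← hwk, Nat.mul_div_cancel _ hk0]
      rw [e1] at h7
      have h8 := h7 (Nat.card (Sylow p M)) (by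
        have := Nat.le_of_dvd hw0 t1
        omega)
      rw [Nat.mod_eq_zero_of_dvd t1, t3, Nat.mod_eq_of_lt hp.one_lt] at h8
      simp only [beq_self_eq_true, Bool.true_and, decide_eq_false_iff_not, not_lt] at h8
      have : 0 < Nat.card (Sylow p M) := Nat.card_pos
      omega

end H21.NE
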