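import Cfsg.Agent.Lib.H21.NE8

/-!
Certificates for the orders 3641 to 4799.
-/

set_option autoImplicit false

namespace H21.NE.Cert6232

/-- the exceptions -/
def exc : List ℕ :=
  [3920, 4080, 4320, 4356, 4500, 4620, 4704, 4900, 5040, 5292, 5400, 5460, 5616, 6048, 6072, 6084]

/-- certificates for 3641 to 3899 -/
def c0 : List (ℕ × List (ℕ × ℕ)) :=
  [(0, [(11, 1), (331, 1)]), (1, []), (0, [(3643, 1), (2, 0)]), (0, [(2, 2), (911, 1)]),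
  (0, [(3, 6), (5, 1)]), (1, []), (0, [(7, 1), (521, 1)]), (19, [(2, 64), (3, 3)]),
  (0, [(41, 1), (89, 1)]), (1, []), (0, [(3, 1), (1217, 1)]), (83, [(2, 4), (11, 11)]),
  (0, [(13, 1), (281, 1)]), (1, []), (43, [(5, 5), (17, 17)]), (0, [(2, 3), (457, 1)]),
  (53, [(3, 3), (23, 23)]), (1, []), (0, [(3659, 1), (2, 0)]), (61, [(2, 4), (3, 3), (5, 5)]),
  (0, [(7, 1), (523, 1)]), (1, []), (37, [(3, 9), (11, 11)]), (0, [(2, 4), (229, 1)]),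
  (0, [(5, 1), (733, 1)]), (1, []), (0, [(19, 1), (193, 1)]), (131, [(2, 4), (7, 7)]),
  (0, [(3, 1), (1223, 1)]), (1, []), (0, [(3671, 1), (2, 0)]), (17, [(2, 8), (3, 27)]),
  (0, [(3673, 1), (2, 0)]), (1, []), (3, [(5, 25), (7, 49)]), (0, [(2, 2), (919, 1)]),
  (0, [(3677, 1), (2, 0)]), (1, []), (0, [(13, 1), (283, 1)]), (23, [(2, 32), (5, 5)]),
  (0, [(3, 2), (409, 1)]), (1, []), (0, [(29, 1), (127, 1)]), (307, [(2, 4), (3, 3)]),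
  (67, [(5, 5), (11, 11)]), (1, []), (0, [(3, 1), (1229, 1)]), (0, [(2, 3), (461, 1)]),
  (31, [(7, 7), (17, 17)]), (1, []), (0, [(3691, 1), (2, 0)]), (71, [(2, 4), (13, 13)]),
  (0, [(3, 1), (1231, 1)]), (1, []), (0, [(5, 1), (739, 1)]), (11, [(2, 16), (3, 3), (7, 7)]),
  (0, [(3697, 1), (2, 0)]), (1, []), (0, [(3, 3), (137, 1)]), (37, [(2, 4), (5, 25)]),
  (0, [(3701, 1), (2, 0)]), (1, []), (0, [(7, 1), (23, 2)]), (0, [(2, 3), (463, 1)]),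
  (19, [(3, 3), (5, 5), (13, 13)]), (1, []), (0, [(11, 1), (337, 1)]), (103, [(2, 4), (3, 9)]),
  (0, [(3709, 1), (2, 0)]), (1, []), (0, [(3, 1), (1237, 1)]), (0, [(2, 7), (29, 1)]),
  (0, [(47, 1), (79, 1)]), (1, []), (0, [(5, 1), (743, 1)]), (0, [(2, 2), (929, 1)]),
  (59, [(3, 9), (7, 7)]), (1, []), (0, [(3719, 1), (2, 0)]), (31, [(2, 8), (3, 3), (5, 5)]),
  (0, [(61, 2), (2, 0)]), (1, []), (73, [(3, 3), (17, 17)]), (19, [(2, 4), (7, 49)]),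
  (0, [(5, 2), (149, 1)]), (1, []), (0, [(3727, 1), (2, 0)]), (0, [(2, 4), (233, 1)]),
  (113, [(3, 3), (11, 11)]), (1, []), (41, [(7, 7), (13, 13)]), (311, [(2, 4), (3, 3)]),
  (0, [(3733, 1), (2, 0)]), (1, []), (83, [(3, 9), (5, 5)]), (0, [(2, 3), (467, 1)]),
  (0, [(37, 1), (101, 1)]), (1, []), (0, [(3739, 1), (2, 0)]),
  (17, [(2, 4), (5, 5), (11, 11)]), (29, [(3, 3), (43, 43)]), (1, []),
  (0, [(19, 1), (197, 1)]), (13, [(2, 32), (3, 9)]), (107, [(5, 5), (7, 7)]), (1, []),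
  (0, [(3, 1), (1249, 1)]), (0, [(2, 2), (937, 1)]), (0, [(23, 1), (163, 1)]), (1, []),
  (0, [(11, 2), (31, 1)]), (67, [(2, 8), (7, 7)]), (0, [(3, 3), (139, 1)]), (1, []),
  (0, [(5, 1), (751, 1)]), (313, [(2, 4), (3, 3)]), (0, [(13, 1), (17, 2)]), (1, []),
  (179, [(3, 3), (7, 7)]), (47, [(2, 16), (5, 5)]), (0, [(3761, 1), (2, 0)]), (1, []),
  (0, [(53, 1), (71, 1)]), (0, [(2, 2), (941, 1)]), (251, [(3, 3), (5, 5)]), (1, []),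
  (0, [(3767, 1), (2, 0)]), (157, [(2, 8), (3, 3)]), (0, [(3769, 1), (2, 0)]), (1, []),
  (0, [(3, 2), (419, 1)]), (41, [(2, 4), (23, 23)]), (0, [(7, 3), (11, 1)]), (1, []),
  (0, [(5, 2), (151, 1)]), (0, [(2, 6), (59, 1)]), (0, [(3, 1), (1259, 1)]), (1, []),
  (0, [(3779, 1), (2, 0)]), (7, [(2, 4), (3, 27), (5, 5)]), (0, [(19, 1), (199, 1)]), (1, []),
  (97, [(3, 3), (13, 13)]), (43, [(2, 8), (11, 11)]), (0, [(5, 1), (757, 1)]), (1, []),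
  (0, [(7, 1), (541, 1)]), (0, [(2, 2), (947, 1)]), (0, [(3, 2), (421, 1)]), (1, []),
  (0, [(17, 1), (223, 1)]), (79, [(2, 16), (3, 3)]), (0, [(3793, 1), (2, 0)]), (1, []),
  (23, [(3, 3), (5, 5), (11, 11)]), (73, [(2, 4), (13, 13)]), (0, [(3797, 1), (2, 0)]),
  (1, []), (0, [(29, 1), (131, 1)]), (19, [(2, 8), (5, 25)]), (181, [(3, 3), (7, 7)]), (1, []),
  (0, [(3803, 1), (2, 0)]), (317, [(2, 4), (3, 3)]), (0, [(5, 1), (761, 1)]), (1, []),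
  (0, [(3, 4), (47, 1)]), (17, [(2, 32), (7, 7)]), (0, [(13, 1), (293, 1)]), (1, []),
  (0, [(37, 1), (103, 1)]), (0, [(2, 2), (953, 1)]), (41, [(3, 3), (31, 31)]), (1, []),
  (109, [(5, 5), (7, 7)]), (53, [(2, 8), (3, 9)]), (0, [(11, 1), (347, 1)]), (1, []),
  (67, [(3, 3), (19, 19)]), (191, [(2, 4), (5, 5)]), (0, [(3821, 1), (2, 0)]), (1, []),
  (0, [(3823, 1), (2, 0)]), (0, [(2, 4), (239, 1)]), (17, [(3, 9), (5, 25)]), (1, []),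
  (0, [(43, 1), (89, 1)]), (29, [(2, 4), (3, 3), (11, 11)]), (0, [(7, 1), (547, 1)]), (1, []),
  (0, [(3, 1), (1277, 1)]), (0, [(2, 3), (479, 1)]), (0, [(3833, 1), (2, 0)]), (1, []),
  (59, [(5, 5), (13, 13)]), (137, [(2, 4), (7, 7)]), (0, [(3, 1), (1279, 1)]), (1, []),
  (0, [(11, 1), (349, 1)]), (5, [(2, 256), (3, 3)]), (0, [(23, 1), (167, 1)]), (1, []),
  (61, [(3, 9), (7, 7)]), (0, [(2, 2), (31, 2)]), (0, [(5, 1), (769, 1)]), (1, []),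
  (0, [(3847, 1), (2, 0)]), (37, [(2, 8), (13, 13)]), (0, [(3, 1), (1283, 1)]), (1, []),
  (0, [(3851, 1), (2, 0)]), (107, [(2, 4), (3, 9)]), (0, [(3853, 1), (2, 0)]), (1, []),
  (257, [(3, 3), (5, 5)]), (0, [(2, 4), (241, 1)]), (29, [(7, 7), (19, 19)]), (1, []),
  (0, [(17, 1), (227, 1)]), (193, [(2, 4), (5, 5)]), (13, [(3, 27), (11, 11)]), (1, []),
  (0, [(3863, 1), (2, 0)]), (23, [(2, 8), (3, 3), (7, 7)]), (0, [(5, 1), (773, 1)]), (1, []),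
  (0, [(3, 1), (1289, 1)]), (0, [(2, 2), (967, 1)]), (0, [(53, 1), (73, 1)]), (1, []),
  (0, [(7, 2), (79, 1)]), (0, [(2, 5), (11, 2)]), (0, [(3, 1), (1291, 1)]), (1, []),
  (0, [(5, 3), (31, 1)]), (19, [(2, 4), (3, 3), (17, 17)]), (0, [(3877, 1), (2, 0)]), (1, []),
  (0, [(3, 2), (431, 1)]), (97, [(2, 8), (5, 5)]), (0, [(3881, 1), (2, 0)]), (1, []),
  (0, [(11, 1), (353, 1)]), (0, [(2, 2), (971, 1)]), (37, [(3, 3), (5, 5), (7, 7)]), (1, []),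
  (0, [(13, 2), (23, 1)]), (0, [(2, 4), (3, 5)]), (0, [(3889, 1), (2, 0)]), (1, []),
  (0, [(3, 1), (1297, 1)]), (139, [(2, 4), (7, 7)]), (0, [(17, 1), (229, 1)]), (1, []),
  (41, [(5, 5), (19, 19)]), (0, [(2, 3), (487, 1)]), (0, [(3, 2), (433, 1)]), (1, []),
  (0, [(7, 1), (557, 1)])]

theorem h0 : goC 79 exc 3641 c0 = true := by decide +kernel

theorem l0 : c0.length = 259 := by decide +kernel

/-- certificates for 3900 to 4199 -/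
def c1 : List (ℕ × List (ℕ × ℕ)) :=
  [(13, [(2, 4), (3, 3), (5, 25)]), (0, [(47, 1), (83, 1)]), (1, []), (0, [(3, 1), (1301, 1)]),
  (0, [(2, 6), (61, 1)]), (71, [(5, 5), (11, 11)]), (1, []), (0, [(3907, 1), (2, 0)]),
  (0, [(2, 2), (977, 1)]), (0, [(3, 1), (1303, 1)]), (1, []), (0, [(3911, 1), (2, 0)]),
  (163, [(2, 8), (3, 3)]), (43, [(7, 7), (13, 13)]), (1, []), (29, [(3, 27), (5, 5)]),
  (89, [(2, 4), (11, 11)]), (0, [(3917, 1), (2, 0)]), (1, []), (0, [(3919, 1), (2, 0)]),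
  (1, []), (0, [(3, 1), (1307, 1)]), (1, []), (0, [(3923, 1), (2, 0)]),
  (109, [(2, 4), (3, 9)]), (0, [(5, 2), (157, 1)]), (1, []), (17, [(3, 3), (7, 7), (11, 11)]),
  (0, [(2, 3), (491, 1)]), (0, [(3929, 1), (2, 0)]), (1, []), (0, [(3931, 1), (2, 0)]),
  (0, [(2, 2), (983, 1)]), (23, [(3, 9), (19, 19)]), (1, []), (0, [(5, 1), (787, 1)]),
  (41, [(2, 32), (3, 3)]), (0, [(31, 1), (127, 1)]), (1, []), (101, [(3, 3), (13, 13)]),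
  (197, [(2, 4), (5, 5)]), (0, [(7, 1), (563, 1)]), (1, []), (0, [(3943, 1), (2, 0)]),
  (29, [(2, 8), (17, 17)]), (263, [(3, 3), (5, 5)]), (1, []), (0, [(3947, 1), (2, 0)]),
  (47, [(2, 4), (3, 3), (7, 7)]), (0, [(11, 1), (359, 1)]), (1, []), (0, [(3, 2), (439, 1)]),
  (19, [(2, 16), (13, 13)]), (0, [(59, 1), (67, 1)]), (1, []), (113, [(5, 5), (7, 7)]),
  (43, [(2, 4), (23, 23)]), (0, [(3, 1), (1319, 1)]), (1, []), (0, [(37, 1), (107, 1)]),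
  (11, [(2, 8), (3, 9), (5, 5)]), (0, [(17, 1), (233, 1)]), (1, []), (0, [(3, 1), (1321, 1)]),
  (0, [(2, 2), (991, 1)]), (61, [(5, 5), (13, 13)]), (1, []), (0, [(3967, 1), (2, 0)]),
  (0, [(2, 7), (31, 1)]), (0, [(3, 4), (7, 2)]), (1, []), (0, [(11, 1), (19, 2)]),
  (331, [(2, 4), (3, 3)]), (0, [(29, 1), (137, 1)]), (1, []), (53, [(3, 3), (5, 25)]),
  (71, [(2, 8), (7, 7)]), (0, [(41, 1), (97, 1)]), (1, []), (0, [(23, 1), (173, 1)]),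
  (199, [(2, 4), (5, 5)]), (0, [(3, 1), (1327, 1)]), (1, []), (0, [(7, 1), (569, 1)]),
  (83, [(2, 16), (3, 3)]), (0, [(5, 1), (797, 1)]), (1, []), (0, [(3, 2), (443, 1)]),
  (0, [(2, 2), (997, 1)]), (0, [(3989, 1), (2, 0)]), (1, []), (0, [(13, 1), (307, 1)]),
  (0, [(2, 3), (499, 1)]), (0, [(3, 1), (11, 3)]), (1, []), (47, [(5, 5), (17, 17)]),
  (37, [(2, 4), (3, 27)]), (0, [(7, 1), (571, 1)]), (1, []), (43, [(3, 3), (31, 31)]),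
  (0, [(2, 5), (5, 3)]), (0, [(4001, 1), (2, 0)]), (1, []), (0, [(4003, 1), (2, 0)]),
  (13, [(2, 4), (7, 7), (11, 11)]), (89, [(3, 9), (5, 5)]), (1, []), (0, [(4007, 1), (2, 0)]),
  (167, [(2, 8), (3, 3)]), (0, [(19, 1), (211, 1)]), (1, []), (191, [(3, 3), (7, 7)]),
  (59, [(2, 4), (17, 17)]), (0, [(4013, 1), (2, 0)]), (1, []), (73, [(5, 5), (11, 11)]),
  (0, [(2, 4), (251, 1)]), (103, [(3, 3), (13, 13)]), (1, []), (0, [(4019, 1), (2, 0)]),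
  (67, [(2, 4), (3, 3), (5, 5)]), (0, [(4021, 1), (2, 0)]), (1, []), (0, [(3, 3), (149, 1)]),
  (0, [(2, 3), (503, 1)]), (23, [(5, 25), (7, 7)]), (1, []), (0, [(4027, 1), (2, 0)]),
  (53, [(2, 4), (19, 19)]), (79, [(3, 3), (17, 17)]), (1, []), (0, [(29, 1), (139, 1)]),
  (7, [(2, 64), (3, 9)]), (0, [(37, 1), (109, 1)]), (1, []), (269, [(3, 3), (5, 5)]),
  (0, [(2, 2), (1009, 1)]), (0, [(11, 1), (367, 1)]), (1, []), (0, [(7, 1), (577, 1)]),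
  (101, [(2, 8), (5, 5)]), (0, [(3, 2), (449, 1)]), (1, []), (0, [(13, 1), (311, 1)]),
  (337, [(2, 4), (3, 3)]), (0, [(5, 1), (809, 1)]), (1, []), (71, [(3, 3), (19, 19)]),
  (23, [(2, 16), (11, 11)]), (0, [(4049, 1), (2, 0)]), (1, []), (0, [(4051, 1), (2, 0)]),
  (0, [(2, 2), (1013, 1)]), (193, [(3, 3), (7, 7)]), (1, []), (0, [(5, 1), (811, 1)]),
  (3, [(2, 8), (13, 169)]), (0, [(4057, 1), (2, 0)]), (1, []), (41, [(3, 9), (11, 11)]),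
  (29, [(2, 4), (5, 5), (7, 7)]), (0, [(31, 1), (131, 1)]), (1, []), (0, [(17, 1), (239, 1)]),
  (0, [(2, 5), (127, 1)]), (271, [(3, 3), (5, 5)]), (1, []), (0, [(7, 2), (83, 1)]),
  (113, [(2, 4), (3, 9)]), (0, [(13, 1), (313, 1)]), (1, []), (59, [(3, 3), (23, 23)]),
  (0, [(2, 3), (509, 1)]), (0, [(4073, 1), (2, 0)]), (1, []), (0, [(5, 2), (163, 1)]),
  (0, [(2, 2), (1019, 1)]), (0, [(3, 3), (151, 1)]), (1, []), (0, [(4079, 1), (2, 0)]),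
  (1, []), (53, [(7, 7), (11, 11)]), (1, []), (0, [(3, 1), (1361, 1)]),
  (0, [(2, 2), (1021, 1)]), (43, [(5, 5), (19, 19)]), (1, []), (0, [(61, 1), (67, 1)]),
  (73, [(2, 8), (7, 7)]), (47, [(3, 3), (29, 29)]), (1, []), (0, [(4091, 1), (2, 0)]),
  (31, [(2, 4), (3, 3), (11, 11)]), (0, [(4093, 1), (2, 0)]), (1, []),
  (7, [(3, 9), (5, 5), (13, 13)]), (0, [(2, 12), (3, 0)]), (0, [(17, 1), (241, 1)]), (1, []),
  (0, [(4099, 1), (2, 0)]), (41, [(2, 4), (5, 25)]), (0, [(3, 1), (1367, 1)]), (1, []),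
  (0, [(11, 1), (373, 1)]), (19, [(2, 8), (3, 27)]), (0, [(5, 1), (821, 1)]), (1, []),
  (0, [(3, 1), (37, 2)]), (79, [(2, 4), (13, 13)]), (0, [(7, 1), (587, 1)]), (1, []),
  (0, [(4111, 1), (2, 0)]), (0, [(2, 4), (257, 1)]), (0, [(3, 2), (457, 1)]), (1, []),
  (0, [(5, 1), (823, 1)]), (3, [(2, 4), (7, 343)]), (0, [(23, 1), (179, 1)]), (1, []),
  (0, [(3, 1), (1373, 1)]), (103, [(2, 8), (5, 5)]), (0, [(13, 1), (317, 1)]), (1, []),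
  (31, [(7, 7), (19, 19)]), (0, [(2, 2), (1031, 1)]), (11, [(3, 3), (5, 125)]), (1, []),
  (0, [(4127, 1), (2, 0)]), (43, [(2, 32), (3, 3)]), (0, [(4129, 1), (2, 0)]), (1, []),
  (0, [(3, 5), (17, 1)]), (0, [(2, 2), (1033, 1)]), (0, [(4133, 1), (2, 0)]), (1, []),
  (0, [(5, 1), (827, 1)]), (47, [(2, 8), (11, 11)]), (197, [(3, 3), (7, 7)]), (1, []),
  (0, [(4139, 1), (2, 0)]), (23, [(2, 4), (3, 9), (5, 5)]), (0, [(41, 1), (101, 1)]), (1, []),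
  (0, [(3, 1), (1381, 1)]), (37, [(2, 16), (7, 7)]), (0, [(5, 1), (829, 1)]), (1, []),
  (29, [(11, 11), (13, 13)]), (61, [(2, 4), (17, 17)]), (0, [(3, 2), (461, 1)]), (1, []),
  (0, [(7, 1), (593, 1)]), (173, [(2, 8), (3, 3)]), (0, [(4153, 1), (2, 0)]), (1, []),
  (277, [(3, 3), (5, 5)]), (0, [(2, 2), (1039, 1)]), (0, [(4157, 1), (2, 0)]), (1, []),
  (0, [(4159, 1), (2, 0)]), (13, [(2, 64), (5, 5)]), (73, [(3, 3), (19, 19)]), (1, []),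
  (0, [(23, 1), (181, 1)]), (347, [(2, 4), (3, 3)]), (17, [(5, 5), (7, 49)]), (1, []),
  (0, [(3, 2), (463, 1)]), (0, [(2, 3), (521, 1)]), (0, [(11, 1), (379, 1)]), (1, []),
  (0, [(43, 1), (97, 1)]), (149, [(2, 4), (7, 7)]), (107, [(3, 3), (13, 13)]), (1, []),
  (0, [(5, 2), (167, 1)]), (29, [(2, 16), (3, 9)]), (0, [(4177, 1), (2, 0)]), (1, []),
  (199, [(3, 3), (7, 7)]), (19, [(2, 4), (5, 5), (11, 11)]), (0, [(37, 1), (113, 1)]), (1, []),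
  (0, [(47, 1), (89, 1)]), (0, [(2, 3), (523, 1)]), (31, [(3, 27), (5, 5)]), (1, []),
  (0, [(53, 1), (79, 1)]), (349, [(2, 4), (3, 3)]), (0, [(59, 1), (71, 1)]), (1, []),
  (127, [(3, 3), (11, 11)]), (0, [(2, 5), (131, 1)]), (0, [(7, 1), (599, 1)]), (1, []),
  (0, [(5, 1), (839, 1)]), (0, [(2, 2), (1049, 1)]), (0, [(3, 1), (1399, 1)]), (1, []),
  (19, [(13, 13), (17, 17)])]

theorem h1 : goC 79 exc 3900 c1 = true := by decide +kernel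

theorem l1 : c1.length = 300 := by decide +kernel

/-- certificates for 4200 to 4499 -/
def c2 : List (ℕ × List (ℕ × ℕ)) :=
  [(7, [(2, 8), (3, 3), (5, 25)]), (0, [(4201, 1), (2, 0)]), (1, []), (0, [(3, 2), (467, 1)]),
  (0, [(2, 2), (1051, 1)]), (0, [(5, 1), (29, 2)]), (1, []), (0, [(7, 1), (601, 1)]),
  (0, [(2, 4), (263, 1)]), (61, [(3, 3), (23, 23)]), (1, []), (0, [(4211, 1), (2, 0)]),
  (13, [(2, 4), (3, 81)]), (0, [(11, 1), (383, 1)]), (1, []), (281, [(3, 3), (5, 5)]),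
  (31, [(2, 8), (17, 17)]), (0, [(4217, 1), (2, 0)]), (1, []), (0, [(4219, 1), (2, 0)]),
  (211, [(2, 4), (5, 5)]), (67, [(3, 9), (7, 7)]), (1, []), (0, [(41, 1), (103, 1)]),
  (11, [(2, 128), (3, 3)]), (0, [(5, 2), (13, 2)]), (1, []), (0, [(3, 1), (1409, 1)]),
  (151, [(2, 4), (7, 7)]), (0, [(4229, 1), (2, 0)]), (1, []), (0, [(4231, 1), (2, 0)]),
  (0, [(2, 3), (23, 2)]), (83, [(3, 3), (17, 17)]), (1, []), (7, [(5, 5), (11, 121)]),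
  (353, [(2, 4), (3, 3)]), (0, [(19, 1), (223, 1)]), (1, []), (0, [(3, 3), (157, 1)]),
  (53, [(2, 16), (5, 5)]), (0, [(4241, 1), (2, 0)]), (1, []), (0, [(4243, 1), (2, 0)]),
  (0, [(2, 2), (1061, 1)]), (283, [(3, 3), (5, 5)]), (1, []), (0, [(31, 1), (137, 1)]),
  (59, [(2, 8), (3, 9)]), (0, [(7, 1), (607, 1)]), (1, []), (109, [(3, 3), (13, 13)]),
  (0, [(2, 2), (1063, 1)]), (0, [(4253, 1), (2, 0)]), (1, []), (37, [(5, 5), (23, 23)]),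
  (19, [(2, 32), (7, 7)]), (43, [(3, 9), (11, 11)]), (1, []), (0, [(4259, 1), (2, 0)]),
  (71, [(2, 4), (3, 3), (5, 5)]), (0, [(4261, 1), (2, 0)]), (1, []), (29, [(3, 3), (7, 49)]),
  (41, [(2, 8), (13, 13)]), (0, [(5, 1), (853, 1)]), (1, []), (0, [(17, 1), (251, 1)]),
  (97, [(2, 4), (11, 11)]), (0, [(3, 1), (1423, 1)]), (1, []), (0, [(4271, 1), (2, 0)]),
  (89, [(2, 16), (3, 3)]), (0, [(4273, 1), (2, 0)]), (1, []), (19, [(3, 9), (5, 25)]),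
  (0, [(2, 2), (1069, 1)]), (47, [(7, 7), (13, 13)]), (1, []), (0, [(11, 1), (389, 1)]),
  (107, [(2, 8), (5, 5)]), (0, [(3, 1), (1427, 1)]), (1, []), (0, [(4283, 1), (2, 0)]),
  (17, [(2, 4), (3, 9), (7, 7)]), (0, [(5, 1), (857, 1)]), (1, []), (0, [(3, 1), (1429, 1)]),
  (0, [(2, 6), (67, 1)]), (0, [(4289, 1), (2, 0)]), (1, []), (0, [(7, 1), (613, 1)]),
  (37, [(2, 4), (29, 29)]), (0, [(3, 4), (53, 1)]), (1, []), (0, [(5, 1), (859, 1)]),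
  (179, [(2, 8), (3, 3)]), (0, [(4297, 1), (2, 0)]), (1, []), (0, [(3, 1), (1433, 1)]),
  (43, [(2, 4), (5, 25)]), (23, [(11, 11), (17, 17)]), (1, []), (0, [(13, 1), (331, 1)]),
  (0, [(2, 4), (269, 1)]), (41, [(3, 3), (5, 5), (7, 7)]), (1, []), (0, [(59, 1), (73, 1)]),
  (359, [(2, 4), (3, 3)]), (0, [(31, 1), (139, 1)]), (1, []), (0, [(3, 2), (479, 1)]),
  (11, [(2, 8), (7, 49)]), (0, [(19, 1), (227, 1)]), (1, []), (0, [(5, 1), (863, 1)]),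
  (83, [(2, 4), (13, 13)]), (0, [(3, 1), (1439, 1)]), (1, []), (0, [(7, 1), (617, 1)]),
  (1, []), (0, [(29, 1), (149, 1)]), (1, []), (131, [(3, 3), (11, 11)]),
  (47, [(2, 4), (23, 23)]), (0, [(5, 2), (173, 1)]), (1, []), (0, [(4327, 1), (2, 0)]),
  (0, [(2, 3), (541, 1)]), (37, [(3, 9), (13, 13)]), (1, []), (0, [(61, 1), (71, 1)]),
  (3, [(2, 4), (19, 361)]), (0, [(7, 1), (619, 1)]), (1, []), (5, [(3, 3), (17, 289)]),
  (0, [(2, 4), (271, 1)]), (0, [(4337, 1), (2, 0)]), (1, []), (0, [(4339, 1), (2, 0)]),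
  (31, [(2, 4), (5, 5), (7, 7)]), (0, [(3, 1), (1447, 1)]), (1, []), (0, [(43, 1), (101, 1)]),
  (181, [(2, 8), (3, 3)]), (79, [(5, 5), (11, 11)]), (1, []), (23, [(3, 27), (7, 7)]),
  (0, [(2, 2), (1087, 1)]), (0, [(4349, 1), (2, 0)]), (1, []), (0, [(19, 1), (229, 1)]),
  (0, [(2, 8), (17, 1)]), (0, [(3, 1), (1451, 1)]), (1, []), (67, [(5, 5), (13, 13)]), (1, []),
  (0, [(4357, 1), (2, 0)]), (1, []), (0, [(3, 1), (1453, 1)]), (109, [(2, 8), (5, 5)]),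
  (0, [(7, 2), (89, 1)]), (1, []), (0, [(4363, 1), (2, 0)]), (0, [(2, 2), (1091, 1)]),
  (97, [(3, 9), (5, 5)]), (1, []), (0, [(11, 1), (397, 1)]), (13, [(2, 16), (3, 3), (7, 7)]),
  (0, [(17, 1), (257, 1)]), (1, []), (47, [(3, 3), (31, 31)]), (0, [(2, 2), (1093, 1)]),
  (0, [(4373, 1), (2, 0)]), (1, []), (0, [(5, 4), (7, 1)]), (0, [(2, 3), (547, 1)]),
  (0, [(3, 1), (1459, 1)]), (1, []), (0, [(29, 1), (151, 1)]), (73, [(2, 4), (3, 3), (5, 5)]),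
  (0, [(13, 1), (337, 1)]), (1, []), (0, [(3, 2), (487, 1)]), (0, [(2, 5), (137, 1)]),
  (0, [(5, 1), (877, 1)]), (1, []), (0, [(41, 1), (107, 1)]), (0, [(2, 2), (1097, 1)]),
  (19, [(3, 3), (7, 7), (11, 11)]), (1, []), (0, [(4391, 1), (2, 0)]), (61, [(2, 8), (3, 9)]),
  (0, [(23, 1), (191, 1)]), (1, []), (293, [(3, 3), (5, 5)]), (157, [(2, 4), (7, 7)]),
  (0, [(4397, 1), (2, 0)]), (1, []), (0, [(53, 1), (83, 1)]), (11, [(2, 16), (5, 25)]),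
  (0, [(3, 3), (163, 1)]), (1, []), (37, [(7, 7), (17, 17)]), (367, [(2, 4), (3, 3)]),
  (0, [(5, 1), (881, 1)]), (1, []), (113, [(3, 3), (13, 13)]), (29, [(2, 8), (19, 19)]),
  (0, [(4409, 1), (2, 0)]), (1, []), (0, [(11, 1), (401, 1)]), (0, [(2, 2), (1103, 1)]),
  (0, [(3, 1), (1471, 1)]), (1, []), (0, [(5, 1), (883, 1)]), (23, [(2, 64), (3, 3)]),
  (0, [(7, 1), (631, 1)]), (1, []), (0, [(3, 2), (491, 1)]), (17, [(2, 4), (5, 5), (13, 13)]),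
  (0, [(4421, 1), (2, 0)]), (1, []), (0, [(4423, 1), (2, 0)]), (79, [(2, 8), (7, 7)]),
  (59, [(3, 3), (5, 25)]), (1, []), (0, [(19, 1), (233, 1)]), (41, [(2, 4), (3, 27)]),
  (0, [(43, 1), (103, 1)]), (1, []), (211, [(3, 3), (7, 7)]), (0, [(2, 4), (277, 1)]),
  (31, [(11, 11), (13, 13)]), (1, []), (0, [(5, 1), (887, 1)]), (0, [(2, 2), (1109, 1)]),
  (29, [(3, 9), (17, 17)]), (1, []), (0, [(23, 1), (193, 1)]), (37, [(2, 8), (3, 3), (5, 5)]),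
  (0, [(4441, 1), (2, 0)]), (1, []), (0, [(3, 1), (1481, 1)]), (101, [(2, 4), (11, 11)]),
  (127, [(5, 5), (7, 7)]), (1, []), (0, [(4447, 1), (2, 0)]), (0, [(2, 5), (139, 1)]),
  (0, [(3, 1), (1483, 1)]), (1, []), (0, [(4451, 1), (2, 0)]), (53, [(2, 4), (3, 3), (7, 7)]),
  (0, [(61, 1), (73, 1)]), (1, []), (11, [(3, 81), (5, 5)]), (0, [(2, 3), (557, 1)]),
  (0, [(4457, 1), (2, 0)]), (1, []), (0, [(7, 3), (13, 1)]), (223, [(2, 4), (5, 5)]),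
  (0, [(3, 1), (1487, 1)]), (1, []), (0, [(4463, 1), (2, 0)]), (31, [(2, 16), (3, 9)]),
  (47, [(5, 5), (19, 19)]), (1, []), (0, [(3, 1), (1489, 1)]), (0, [(2, 2), (1117, 1)]),
  (0, [(41, 1), (109, 1)]), (1, []), (0, [(17, 1), (263, 1)]), (43, [(2, 8), (13, 13)]),
  (71, [(3, 9), (7, 7)]), (1, []), (0, [(5, 2), (179, 1)]), (373, [(2, 4), (3, 3)]),
  (0, [(11, 2), (37, 1)]), (1, []), (0, [(3, 1), (1493, 1)]), (7, [(2, 128), (5, 5)]),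
  (0, [(4481, 1), (2, 0)]), (1, []), (0, [(4483, 1), (2, 0)]), (59, [(2, 4), (19, 19)]),
  (23, [(3, 3), (5, 5), (13, 13)]), (1, []), (0, [(7, 1), (641, 1)]),
  (17, [(2, 8), (3, 3), (11, 11)]), (0, [(67, 2), (2, 0)]), (1, []), (0, [(3, 2), (499, 1)]),
  (0, [(2, 2), (1123, 1)]), (0, [(4493, 1), (2, 0)]), (1, []), (31, [(5, 5), (29, 29)]),
  (0, [(2, 4), (281, 1)]), (0, [(3, 1), (1499, 1)]), (1, []), (0, [(11, 1), (409, 1)])]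

theorem h2 : goC 79 exc 4200 c2 = true := by decide +kernel

theorem l2 : c2.length = 300 := by decide +kernel

/-- certificates for 4500 to 4799 -/
def c3 : List (ℕ × List (ℕ × ℕ)) :=
  [(1, []), (0, [(7, 1), (643, 1)]), (1, []), (79, [(3, 3), (19, 19)]), (0, [(2, 3), (563, 1)]),
  (53, [(5, 5), (17, 17)]), (1, []), (0, [(4507, 1), (2, 0)]), (23, [(2, 4), (7, 49)]),
  (0, [(3, 3), (167, 1)]), (1, []), (0, [(13, 1), (347, 1)]), (47, [(2, 32), (3, 3)]),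
  (0, [(4513, 1), (2, 0)]), (1, []), (43, [(3, 3), (5, 5), (7, 7)]), (0, [(2, 2), (1129, 1)]),
  (0, [(4517, 1), (2, 0)]), (1, []), (0, [(4519, 1), (2, 0)]), (113, [(2, 8), (5, 5)]),
  (137, [(3, 3), (11, 11)]), (1, []), (0, [(4523, 1), (2, 0)]),
  (29, [(2, 4), (3, 3), (13, 13)]), (0, [(5, 2), (181, 1)]), (1, []), (0, [(3, 2), (503, 1)]),
  (0, [(2, 4), (283, 1)]), (0, [(7, 1), (647, 1)]), (1, []), (0, [(23, 1), (197, 1)]),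
  (103, [(2, 4), (11, 11)]), (0, [(3, 1), (1511, 1)]), (1, []), (0, [(5, 1), (907, 1)]),
  (7, [(2, 8), (3, 81)]), (0, [(13, 1), (349, 1)]), (1, []), (89, [(3, 3), (17, 17)]),
  (227, [(2, 4), (5, 5)]), (0, [(19, 1), (239, 1)]), (1, []), (59, [(7, 7), (11, 11)]),
  (0, [(2, 6), (71, 1)]), (101, [(3, 9), (5, 5)]), (1, []), (0, [(4547, 1), (2, 0)]),
  (379, [(2, 4), (3, 3)]), (0, [(4549, 1), (2, 0)]), (1, []), (41, [(3, 3), (37, 37)]),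
  (0, [(2, 3), (569, 1)]), (0, [(29, 1), (157, 1)]), (1, []), (0, [(5, 1), (911, 1)]),
  (67, [(2, 4), (17, 17)]), (31, [(3, 3), (7, 49)]), (1, []), (0, [(47, 1), (97, 1)]),
  (19, [(2, 16), (3, 3), (5, 5)]), (0, [(4561, 1), (2, 0)]), (1, []), (0, [(3, 3), (13, 2)]),
  (163, [(2, 4), (7, 7)]), (83, [(5, 5), (11, 11)]), (1, []), (0, [(4567, 1), (2, 0)]),
  (0, [(2, 3), (571, 1)]), (0, [(3, 1), (1523, 1)]), (1, []), (0, [(7, 1), (653, 1)]),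
  (127, [(2, 4), (3, 9)]), (0, [(17, 1), (269, 1)]), (1, []), (61, [(3, 3), (5, 25)]),
  (11, [(2, 32), (13, 13)]), (0, [(23, 1), (199, 1)]), (1, []), (0, [(19, 1), (241, 1)]),
  (229, [(2, 4), (5, 5)]), (0, [(3, 2), (509, 1)]), (1, []), (0, [(4583, 1), (2, 0)]),
  (191, [(2, 8), (3, 3)]), (131, [(5, 5), (7, 7)]), (1, []), (139, [(3, 3), (11, 11)]),
  (37, [(2, 4), (31, 31)]), (0, [(13, 1), (353, 1)]), (1, []), (0, [(4591, 1), (2, 0)]),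
  (41, [(2, 16), (7, 7)]), (0, [(3, 1), (1531, 1)]), (1, []), (0, [(5, 1), (919, 1)]),
  (383, [(2, 4), (3, 3)]), (0, [(4597, 1), (2, 0)]), (1, []), (73, [(3, 9), (7, 7)]),
  (23, [(2, 8), (5, 25)]), (0, [(43, 1), (107, 1)]), (1, []), (0, [(4603, 1), (2, 0)]),
  (0, [(2, 2), (1151, 1)]), (307, [(3, 3), (5, 5)]), (1, []), (0, [(17, 1), (271, 1)]),
  (0, [(2, 9), (3, 2)]), (0, [(11, 1), (419, 1)]), (1, []), (53, [(3, 3), (29, 29)]),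
  (0, [(2, 2), (1153, 1)]), (0, [(7, 1), (659, 1)]), (1, []), (71, [(5, 5), (13, 13)]),
  (0, [(2, 3), (577, 1)]), (0, [(3, 5), (19, 1)]), (1, []), (0, [(31, 1), (149, 1)]), (1, []),
  (0, [(4621, 1), (2, 0)]), (1, []), (67, [(3, 3), (23, 23)]), (0, [(2, 4), (17, 2)]),
  (0, [(5, 3), (37, 1)]), (1, []), (0, [(7, 1), (661, 1)]), (89, [(2, 4), (13, 13)]),
  (0, [(3, 1), (1543, 1)]), (1, []), (0, [(11, 1), (421, 1)]), (193, [(2, 8), (3, 3)]),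
  (0, [(41, 1), (113, 1)]), (1, []), (103, [(3, 9), (5, 5)]), (61, [(2, 4), (19, 19)]),
  (0, [(4637, 1), (2, 0)]), (1, []), (0, [(4639, 1), (2, 0)]), (29, [(2, 32), (5, 5)]),
  (13, [(3, 3), (7, 7), (17, 17)]), (1, []), (0, [(4643, 1), (2, 0)]), (43, [(2, 4), (3, 27)]),
  (0, [(5, 1), (929, 1)]), (1, []), (0, [(3, 1), (1549, 1)]), (83, [(2, 8), (7, 7)]),
  (0, [(4649, 1), (2, 0)]), (1, []), (0, [(4651, 1), (2, 0)]), (0, [(2, 2), (1163, 1)]),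
  (47, [(3, 9), (11, 11)]), (1, []), (19, [(5, 5), (7, 49)]), (97, [(2, 16), (3, 3)]),
  (0, [(4657, 1), (2, 0)]), (1, []), (0, [(3, 1), (1553, 1)]), (233, [(2, 4), (5, 5)]),
  (0, [(59, 1), (79, 1)]), (1, []), (0, [(4663, 1), (2, 0)]), (53, [(2, 8), (11, 11)]),
  (311, [(3, 3), (5, 5)]), (1, []), (0, [(13, 1), (359, 1)]), (389, [(2, 4), (3, 3)]),
  (29, [(7, 7), (23, 23)]), (1, []), (0, [(3, 3), (173, 1)]), (0, [(2, 6), (73, 1)]),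
  (0, [(4673, 1), (2, 0)]), (1, []), (17, [(5, 25), (11, 11)]), (167, [(2, 4), (7, 7)]),
  (0, [(3, 1), (1559, 1)]), (1, []), (0, [(4679, 1), (2, 0)]), (13, [(2, 8), (3, 9), (5, 5)]),
  (0, [(31, 1), (151, 1)]), (1, []), (223, [(3, 3), (7, 7)]), (0, [(2, 2), (1171, 1)]),
  (0, [(5, 1), (937, 1)]), (1, []), (0, [(43, 1), (109, 1)]), (0, [(2, 4), (293, 1)]),
  (0, [(3, 2), (521, 1)]), (1, []), (0, [(4691, 1), (2, 0)]), (23, [(2, 4), (3, 3), (17, 17)]),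
  (0, [(13, 1), (19, 2)]), (1, []), (313, [(3, 3), (5, 5)]), (0, [(2, 3), (587, 1)]),
  (61, [(7, 7), (11, 11)]), (1, []), (0, [(37, 1), (127, 1)]), (47, [(2, 4), (5, 25)]),
  (0, [(3, 1), (1567, 1)]), (1, []), (0, [(4703, 1), (2, 0)]), (1, []),
  (0, [(5, 1), (941, 1)]), (1, []), (0, [(3, 2), (523, 1)]), (107, [(2, 4), (11, 11)]),
  (0, [(17, 1), (277, 1)]), (1, []), (0, [(7, 1), (673, 1)]), (31, [(2, 8), (19, 19)]),
  (0, [(3, 1), (1571, 1)]), (1, []), (41, [(5, 5), (23, 23)]), (131, [(2, 4), (3, 9)]),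
  (0, [(53, 1), (89, 1)]), (1, []), (13, [(3, 3), (11, 121)]), (59, [(2, 16), (5, 5)]),
  (0, [(4721, 1), (2, 0)]), (1, []), (0, [(4723, 1), (2, 0)]), (0, [(2, 2), (1181, 1)]),
  (7, [(3, 27), (5, 25)]), (1, []), (0, [(29, 1), (163, 1)]), (197, [(2, 8), (3, 3)]),
  (0, [(4729, 1), (2, 0)]), (1, []), (83, [(3, 3), (19, 19)]), (7, [(2, 4), (13, 169)]),
  (0, [(4733, 1), (2, 0)]), (1, []), (0, [(5, 1), (947, 1)]), (0, [(2, 7), (37, 1)]),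
  (0, [(3, 1), (1579, 1)]), (1, []), (0, [(7, 1), (677, 1)]), (79, [(2, 4), (3, 3), (5, 5)]),
  (0, [(11, 1), (431, 1)]), (1, []), (31, [(3, 9), (17, 17)]), (0, [(2, 3), (593, 1)]),
  (73, [(5, 5), (13, 13)]), (1, []), (0, [(47, 1), (101, 1)]), (0, [(2, 2), (1187, 1)]),
  (0, [(3, 1), (1583, 1)]), (1, []), (0, [(4751, 1), (2, 0)]), (11, [(2, 16), (3, 27)]),
  (0, [(7, 2), (97, 1)]), (1, []), (317, [(3, 3), (5, 5)]), (41, [(2, 4), (29, 29)]),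
  (0, [(67, 1), (71, 1)]), (1, []), (0, [(4759, 1), (2, 0)]), (17, [(2, 8), (5, 5), (7, 7)]),
  (0, [(3, 2), (23, 2)]), (1, []), (0, [(11, 1), (433, 1)]), (397, [(2, 4), (3, 3)]),
  (0, [(5, 1), (953, 1)]), (1, []), (227, [(3, 3), (7, 7)]), (0, [(2, 5), (149, 1)]),
  (0, [(19, 1), (251, 1)]), (1, []), (0, [(13, 1), (367, 1)]), (0, [(2, 2), (1193, 1)]),
  (43, [(3, 3), (37, 37)]), (1, []), (0, [(5, 2), (191, 1)]), (199, [(2, 8), (3, 3)]),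
  (0, [(17, 1), (281, 1)]), (1, []), (0, [(3, 4), (59, 1)]), (239, [(2, 4), (5, 5)]),
  (0, [(7, 1), (683, 1)]), (1, []), (0, [(4783, 1), (2, 0)]), (23, [(2, 16), (13, 13)]),
  (29, [(3, 3), (5, 5), (11, 11)]), (1, []), (0, [(4787, 1), (2, 0)]),
  (19, [(2, 4), (3, 9), (7, 7)]), (0, [(4789, 1), (2, 0)]), (1, []), (0, [(3, 1), (1597, 1)]),
  (0, [(2, 3), (599, 1)]), (0, [(4793, 1), (2, 0)]), (1, []), (137, [(5, 5), (7, 7)]),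
  (109, [(2, 4), (11, 11)]), (41, [(3, 9), (13, 13)]), (1, []), (0, [(4799, 1), (2, 0)])]

theorem h3 : goC 79 exc 4500 c3 = true := by decide +kernel

theorem l3 : c3.length = 300 := by decide +kernel

end H21.NE.Cert6232
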