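import Cfsg.Agent.Lib.H21.NE11

/-!
Certificates for the orders 4800 to 6232.
-/

set_option autoImplicit false

namespace H21.NE.Cert6232

/-- certificates for 4800 to 5099 -/
def c4 : List (ℕ × List (ℕ × ℕ)) :=
  [(3, [(2, 64), (5, 25)]), (0, [(4801, 1), (2, 0)]), (1, []), (0, [(3, 1), (1601, 1)]),
  (0, [(2, 2), (1201, 1)]), (0, [(5, 1), (31, 2)]), (1, []), (23, [(11, 11), (19, 19)]),
  (0, [(2, 3), (601, 1)]), (229, [(3, 3), (7, 7)]), (1, []), (0, [(17, 1), (283, 1)]),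
  (401, [(2, 4), (3, 3)]), (0, [(4813, 1), (2, 0)]), (1, []), (107, [(3, 9), (5, 5)]),
  (43, [(2, 16), (7, 7)]), (0, [(4817, 1), (2, 0)]), (1, []), (0, [(61, 1), (79, 1)]),
  (241, [(2, 4), (5, 5)]), (0, [(3, 1), (1607, 1)]), (1, []), (53, [(7, 7), (13, 13)]),
  (67, [(2, 8), (3, 9)]), (0, [(5, 2), (193, 1)]), (1, []), (0, [(3, 1), (1609, 1)]),
  (71, [(2, 4), (17, 17)]), (0, [(11, 1), (439, 1)]), (1, []), (0, [(4831, 1), (2, 0)]),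
  (0, [(2, 5), (151, 1)]), (0, [(3, 3), (179, 1)]), (1, []), (0, [(5, 1), (967, 1)]),
  (31, [(2, 4), (3, 3), (13, 13)]), (0, [(7, 1), (691, 1)]), (1, []), (0, [(3, 1), (1613, 1)]),
  (5, [(2, 8), (11, 121)]), (0, [(47, 1), (103, 1)]), (1, []), (0, [(29, 1), (167, 1)]),
  (173, [(2, 4), (7, 7)]), (19, [(3, 3), (5, 5), (17, 17)]), (1, []), (0, [(37, 1), (131, 1)]),
  (101, [(2, 16), (3, 3)]), (0, [(13, 1), (373, 1)]), (1, []), (11, [(3, 9), (7, 49)]),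
  (0, [(2, 2), (1213, 1)]), (0, [(23, 1), (211, 1)]), (1, []), (0, [(5, 1), (971, 1)]),
  (0, [(2, 3), (607, 1)]), (0, [(3, 1), (1619, 1)]), (1, []), (0, [(43, 1), (113, 1)]),
  (5, [(2, 4), (3, 243)]), (0, [(4861, 1), (2, 0)]), (1, []), (0, [(3, 1), (1621, 1)]),
  (0, [(2, 8), (19, 1)]), (139, [(5, 5), (7, 7)]), (1, []), (0, [(31, 1), (157, 1)]),
  (0, [(2, 2), (1217, 1)]), (0, [(3, 2), (541, 1)]), (1, []), (0, [(4871, 1), (2, 0)]),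
  (29, [(2, 8), (3, 3), (7, 7)]), (0, [(11, 1), (443, 1)]), (1, []), (13, [(3, 3), (5, 125)]),
  (53, [(2, 4), (23, 23)]), (0, [(4877, 1), (2, 0)]), (1, []), (41, [(7, 7), (17, 17)]),
  (61, [(2, 16), (5, 5)]), (0, [(3, 1), (1627, 1)]), (1, []), (0, [(19, 1), (257, 1)]),
  (37, [(2, 4), (3, 3), (11, 11)]), (0, [(5, 1), (977, 1)]), (1, []), (0, [(3, 3), (181, 1)]),
  (47, [(2, 8), (13, 13)]), (0, [(4889, 1), (2, 0)]), (1, []), (0, [(67, 1), (73, 1)]),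
  (0, [(2, 2), (1223, 1)]), (233, [(3, 3), (7, 7)]), (1, []), (89, [(5, 5), (11, 11)]),
  (17, [(2, 32), (3, 9)]), (0, [(59, 1), (83, 1)]), (1, []), (71, [(3, 3), (23, 23)]), (1, []),
  (0, [(13, 2), (29, 1)]), (1, []), (0, [(4903, 1), (2, 0)]), (0, [(2, 3), (613, 1)]),
  (109, [(3, 9), (5, 5)]), (1, []), (0, [(7, 1), (701, 1)]), (409, [(2, 4), (3, 3)]),
  (0, [(4909, 1), (2, 0)]), (1, []), (0, [(3, 1), (1637, 1)]), (0, [(2, 4), (307, 1)]),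
  (0, [(17, 3), (2, 0)]), (1, []), (0, [(5, 1), (983, 1)]), (0, [(2, 2), (1229, 1)]),
  (149, [(3, 3), (11, 11)]), (1, []), (0, [(4919, 1), (2, 0)]), (41, [(2, 8), (3, 3), (5, 5)]),
  (37, [(7, 7), (19, 19)]), (1, []), (0, [(3, 2), (547, 1)]), (0, [(2, 2), (1231, 1)]),
  (0, [(5, 2), (197, 1)]), (1, []), (0, [(13, 1), (379, 1)]), (11, [(2, 64), (7, 7)]),
  (53, [(3, 3), (31, 31)]), (1, []), (0, [(4931, 1), (2, 0)]), (137, [(2, 4), (3, 9)]),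
  (0, [(4933, 1), (2, 0)]), (1, []), (47, [(3, 3), (5, 5), (7, 7)]), (0, [(2, 3), (617, 1)]),
  (0, [(4937, 1), (2, 0)]), (1, []), (0, [(11, 1), (449, 1)]),
  (19, [(2, 4), (5, 5), (13, 13)]), (0, [(3, 4), (61, 1)]), (1, []), (0, [(4943, 1), (2, 0)]),
  (103, [(2, 16), (3, 3)]), (43, [(5, 5), (23, 23)]), (1, []), (97, [(3, 3), (17, 17)]),
  (0, [(2, 2), (1237, 1)]), (0, [(7, 2), (101, 1)]), (1, []), (0, [(4951, 1), (2, 0)]),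
  (0, [(2, 3), (619, 1)]), (127, [(3, 3), (13, 13)]), (1, []), (0, [(5, 1), (991, 1)]),
  (59, [(2, 4), (3, 3), (7, 7)]), (0, [(4957, 1), (2, 0)]), (1, []), (29, [(3, 9), (19, 19)]),
  (31, [(2, 32), (5, 5)]), (0, [(11, 2), (41, 1)]), (1, []), (0, [(7, 1), (709, 1)]),
  (73, [(2, 4), (17, 17)]), (331, [(3, 3), (5, 5)]), (1, []), (0, [(4967, 1), (2, 0)]),
  (23, [(2, 8), (3, 27)]), (0, [(4969, 1), (2, 0)]), (1, []), (0, [(3, 1), (1657, 1)]),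
  (113, [(2, 4), (11, 11)]), (0, [(4973, 1), (2, 0)]), (1, []), (0, [(5, 2), (199, 1)]),
  (0, [(2, 4), (311, 1)]), (79, [(3, 9), (7, 7)]), (1, []), (0, [(13, 1), (383, 1)]),
  (83, [(2, 4), (3, 3), (5, 5)]), (0, [(17, 1), (293, 1)]), (1, []), (151, [(3, 3), (11, 11)]),
  (89, [(2, 8), (7, 7)]), (0, [(5, 1), (997, 1)]), (1, []), (0, [(4987, 1), (2, 0)]),
  (43, [(2, 4), (29, 29)]), (0, [(3, 1), (1663, 1)]), (1, []), (31, [(7, 7), (23, 23)]),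
  (13, [(2, 128), (3, 3)]), (0, [(4993, 1), (2, 0)]), (1, []), (37, [(3, 27), (5, 5)]),
  (0, [(2, 2), (1249, 1)]), (0, [(19, 1), (263, 1)]), (1, []), (0, [(4999, 1), (2, 0)]),
  (0, [(2, 3), (5, 4)]), (0, [(3, 1), (1667, 1)]), (1, []), (0, [(5003, 1), (2, 0)]),
  (139, [(2, 4), (3, 9)]), (13, [(5, 5), (7, 7), (11, 11)]), (1, []), (0, [(3, 1), (1669, 1)]),
  (0, [(2, 4), (313, 1)]), (0, [(5009, 1), (2, 0)]), (1, []), (0, [(5011, 1), (2, 0)]),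
  (179, [(2, 4), (7, 7)]), (0, [(3, 2), (557, 1)]), (1, []), (59, [(5, 5), (17, 17)]),
  (19, [(2, 8), (3, 3), (11, 11)]), (0, [(29, 1), (173, 1)]), (1, []), (239, [(3, 3), (7, 7)]),
  (251, [(2, 4), (5, 5)]), (0, [(5021, 1), (2, 0)]), (1, []), (0, [(5023, 1), (2, 0)]),
  (0, [(2, 5), (157, 1)]), (67, [(3, 3), (5, 25)]), (1, []), (0, [(11, 1), (457, 1)]),
  (419, [(2, 4), (3, 3)]), (0, [(47, 1), (107, 1)]), (1, []), (43, [(3, 9), (13, 13)]),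
  (37, [(2, 8), (17, 17)]), (0, [(7, 1), (719, 1)]), (1, []), (53, [(5, 5), (19, 19)]),
  (0, [(2, 2), (1259, 1)]), (73, [(3, 3), (23, 23)]), (1, []), (0, [(5039, 1), (2, 0)]),
  (1, []), (0, [(71, 2), (2, 0)]), (1, []), (0, [(3, 1), (41, 2)]), (97, [(2, 4), (13, 13)]),
  (0, [(5, 1), (1009, 1)]), (1, []), (0, [(7, 2), (103, 1)]), (0, [(2, 3), (631, 1)]),
  (17, [(3, 27), (11, 11)]), (1, []), (0, [(5051, 1), (2, 0)]), (421, [(2, 4), (3, 3)]),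
  (0, [(31, 1), (163, 1)]), (1, []), (337, [(3, 3), (5, 5)]), (0, [(2, 6), (79, 1)]),
  (0, [(13, 1), (389, 1)]), (1, []), (0, [(5059, 1), (2, 0)]),
  (23, [(2, 4), (5, 5), (11, 11)]), (241, [(3, 3), (7, 7)]), (1, []), (0, [(61, 1), (83, 1)]),
  (211, [(2, 8), (3, 3)]), (0, [(5, 1), (1013, 1)]), (1, []), (0, [(3, 2), (563, 1)]),
  (181, [(2, 4), (7, 7)]), (0, [(37, 1), (137, 1)]), (1, []), (0, [(11, 1), (461, 1)]),
  (0, [(2, 4), (317, 1)]), (89, [(3, 3), (19, 19)]), (1, []), (29, [(5, 25), (7, 7)]),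
  (47, [(2, 4), (3, 27)]), (0, [(5077, 1), (2, 0)]), (1, []), (0, [(3, 1), (1693, 1)]),
  (127, [(2, 8), (5, 5)]), (0, [(5081, 1), (2, 0)]), (1, []), (23, [(13, 13), (17, 17)]),
  (31, [(2, 4), (41, 41)]), (113, [(3, 9), (5, 5)]), (1, []), (0, [(5087, 1), (2, 0)]),
  (53, [(2, 32), (3, 3)]), (0, [(7, 1), (727, 1)]), (1, []), (0, [(3, 1), (1697, 1)]),
  (67, [(2, 4), (19, 19)]), (0, [(11, 1), (463, 1)]), (1, []), (0, [(5, 1), (1019, 1)]),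
  (13, [(2, 8), (7, 49)]), (0, [(3, 1), (1699, 1)]), (1, []), (0, [(5099, 1), (2, 0)])]

theorem h4 : goC 79 exc 4800 c4 = true := by decide +kernel

theorem l4 : c4.length = 300 := by decide +kernel

/-- certificates for 5100 to 5399 -/
def c5 : List (ℕ × List (ℕ × ℕ)) :=
  [(17, [(2, 4), (3, 3), (5, 25)]), (0, [(5101, 1), (2, 0)]), (1, []), (0, [(3, 6), (7, 1)]),
  (29, [(2, 16), (11, 11)]), (0, [(5, 1), (1021, 1)]), (1, []), (0, [(5107, 1), (2, 0)]),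
  (0, [(2, 2), (1277, 1)]), (131, [(3, 3), (13, 13)]), (1, []), (0, [(19, 1), (269, 1)]),
  (71, [(2, 8), (3, 9)]), (0, [(5113, 1), (2, 0)]), (1, []), (31, [(3, 3), (5, 5), (11, 11)]),
  (0, [(2, 2), (1279, 1)]), (43, [(7, 7), (17, 17)]), (1, []), (0, [(5119, 1), (2, 0)]),
  (0, [(2, 10), (5, 1)]), (0, [(3, 2), (569, 1)]), (1, []), (0, [(47, 1), (109, 1)]),
  (61, [(2, 4), (3, 3), (7, 7)]), (0, [(5, 3), (41, 1)]), (1, []), (0, [(3, 1), (1709, 1)]),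
  (0, [(2, 3), (641, 1)]), (0, [(23, 1), (223, 1)]), (1, []), (0, [(7, 1), (733, 1)]),
  (0, [(2, 2), (1283, 1)]), (59, [(3, 3), (29, 29)]), (1, []), (79, [(5, 5), (13, 13)]),
  (107, [(2, 16), (3, 3)]), (0, [(11, 1), (467, 1)]), (1, []), (0, [(3, 2), (571, 1)]),
  (257, [(2, 4), (5, 5)]), (0, [(53, 1), (97, 1)]), (1, []), (0, [(37, 1), (139, 1)]),
  (0, [(2, 3), (643, 1)]), (5, [(3, 3), (7, 343)]), (1, []), (0, [(5147, 1), (2, 0)]),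
  (13, [(2, 4), (3, 9), (11, 11)]), (0, [(19, 1), (271, 1)]), (1, []),
  (101, [(3, 3), (17, 17)]), (23, [(2, 32), (7, 7)]), (0, [(5153, 1), (2, 0)]), (1, []),
  (0, [(5, 1), (1031, 1)]), (0, [(2, 2), (1289, 1)]), (0, [(3, 3), (191, 1)]), (1, []),
  (67, [(7, 7), (11, 11)]), (43, [(2, 8), (3, 3), (5, 5)]), (0, [(13, 1), (397, 1)]), (1, []),
  (0, [(3, 1), (1721, 1)]), (0, [(2, 2), (1291, 1)]), (0, [(5, 1), (1033, 1)]), (1, []),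
  (0, [(5167, 1), (2, 0)]), (19, [(2, 16), (17, 17)]), (0, [(3, 1), (1723, 1)]), (1, []),
  (0, [(5171, 1), (2, 0)]), (431, [(2, 4), (3, 3)]), (0, [(7, 1), (739, 1)]), (1, []),
  (23, [(3, 9), (5, 25)]), (0, [(2, 3), (647, 1)]), (0, [(31, 1), (167, 1)]), (1, []),
  (0, [(5179, 1), (2, 0)]), (37, [(2, 4), (5, 5), (7, 7)]), (157, [(3, 3), (11, 11)]), (1, []),
  (0, [(71, 1), (73, 1)]), (0, [(2, 6), (3, 4)]), (61, [(5, 5), (17, 17)]), (1, []),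
  (19, [(3, 3), (7, 7), (13, 13)]), (0, [(2, 2), (1297, 1)]), (0, [(5189, 1), (2, 0)]),
  (1, []), (0, [(29, 1), (179, 1)]), (59, [(2, 8), (11, 11)]), (0, [(3, 2), (577, 1)]),
  (1, []), (0, [(5, 1), (1039, 1)]), (433, [(2, 4), (3, 3)]), (0, [(5197, 1), (2, 0)]),
  (1, []), (0, [(3, 1), (1733, 1)]), (13, [(2, 16), (5, 25)]), (0, [(7, 1), (743, 1)]),
  (1, []), (0, [(11, 2), (43, 1)]), (0, [(2, 2), (1301, 1)]), (347, [(3, 3), (5, 5)]), (1, []),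
  (0, [(41, 1), (127, 1)]), (31, [(2, 8), (3, 3), (7, 7)]), (0, [(5209, 1), (2, 0)]), (1, []),
  (0, [(3, 3), (193, 1)]), (0, [(2, 2), (1303, 1)]), (0, [(13, 1), (401, 1)]), (1, []),
  (149, [(5, 5), (7, 7)]), (0, [(2, 5), (163, 1)]), (47, [(3, 3), (37, 37)]), (1, []),
  (0, [(17, 1), (307, 1)]), (29, [(2, 4), (3, 9), (5, 5)]), (0, [(23, 1), (227, 1)]), (1, []),
  (0, [(3, 1), (1741, 1)]), (0, [(2, 3), (653, 1)]), (19, [(5, 25), (11, 11)]), (1, []),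
  (0, [(5227, 1), (2, 0)]), (0, [(2, 2), (1307, 1)]), (83, [(3, 9), (7, 7)]), (1, []),
  (0, [(5231, 1), (2, 0)]), (109, [(2, 16), (3, 3)]), (0, [(5233, 1), (2, 0)]), (1, []),
  (349, [(3, 3), (5, 5)]), (17, [(2, 4), (7, 7), (11, 11)]), (0, [(5237, 1), (2, 0)]), (1, []),
  (0, [(13, 2), (31, 1)]), (131, [(2, 8), (5, 5)]), (0, [(3, 1), (1747, 1)]), (1, []),
  (0, [(7, 2), (107, 1)]), (23, [(2, 4), (3, 3), (19, 19)]), (0, [(5, 1), (1049, 1)]), (1, []),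
  (53, [(3, 9), (11, 11)]), (0, [(2, 7), (41, 1)]), (0, [(29, 1), (181, 1)]), (1, []),
  (0, [(59, 1), (89, 1)]), (101, [(2, 4), (13, 13)]), (103, [(3, 3), (17, 17)]), (1, []),
  (0, [(5, 1), (1051, 1)]), (73, [(2, 8), (3, 9)]), (0, [(7, 1), (751, 1)]), (1, []),
  (0, [(3, 1), (1753, 1)]), (263, [(2, 4), (5, 5)]), (0, [(5261, 1), (2, 0)]), (1, []),
  (0, [(19, 1), (277, 1)]), (47, [(2, 16), (7, 7)]), (13, [(3, 81), (5, 5)]), (1, []),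
  (0, [(23, 1), (229, 1)]), (439, [(2, 4), (3, 3)]), (0, [(11, 1), (479, 1)]), (1, []),
  (251, [(3, 3), (7, 7)]), (0, [(2, 3), (659, 1)]), (0, [(5273, 1), (2, 0)]), (1, []),
  (0, [(5, 2), (211, 1)]), (0, [(2, 2), (1319, 1)]), (0, [(3, 1), (1759, 1)]), (1, []),
  (0, [(5279, 1), (2, 0)]), (11, [(2, 32), (3, 3), (5, 5)]), (0, [(5281, 1), (2, 0)]), (1, []),
  (0, [(3, 2), (587, 1)]), (0, [(2, 2), (1321, 1)]), (151, [(5, 5), (7, 7)]), (1, []),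
  (0, [(17, 1), (311, 1)]), (0, [(2, 3), (661, 1)]), (43, [(3, 3), (41, 41)]), (1, []),
  (37, [(11, 11), (13, 13)]), (1, []), (0, [(67, 1), (79, 1)]), (1, []),
  (353, [(3, 3), (5, 5)]), (0, [(2, 4), (331, 1)]), (0, [(5297, 1), (2, 0)]), (1, []),
  (0, [(7, 1), (757, 1)]), (53, [(2, 4), (5, 25)]), (31, [(3, 9), (19, 19)]), (1, []),
  (0, [(5303, 1), (2, 0)]), (17, [(2, 8), (3, 3), (13, 13)]), (0, [(5, 1), (1061, 1)]),
  (1, []), (61, [(3, 3), (29, 29)]), (0, [(2, 2), (1327, 1)]), (0, [(5309, 1), (2, 0)]),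
  (1, []), (0, [(47, 1), (113, 1)]), (0, [(2, 6), (83, 1)]), (23, [(3, 3), (7, 7), (11, 11)]),
  (1, []), (0, [(5, 1), (1063, 1)]), (443, [(2, 4), (3, 3)]), (0, [(13, 1), (409, 1)]),
  (1, []), (0, [(3, 3), (197, 1)]), (19, [(2, 8), (5, 5), (7, 7)]), (0, [(17, 1), (313, 1)]),
  (1, []), (0, [(5323, 1), (2, 0)]), (0, [(2, 2), (11, 3)]), (71, [(3, 3), (5, 25)]), (1, []),
  (0, [(7, 1), (761, 1)]), (37, [(2, 16), (3, 9)]), (0, [(73, 2), (2, 0)]), (1, []),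
  (0, [(3, 1), (1777, 1)]), (43, [(2, 4), (31, 31)]), (0, [(5333, 1), (2, 0)]), (1, []),
  (97, [(5, 5), (11, 11)]), (29, [(2, 8), (23, 23)]), (0, [(3, 2), (593, 1)]), (1, []),
  (0, [(19, 1), (281, 1)]), (89, [(2, 4), (3, 3), (5, 5)]), (0, [(7, 2), (109, 1)]), (1, []),
  (137, [(3, 3), (13, 13)]), (0, [(2, 5), (167, 1)]), (0, [(5, 1), (1069, 1)]), (1, []),
  (0, [(5347, 1), (2, 0)]), (191, [(2, 4), (7, 7)]), (0, [(3, 1), (1783, 1)]), (1, []),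
  (0, [(5351, 1), (2, 0)]), (223, [(2, 8), (3, 3)]), (0, [(53, 1), (101, 1)]), (1, []),
  (17, [(3, 9), (5, 5), (7, 7)]), (103, [(2, 4), (13, 13)]), (0, [(11, 1), (487, 1)]), (1, []),
  (0, [(23, 1), (233, 1)]), (67, [(2, 16), (5, 5)]), (0, [(3, 1), (1787, 1)]), (1, []),
  (0, [(31, 1), (173, 1)]), (149, [(2, 4), (3, 9)]), (37, [(5, 5), (29, 29)]), (1, []),
  (0, [(3, 1), (1789, 1)]), (61, [(2, 8), (11, 11)]), (59, [(7, 7), (13, 13)]), (1, []),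
  (0, [(41, 1), (131, 1)]), (79, [(2, 4), (17, 17)]), (0, [(3, 3), (199, 1)]), (1, []),
  (0, [(5, 3), (43, 1)]), (7, [(2, 256), (3, 3)]), (0, [(19, 1), (283, 1)]), (1, []),
  (163, [(3, 3), (11, 11)]), (269, [(2, 4), (5, 5)]), (0, [(5381, 1), (2, 0)]), (1, []),
  (0, [(7, 1), (769, 1)]), (0, [(2, 3), (673, 1)]), (359, [(3, 3), (5, 5)]), (1, []),
  (0, [(5387, 1), (2, 0)]), (449, [(2, 4), (3, 3)]), (0, [(17, 1), (317, 1)]), (1, []),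
  (0, [(3, 2), (599, 1)]), (0, [(2, 4), (337, 1)]), (0, [(5393, 1), (2, 0)]), (1, []),
  (83, [(5, 5), (13, 13)]), (71, [(2, 4), (19, 19)]), (257, [(3, 3), (7, 7)]), (1, []),
  (0, [(5399, 1), (2, 0)])]

theorem h5 : goC 79 exc 5100 c5 = true := by decide +kernel

theorem l5 : c5.length = 300 := by decide +kernel

/-- certificates for 5400 to 5699 -/
def c6 : List (ℕ × List (ℕ × ℕ)) :=
  [(1, []), (0, [(11, 1), (491, 1)]), (1, []), (0, [(3, 1), (1801, 1)]), (193, [(2, 4), (7, 7)]),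
  (47, [(5, 5), (23, 23)]), (1, []), (0, [(5407, 1), (2, 0)]), (0, [(2, 5), (13, 2)]),
  (0, [(3, 2), (601, 1)]), (1, []), (0, [(7, 1), (773, 1)]), (41, [(2, 4), (3, 3), (11, 11)]),
  (0, [(5413, 1), (2, 0)]), (1, []), (5, [(3, 3), (19, 361)]), (0, [(2, 3), (677, 1)]),
  (0, [(5417, 1), (2, 0)]), (1, []), (0, [(5419, 1), (2, 0)]), (271, [(2, 4), (5, 5)]),
  (139, [(3, 3), (13, 13)]), (1, []), (29, [(11, 11), (17, 17)]), (113, [(2, 16), (3, 3)]),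
  (31, [(5, 25), (7, 7)]), (1, []), (0, [(3, 4), (67, 1)]), (59, [(2, 4), (23, 23)]),
  (0, [(61, 1), (89, 1)]), (1, []), (0, [(5431, 1), (2, 0)]), (97, [(2, 8), (7, 7)]),
  (0, [(3, 1), (1811, 1)]), (1, []), (0, [(5, 1), (1087, 1)]), (151, [(2, 4), (3, 9)]),
  (0, [(5437, 1), (2, 0)]), (1, []), (37, [(3, 3), (7, 49)]), (17, [(2, 64), (5, 5)]),
  (0, [(5441, 1), (2, 0)]), (1, []), (0, [(5443, 1), (2, 0)]), (0, [(2, 2), (1361, 1)]),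
  (5, [(3, 9), (11, 121)]), (1, []), (0, [(13, 1), (419, 1)]), (227, [(2, 8), (3, 3)]),
  (0, [(5449, 1), (2, 0)]), (1, []), (79, [(3, 3), (23, 23)]), (47, [(2, 4), (29, 29)]),
  (41, [(7, 7), (19, 19)]), (1, []), (0, [(5, 1), (1091, 1)]), (31, [(2, 16), (11, 11)]),
  (107, [(3, 3), (17, 17)]), (1, []), (0, [(53, 1), (103, 1)]), (1, []),
  (0, [(43, 1), (127, 1)]), (1, []), (0, [(3, 2), (607, 1)]), (0, [(2, 3), (683, 1)]),
  (0, [(5, 1), (1093, 1)]), (1, []), (71, [(7, 7), (11, 11)]), (0, [(2, 2), (1367, 1)]),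
  (0, [(3, 1), (1823, 1)]), (1, []), (0, [(5471, 1), (2, 0)]), (19, [(2, 32), (3, 9)]),
  (0, [(13, 1), (421, 1)]), (1, []), (73, [(3, 3), (5, 25)]), (0, [(2, 2), (37, 2)]),
  (0, [(5477, 1), (2, 0)]), (1, []), (0, [(5479, 1), (2, 0)]), (137, [(2, 8), (5, 5)]),
  (29, [(3, 27), (7, 7)]), (1, []), (0, [(5483, 1), (2, 0)]), (457, [(2, 4), (3, 3)]),
  (0, [(5, 1), (1097, 1)]), (1, []), (59, [(3, 3), (31, 31)]), (0, [(2, 4), (7, 3)]),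
  (0, [(11, 1), (499, 1)]), (1, []), (0, [(17, 2), (19, 1)]), (0, [(2, 2), (1373, 1)]),
  (0, [(3, 1), (1831, 1)]), (1, []), (157, [(5, 5), (7, 7)]), (229, [(2, 8), (3, 3)]),
  (0, [(23, 1), (239, 1)]), (1, []), (47, [(3, 9), (13, 13)]), (11, [(2, 4), (5, 125)]),
  (0, [(5501, 1), (2, 0)]), (1, []), (0, [(5503, 1), (2, 0)]), (0, [(2, 7), (43, 1)]),
  (367, [(3, 3), (5, 5)]), (1, []), (0, [(5507, 1), (2, 0)]), (17, [(2, 4), (3, 81)]),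
  (0, [(7, 1), (787, 1)]), (1, []), (167, [(3, 3), (11, 11)]), (53, [(2, 8), (13, 13)]),
  (0, [(37, 1), (149, 1)]), (1, []), (0, [(5, 1), (1103, 1)]), (197, [(2, 4), (7, 7)]),
  (0, [(3, 2), (613, 1)]), (1, []), (0, [(5519, 1), (2, 0)]), (23, [(2, 16), (3, 3), (5, 5)]),
  (0, [(5521, 1), (2, 0)]), (1, []), (263, [(3, 3), (7, 7)]), (0, [(2, 2), (1381, 1)]),
  (17, [(5, 25), (13, 13)]), (1, []), (0, [(5527, 1), (2, 0)]), (0, [(2, 3), (691, 1)]),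
  (97, [(3, 3), (19, 19)]), (1, []), (0, [(5531, 1), (2, 0)]), (461, [(2, 4), (3, 3)]),
  (0, [(11, 1), (503, 1)]), (1, []), (41, [(3, 27), (5, 5)]), (0, [(2, 5), (173, 1)]),
  (0, [(7, 2), (113, 1)]), (1, []), (0, [(29, 1), (191, 1)]), (277, [(2, 4), (5, 5)]),
  (0, [(3, 1), (1847, 1)]), (1, []), (0, [(23, 1), (241, 1)]), (11, [(2, 8), (3, 9), (7, 7)]),
  (0, [(5, 1), (1109, 1)]), (1, []), (0, [(3, 1), (43, 2)]), (73, [(2, 4), (19, 19)]),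
  (0, [(31, 1), (179, 1)]), (1, []), (61, [(7, 7), (13, 13)]), (0, [(2, 4), (347, 1)]),
  (0, [(3, 2), (617, 1)]), (1, []), (101, [(5, 5), (11, 11)]), (463, [(2, 4), (3, 3)]),
  (0, [(5557, 1), (2, 0)]), (1, []), (109, [(3, 3), (17, 17)]), (139, [(2, 8), (5, 5)]),
  (0, [(67, 1), (83, 1)]), (1, []), (0, [(5563, 1), (2, 0)]), (107, [(2, 4), (13, 13)]),
  (53, [(3, 3), (5, 5), (7, 7)]), (1, []), (0, [(19, 1), (293, 1)]), (29, [(2, 64), (3, 3)]),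
  (0, [(5569, 1), (2, 0)]), (1, []), (0, [(3, 2), (619, 1)]), (199, [(2, 4), (7, 7)]),
  (0, [(5573, 1), (2, 0)]), (1, []), (0, [(5, 2), (223, 1)]), (41, [(2, 8), (17, 17)]),
  (11, [(3, 3), (13, 169)]), (1, []), (0, [(7, 1), (797, 1)]), (31, [(2, 4), (3, 9), (5, 5)]),
  (0, [(5581, 1), (2, 0)]), (1, []), (0, [(3, 1), (1861, 1)]), (0, [(2, 4), (349, 1)]),
  (0, [(5, 1), (1117, 1)]), (1, []), (0, [(37, 1), (151, 1)]), (127, [(2, 4), (11, 11)]),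
  (0, [(3, 5), (23, 1)]), (1, []), (0, [(5591, 1), (2, 0)]), (233, [(2, 8), (3, 3)]),
  (47, [(7, 7), (17, 17)]), (1, []), (373, [(3, 3), (5, 5)]), (0, [(2, 2), (1399, 1)]),
  (0, [(29, 1), (193, 1)]), (1, []), (0, [(11, 1), (509, 1)]), (7, [(2, 32), (5, 25)]),
  (0, [(3, 1), (1867, 1)]), (1, []), (0, [(13, 1), (431, 1)]), (467, [(2, 4), (3, 3)]),
  (59, [(5, 5), (19, 19)]), (1, []), (89, [(3, 9), (7, 7)]), (0, [(2, 3), (701, 1)]),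
  (0, [(71, 1), (79, 1)]), (1, []), (0, [(31, 1), (181, 1)]), (61, [(2, 4), (23, 23)]),
  (0, [(3, 1), (1871, 1)]), (1, []), (0, [(5, 1), (1123, 1)]), (1, []),
  (0, [(41, 1), (137, 1)]), (1, []), (0, [(3, 1), (1873, 1)]), (281, [(2, 4), (5, 5)]),
  (73, [(7, 7), (11, 11)]), (1, []), (0, [(5623, 1), (2, 0)]), (37, [(2, 8), (19, 19)]),
  (0, [(3, 2), (5, 4)]), (1, []), (0, [(17, 1), (331, 1)]), (67, [(2, 4), (3, 3), (7, 7)]),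
  (0, [(13, 1), (433, 1)]), (1, []), (0, [(3, 1), (1877, 1)]), (0, [(2, 9), (11, 1)]),
  (0, [(43, 1), (131, 1)]), (1, []), (23, [(5, 5), (7, 49)]), (0, [(2, 2), (1409, 1)]),
  (0, [(3, 1), (1879, 1)]), (1, []), (0, [(5639, 1), (2, 0)]), (47, [(2, 8), (3, 3), (5, 5)]),
  (0, [(5641, 1), (2, 0)]), (1, []), (19, [(3, 27), (11, 11)]), (83, [(2, 4), (17, 17)]),
  (0, [(5, 1), (1129, 1)]), (1, []), (0, [(5647, 1), (2, 0)]), (0, [(2, 4), (353, 1)]),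
  (269, [(3, 3), (7, 7)]), (1, []), (0, [(5651, 1), (2, 0)]), (157, [(2, 4), (3, 9)]),
  (0, [(5653, 1), (2, 0)]), (1, []), (29, [(3, 3), (5, 5), (13, 13)]), (101, [(2, 8), (7, 7)]),
  (0, [(5657, 1), (2, 0)]), (1, []), (0, [(5659, 1), (2, 0)]), (283, [(2, 4), (5, 5)]),
  (37, [(3, 9), (17, 17)]), (1, []), (0, [(7, 1), (809, 1)]), (59, [(2, 32), (3, 3)]),
  (103, [(5, 5), (11, 11)]), (1, []), (0, [(3, 1), (1889, 1)]), (109, [(2, 4), (13, 13)]),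
  (0, [(5669, 1), (2, 0)]), (1, []), (0, [(53, 1), (107, 1)]), (0, [(2, 3), (709, 1)]),
  (61, [(3, 3), (31, 31)]), (1, []), (0, [(5, 2), (227, 1)]), (43, [(2, 4), (3, 3), (11, 11)]),
  (0, [(7, 1), (811, 1)]), (1, []), (0, [(3, 2), (631, 1)]), (71, [(2, 16), (5, 5)]),
  (23, [(13, 13), (19, 19)]), (1, []), (0, [(5683, 1), (2, 0)]), (29, [(2, 4), (7, 49)]),
  (379, [(3, 3), (5, 5)]), (1, []), (0, [(11, 2), (47, 1)]), (79, [(2, 8), (3, 9)]),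
  (0, [(5689, 1), (2, 0)]), (1, []), (271, [(3, 3), (7, 7)]), (0, [(2, 2), (1423, 1)]),
  (0, [(5693, 1), (2, 0)]), (1, []), (67, [(5, 5), (17, 17)]), (0, [(2, 6), (89, 1)]),
  (0, [(3, 3), (211, 1)]), (1, []), (0, [(41, 1), (139, 1)])]

theorem h6 : goC 79 exc 5400 c6 = true := by decide +kernel

theorem l6 : c6.length = 300 := by decide +kernel

/-- certificates for 5700 to 5999 -/
def c7 : List (ℕ × List (ℕ × ℕ)) :=
  [(19, [(2, 4), (3, 3), (5, 25)]), (0, [(5701, 1), (2, 0)]), (1, []), (0, [(3, 1), (1901, 1)]),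
  (31, [(2, 8), (23, 23)]), (163, [(5, 5), (7, 7)]), (1, []), (0, [(13, 1), (439, 1)]),
  (0, [(2, 2), (1427, 1)]), (173, [(3, 3), (11, 11)]), (1, []), (0, [(5711, 1), (2, 0)]),
  (17, [(2, 16), (3, 3), (7, 7)]), (0, [(29, 1), (197, 1)]), (1, []), (127, [(3, 9), (5, 5)]),
  (0, [(2, 2), (1429, 1)]), (0, [(5717, 1), (2, 0)]), (1, []), (43, [(7, 7), (19, 19)]),
  (13, [(2, 8), (5, 5), (11, 11)]), (0, [(3, 1), (1907, 1)]), (1, []), (0, [(59, 1), (97, 1)]),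
  (53, [(2, 4), (3, 27)]), (0, [(5, 2), (229, 1)]), (1, []), (83, [(3, 3), (23, 23)]),
  (0, [(2, 5), (179, 1)]), (0, [(17, 1), (337, 1)]), (1, []), (0, [(11, 1), (521, 1)]),
  (0, [(2, 2), (1433, 1)]), (13, [(3, 9), (7, 49)]), (1, []), (37, [(5, 5), (31, 31)]),
  (239, [(2, 8), (3, 3)]), (0, [(5737, 1), (2, 0)]), (1, []), (0, [(3, 1), (1913, 1)]),
  (41, [(2, 4), (5, 5), (7, 7)]), (0, [(5741, 1), (2, 0)]), (1, []), (0, [(5743, 1), (2, 0)]),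
  (0, [(2, 4), (359, 1)]), (383, [(3, 3), (5, 5)]), (1, []), (0, [(7, 1), (821, 1)]),
  (479, [(2, 4), (3, 3)]), (0, [(5749, 1), (2, 0)]), (1, []), (0, [(3, 4), (71, 1)]),
  (0, [(2, 3), (719, 1)]), (0, [(11, 1), (523, 1)]), (1, []), (0, [(5, 1), (1151, 1)]),
  (0, [(2, 2), (1439, 1)]), (101, [(3, 3), (19, 19)]), (1, []), (0, [(13, 1), (443, 1)]),
  (5, [(2, 128), (3, 9)]), (0, [(7, 1), (823, 1)]), (1, []), (113, [(3, 3), (17, 17)]),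
  (131, [(2, 4), (11, 11)]), (0, [(5, 1), (1153, 1)]), (1, []), (0, [(73, 1), (79, 1)]),
  (103, [(2, 8), (7, 7)]), (0, [(3, 2), (641, 1)]), (1, []), (0, [(29, 1), (199, 1)]),
  (37, [(2, 4), (3, 3), (13, 13)]), (0, [(23, 1), (251, 1)]), (1, []),
  (11, [(3, 3), (5, 25), (7, 7)]), (0, [(2, 4), (19, 2)]), (0, [(53, 1), (109, 1)]), (1, []),
  (0, [(5779, 1), (2, 0)]), (5, [(2, 4), (17, 289)]), (47, [(3, 3), (41, 41)]), (1, []),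
  (0, [(5783, 1), (2, 0)]), (241, [(2, 8), (3, 3)]), (89, [(5, 5), (13, 13)]), (1, []),
  (0, [(3, 2), (643, 1)]), (0, [(2, 2), (1447, 1)]), (0, [(7, 1), (827, 1)]), (1, []),
  (0, [(5791, 1), (2, 0)]), (0, [(2, 5), (181, 1)]), (0, [(3, 1), (1931, 1)]), (1, []),
  (61, [(5, 5), (19, 19)]), (23, [(2, 4), (3, 9), (7, 7)]), (31, [(11, 11), (17, 17)]),
  (1, []), (0, [(3, 1), (1933, 1)]), (29, [(2, 8), (5, 25)]), (0, [(5801, 1), (2, 0)]),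
  (1, []), (0, [(7, 1), (829, 1)]), (0, [(2, 2), (1451, 1)]), (43, [(3, 27), (5, 5)]), (1, []),
  (0, [(5807, 1), (2, 0)]), (3, [(2, 16), (11, 121)]), (0, [(37, 1), (157, 1)]), (1, []),
  (149, [(3, 3), (13, 13)]), (0, [(2, 2), (1453, 1)]), (0, [(5813, 1), (2, 0)]), (1, []),
  (0, [(5, 1), (1163, 1)]), (0, [(2, 3), (727, 1)]), (277, [(3, 3), (7, 7)]), (1, []),
  (0, [(11, 1), (23, 2)]), (97, [(2, 4), (3, 3), (5, 5)]), (0, [(5821, 1), (2, 0)]), (1, []),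
  (0, [(3, 2), (647, 1)]), (13, [(2, 64), (7, 7)]), (0, [(5, 2), (233, 1)]), (1, []),
  (0, [(5827, 1), (2, 0)]), (47, [(2, 4), (31, 31)]), (67, [(3, 3), (29, 29)]), (1, []),
  (0, [(7, 3), (17, 1)]), (0, [(2, 3), (3, 6)]), (0, [(19, 1), (307, 1)]), (1, []),
  (389, [(3, 3), (5, 5)]), (0, [(2, 2), (1459, 1)]), (0, [(13, 1), (449, 1)]), (1, []),
  (0, [(5839, 1), (2, 0)]), (73, [(2, 16), (5, 5)]), (59, [(3, 9), (11, 11)]), (1, []),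
  (0, [(5843, 1), (2, 0)]), (487, [(2, 4), (3, 3)]), (167, [(5, 5), (7, 7)]), (1, []),
  (0, [(3, 1), (1949, 1)]), (43, [(2, 8), (17, 17)]), (0, [(5849, 1), (2, 0)]), (1, []),
  (0, [(5851, 1), (2, 0)]), (19, [(2, 4), (7, 7), (11, 11)]), (0, [(3, 1), (1951, 1)]),
  (1, []), (0, [(5, 1), (1171, 1)]), (61, [(2, 32), (3, 3)]), (0, [(5857, 1), (2, 0)]),
  (1, []), (31, [(3, 27), (7, 7)]), (293, [(2, 4), (5, 5)]), (0, [(5861, 1), (2, 0)]), (1, []),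
  (41, [(11, 11), (13, 13)]), (0, [(2, 3), (733, 1)]), (23, [(3, 3), (5, 5), (17, 17)]),
  (1, []), (0, [(5867, 1), (2, 0)]), (163, [(2, 4), (3, 9)]), (0, [(5869, 1), (2, 0)]),
  (1, []), (103, [(3, 3), (19, 19)]), (0, [(2, 4), (367, 1)]), (0, [(7, 1), (839, 1)]),
  (1, []), (0, [(5, 3), (47, 1)]), (113, [(2, 4), (13, 13)]), (0, [(3, 2), (653, 1)]), (1, []),
  (0, [(5879, 1), (2, 0)]), (5, [(2, 8), (3, 3), (7, 49)]), (0, [(5881, 1), (2, 0)]), (1, []),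
  (53, [(3, 3), (37, 37)]), (0, [(2, 2), (1471, 1)]), (107, [(5, 5), (11, 11)]), (1, []),
  (0, [(7, 1), (29, 2)]), (0, [(2, 8), (23, 1)]), (151, [(3, 3), (13, 13)]), (1, []),
  (0, [(43, 1), (137, 1)]), (491, [(2, 4), (3, 3)]), (0, [(71, 1), (83, 1)]), (1, []),
  (131, [(3, 9), (5, 5)]), (67, [(2, 8), (11, 11)]), (0, [(5897, 1), (2, 0)]), (1, []),
  (0, [(17, 1), (347, 1)]), (59, [(2, 4), (5, 25)]), (281, [(3, 3), (7, 7)]), (1, []),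
  (0, [(5903, 1), (2, 0)]), (41, [(2, 16), (3, 9)]), (0, [(5, 1), (1181, 1)]), (1, []),
  (179, [(3, 3), (11, 11)]), (211, [(2, 4), (7, 7)]), (0, [(19, 1), (311, 1)]), (1, []),
  (0, [(23, 1), (257, 1)]), (0, [(2, 3), (739, 1)]), (0, [(3, 4), (73, 1)]), (1, []),
  (7, [(5, 5), (13, 169)]), (29, [(2, 4), (3, 3), (17, 17)]), (0, [(61, 1), (97, 1)]), (1, []),
  (0, [(3, 1), (1973, 1)]), (37, [(2, 32), (5, 5)]), (0, [(31, 1), (191, 1)]), (1, []),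
  (0, [(5923, 1), (2, 0)]), (0, [(2, 2), (1481, 1)]), (79, [(3, 3), (5, 25)]), (1, []),
  (0, [(5927, 1), (2, 0)]), (19, [(2, 8), (3, 3), (13, 13)]), (0, [(7, 2), (11, 2)]), (1, []),
  (0, [(3, 2), (659, 1)]), (0, [(2, 2), (1483, 1)]), (0, [(17, 1), (349, 1)]), (1, []),
  (0, [(5, 1), (1187, 1)]), (53, [(2, 16), (7, 7)]), (0, [(3, 1), (1979, 1)]), (1, []),
  (0, [(5939, 1), (2, 0)]), (11, [(2, 4), (3, 27), (5, 5)]), (0, [(13, 1), (457, 1)]), (1, []),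
  (283, [(3, 3), (7, 7)]), (0, [(2, 3), (743, 1)]), (41, [(5, 5), (29, 29)]), (1, []),
  (0, [(19, 1), (313, 1)]), (0, [(2, 2), (1487, 1)]), (0, [(3, 2), (661, 1)]), (1, []),
  (0, [(11, 1), (541, 1)]), (31, [(2, 64), (3, 3)]), (0, [(5953, 1), (2, 0)]), (1, []),
  (397, [(3, 3), (5, 5)]), (0, [(2, 2), (1489, 1)]), (37, [(7, 7), (23, 23)]), (1, []),
  (0, [(59, 1), (101, 1)]), (149, [(2, 8), (5, 5)]), (0, [(3, 1), (1987, 1)]), (1, []),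
  (0, [(67, 1), (89, 1)]), (71, [(2, 4), (3, 3), (7, 7)]), (0, [(5, 1), (1193, 1)]), (1, []),
  (17, [(3, 27), (13, 13)]), (0, [(2, 4), (373, 1)]), (0, [(47, 1), (127, 1)]), (1, []),
  (0, [(7, 1), (853, 1)]), (0, [(2, 2), (1493, 1)]), (181, [(3, 3), (11, 11)]), (1, []),
  (0, [(5, 2), (239, 1)]), (83, [(2, 8), (3, 9)]), (0, [(43, 1), (139, 1)]), (1, []),
  (0, [(3, 1), (1993, 1)]), (23, [(2, 4), (5, 5), (13, 13)]), (0, [(5981, 1), (2, 0)]),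
  (1, []), (0, [(31, 1), (193, 1)]), (17, [(2, 32), (11, 11)]), (19, [(3, 9), (5, 5), (7, 7)]),
  (1, []), (0, [(5987, 1), (2, 0)]), (499, [(2, 4), (3, 3)]), (0, [(53, 1), (113, 1)]),
  (1, []), (0, [(3, 1), (1997, 1)]), (107, [(2, 8), (7, 7)]), (0, [(13, 1), (461, 1)]),
  (1, []), (109, [(5, 5), (11, 11)]), (0, [(2, 2), (1499, 1)]), (0, [(3, 1), (1999, 1)]),
  (1, []), (0, [(7, 1), (857, 1)])]

theorem h7 : goC 79 exc 5700 c7 = true := by decide +kernel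

theorem l7 : c7.length = 300 := by decide +kernel

/-- certificates for 6000 to 6232 -/
def c8 : List (ℕ × List (ℕ × ℕ)) :=
  [(3, [(2, 16), (5, 125)]), (0, [(17, 1), (353, 1)]), (1, []), (29, [(3, 9), (23, 23)]),
  (79, [(2, 4), (19, 19)]), (0, [(5, 1), (1201, 1)]), (1, []), (0, [(6007, 1), (2, 0)]),
  (0, [(2, 3), (751, 1)]), (0, [(3, 1), (2003, 1)]), (1, []), (0, [(6011, 1), (2, 0)]),
  (167, [(2, 4), (3, 9)]), (0, [(7, 1), (859, 1)]), (1, []), (401, [(3, 3), (5, 5)]),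
  (0, [(2, 7), (47, 1)]), (0, [(11, 1), (547, 1)]), (1, []), (0, [(13, 1), (463, 1)]),
  (43, [(2, 4), (5, 5), (7, 7)]), (0, [(3, 3), (223, 1)]), (1, []), (0, [(19, 1), (317, 1)]),
  (251, [(2, 8), (3, 3)]), (0, [(5, 2), (241, 1)]), (1, []), (41, [(3, 3), (7, 49)]),
  (137, [(2, 4), (11, 11)]), (0, [(6029, 1), (2, 0)]), (1, []), (0, [(37, 1), (163, 1)]),
  (29, [(2, 16), (13, 13)]), (0, [(3, 1), (2011, 1)]), (1, []), (71, [(5, 5), (17, 17)]),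
  (503, [(2, 4), (3, 3)]), (0, [(6037, 1), (2, 0)]), (1, []), (61, [(3, 9), (11, 11)]),
  (151, [(2, 8), (5, 5)]), (0, [(7, 1), (863, 1)]), (1, []), (0, [(6043, 1), (2, 0)]),
  (0, [(2, 2), (1511, 1)]), (31, [(3, 3), (5, 5), (13, 13)]), (1, []),
  (0, [(6047, 1), (2, 0)]), (1, []), (0, [(23, 1), (263, 1)]), (1, []),
  (0, [(3, 1), (2017, 1)]), (89, [(2, 4), (17, 17)]), (0, [(6053, 1), (2, 0)]), (1, []),
  (173, [(5, 5), (7, 7)]), (0, [(2, 3), (757, 1)]), (0, [(3, 2), (673, 1)]), (1, []),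
  (0, [(73, 1), (83, 1)]), (101, [(2, 4), (3, 3), (5, 5)]), (29, [(11, 11), (19, 19)]),
  (1, []), (47, [(3, 3), (43, 43)]), (0, [(2, 4), (379, 1)]), (0, [(5, 1), (1213, 1)]),
  (1, []), (0, [(6067, 1), (2, 0)]), (41, [(2, 4), (37, 37)]), (7, [(3, 3), (17, 289)]),
  (1, []), (0, [(13, 1), (467, 1)]), (1, []), (0, [(6073, 1), (2, 0)]), (1, []),
  (0, [(3, 5), (5, 2)]), (31, [(2, 4), (7, 49)]), (0, [(59, 1), (103, 1)]), (1, []),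
  (0, [(6079, 1), (2, 0)]), (19, [(2, 64), (5, 5)]), (0, [(3, 1), (2027, 1)]), (1, []),
  (79, [(7, 7), (11, 11)]), (1, []), (0, [(5, 1), (1217, 1)]), (1, []),
  (0, [(3, 1), (2029, 1)]), (0, [(2, 3), (761, 1)]), (0, [(6089, 1), (2, 0)]), (1, []),
  (0, [(6091, 1), (2, 0)]), (0, [(2, 2), (1523, 1)]), (0, [(3, 2), (677, 1)]), (1, []),
  (53, [(5, 5), (23, 23)]), (127, [(2, 16), (3, 3)]), (67, [(7, 7), (13, 13)]), (1, []),
  (107, [(3, 3), (19, 19)]), (61, [(2, 4), (5, 25)]), (0, [(6101, 1), (2, 0)]), (1, []),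
  (0, [(17, 1), (359, 1)]), (109, [(2, 8), (7, 7)]), (37, [(3, 3), (5, 5), (11, 11)]), (1, []),
  (0, [(31, 1), (197, 1)]), (509, [(2, 4), (3, 3)]), (0, [(41, 1), (149, 1)]), (1, []),
  (97, [(3, 9), (7, 7)]), (0, [(2, 5), (191, 1)]), (0, [(6113, 1), (2, 0)]), (1, []),
  (0, [(5, 1), (1223, 1)]), (139, [(2, 4), (11, 11)]), (0, [(3, 1), (2039, 1)]), (1, []),
  (0, [(29, 1), (211, 1)]), (17, [(2, 8), (3, 9), (5, 5)]), (0, [(6121, 1), (2, 0)]), (1, []),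
  (157, [(3, 3), (13, 13)]), (0, [(2, 2), (1531, 1)]), (0, [(5, 3), (7, 2)]), (1, []),
  (0, [(11, 1), (557, 1)]), (0, [(2, 4), (383, 1)]), (0, [(3, 3), (227, 1)]), (1, []),
  (0, [(6131, 1), (2, 0)]), (73, [(2, 4), (3, 3), (7, 7)]), (0, [(6133, 1), (2, 0)]), (1, []),
  (409, [(3, 3), (5, 5)]), (59, [(2, 8), (13, 13)]), (0, [(17, 1), (19, 2)]), (1, []),
  (0, [(7, 1), (877, 1)]), (307, [(2, 4), (5, 5)]), (89, [(3, 3), (23, 23)]), (1, []),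
  (0, [(6143, 1), (2, 0)]), (0, [(2, 11), (3, 1)]), (0, [(5, 1), (1229, 1)]), (1, []),
  (0, [(3, 2), (683, 1)]), (53, [(2, 4), (29, 29)]), (43, [(11, 11), (13, 13)]), (1, []),
  (0, [(6151, 1), (2, 0)]), (0, [(2, 3), (769, 1)]), (293, [(3, 3), (7, 7)]), (1, []),
  (0, [(5, 1), (1231, 1)]), (19, [(2, 4), (3, 81)]), (0, [(47, 1), (131, 1)]), (1, []),
  (0, [(3, 1), (2053, 1)]), (11, [(2, 16), (5, 5), (7, 7)]), (0, [(61, 1), (101, 1)]), (1, []),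
  (0, [(6163, 1), (2, 0)]), (67, [(2, 4), (23, 23)]), (137, [(3, 9), (5, 5)]), (1, []),
  (0, [(7, 1), (881, 1)]), (257, [(2, 8), (3, 3)]), (0, [(31, 1), (199, 1)]), (1, []),
  (17, [(3, 3), (11, 121)]), (0, [(2, 2), (1543, 1)]), (0, [(6173, 1), (2, 0)]), (1, []),
  (19, [(5, 25), (13, 13)]), (0, [(2, 5), (193, 1)]), (71, [(3, 3), (29, 29)]), (1, []),
  (0, [(37, 1), (167, 1)]), (103, [(2, 4), (3, 3), (5, 5)]), (0, [(7, 1), (883, 1)]), (1, []),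
  (0, [(3, 3), (229, 1)]), (0, [(2, 3), (773, 1)]), (0, [(5, 1), (1237, 1)]), (1, []),
  (0, [(23, 1), (269, 1)]), (17, [(2, 4), (7, 7), (13, 13)]), (0, [(3, 1), (2063, 1)]),
  (1, []), (0, [(41, 1), (151, 1)]), (43, [(2, 16), (3, 9)]), (0, [(11, 1), (563, 1)]),
  (1, []), (59, [(3, 3), (5, 5), (7, 7)]), (0, [(2, 2), (1549, 1)]), (0, [(6197, 1), (2, 0)]),
  (1, []), (0, [(6199, 1), (2, 0)]), (31, [(2, 8), (5, 25)]), (53, [(3, 9), (13, 13)]),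
  (1, []), (0, [(6203, 1), (2, 0)]), (47, [(2, 4), (3, 3), (11, 11)]),
  (73, [(5, 5), (17, 17)]), (1, []), (0, [(3, 1), (2069, 1)]), (0, [(2, 6), (97, 1)]),
  (0, [(7, 1), (887, 1)]), (1, []), (0, [(6211, 1), (2, 0)]), (0, [(2, 2), (1553, 1)]),
  (109, [(3, 3), (19, 19)]), (1, []), (113, [(5, 5), (11, 11)]),
  (37, [(2, 8), (3, 3), (7, 7)]), (0, [(6217, 1), (2, 0)]), (1, []), (0, [(3, 2), (691, 1)]),
  (311, [(2, 4), (5, 5)]), (0, [(6221, 1), (2, 0)]), (1, []), (0, [(7, 2), (127, 1)]),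
  (0, [(2, 4), (389, 1)]), (83, [(3, 3), (5, 25)]), (1, []), (0, [(13, 1), (479, 1)]),
  (173, [(2, 4), (3, 9)]), (0, [(6229, 1), (2, 0)]), (1, []), (67, [(3, 3), (31, 31)]),
  (41, [(2, 8), (19, 19)])]

theorem h8 : goC 79 exc 6000 c8 = true := by decide +kernel

theorem l8 : c8.length = 233 := by decide +kernel

end H21.NE.Cert6232
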