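import Cfsg.Agent.Lib.H21.CountElts

set_option autoImplicit false

/-! Sylow subgroups of subgroups; commuting elements of different prime orders. -/

namespace H21.SylowSub

open Subgroup MulAction H21.SimpleBasic H21.SylowTools H21.CountPrime H21.PrimeAct H21.PrimeCent
  H21.PrimeStruct H21.CountElts

variable {G : Type*} [Group G] [Finite G]

theorem card_sylow_subgroup {p : ℕ} [hp : Fact p.Prime] (P : Sylow p G) (C : Subgroup G)
    (h : (P : Subgroup G) ≤ C) : Nat.card (Sylow p C) *
      Nat.card ((normalizer ((P : Subgroup G) : Set G) ⊓ C : Subgroup G)) = Nat.card C := by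
  have h1 := card_normalizer_mul_card_sylow (P.subtype h)
  have h2 : normalizer (((P.subtype h : Sylow p C) : Subgroup C) : Set C) =
      (normalizer ((P : Subgroup G) : Set G)).subgroupOf C := by
    rw [Sylow.coe_subtype, Subgroup.subgroupOf_normalizer_eq h]
  rw [h2] at h1
  have h3 : Nat.card ((normalizer ((P : Subgroup G) : Set G)).subgroupOf C) =
      Nat.card ((normalizer ((P : Subgroup G) : Set G) ⊓ C : Subgroup G)) := by
    rw [← Subgroup.inf_subgroupOf_right]
    exact Nat.card_congr (Subgroup.subgroupOfEquivOfLe inf_le_right).toEquiv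
  rw [h3, mul_comm] at h1
  exact h1

/-- if `q ∣ |C(P)|`, then some Sylow `q`-subgroup (of prime order) `Q` satisfies
`Q ≤ C(P)` and `P ≤ C(Q)`. -/
theorem exists_commuting {q : ℕ} [hq : Fact q.Prime]
    (hQ : ∀ Q : Sylow q G, Nat.card (Q : Subgroup G) = q) (P : Subgroup G)
    (h : q ∣ Nat.card (centralizer (P : Set G))) :
    ∃ Q : Sylow q G, (Q : Subgroup G) ≤ centralizer (P : Set G) ∧
      P ≤ centralizer ((Q : Subgroup G) : Set G) := by
  obtain ⟨⟨y, hyC⟩, hy⟩ := exists_prime_orderOf_dvd_card' q h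
  rw [Subgroup.orderOf_mk] at hy
  have h1 : IsPGroup q (Subgroup.zpowers y) :=
    IsPGroup.of_card (n := 1) (by rw [Nat.card_zpowers, hy, pow_one])
  obtain ⟨Q, hQy⟩ := h1.exists_le_sylow
  have h2 : Subgroup.zpowers y = (Q : Subgroup G) :=
    Subgroup.eq_of_le_of_card_ge hQy (by rw [Nat.card_zpowers, hy, hQ Q])
  have h3 : (Q : Subgroup G) ≤ centralizer (P : Set G) := by
    rw [← h2, Subgroup.zpowers_le]; exact hyC
  exact ⟨Q, h3, Subgroup.le_centralizer_iff.1 h3⟩

/-- with all `|C(P)| = c` and all `|C(Q)| = d`: `q ∣ c → p ∣ d`. -/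
theorem dvd_of_dvd {p q : ℕ} [hp : Fact p.Prime] [hq : Fact q.Prime]
    (hP : ∀ P : Sylow p G, Nat.card (P : Subgroup G) = p)
    (hQ : ∀ Q : Sylow q G, Nat.card (Q : Subgroup G) = q) {c d : ℕ}
    (hc : ∀ P : Sylow p G, Nat.card (centralizer ((P : Subgroup G) : Set G)) = c)
    (hd : ∀ Q : Sylow q G, Nat.card (centralizer ((Q : Subgroup G) : Set G)) = d)
    (h : q ∣ c) : p ∣ d := by
  obtain ⟨P⟩ := (inferInstance : Nonempty (Sylow p G))
  obtain ⟨Q, hQ1, hQ2⟩ := exists_commuting hQ (P : Subgroup G) (by rw [hc P]; exact h)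
  rw [← hd Q, ← hP P]
  exact Subgroup.card_dvd_of_le hQ2

/-- the centralizer orders of Sylow `p`-subgroups are all equal -/
theorem card_centralizer_eq {p : ℕ} [hp : Fact p.Prime] (P Q : Sylow p G) :
    Nat.card (centralizer ((P : Subgroup G) : Set G)) =
      Nat.card (centralizer ((Q : Subgroup G) : Set G)) := by
  obtain ⟨g, hg⟩ := MulAction.exists_smul_eq G P Q
  rw [← hg]
  have h1 : centralizer (((g • P : Sylow p G) : Subgroup G) : Set G) =
      (centralizer ((P : Subgroup G) : Set G)).map (MulAut.conj g).toMonoidHom := by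
    ext x
    rw [Subgroup.mem_map, Subgroup.mem_centralizer_iff]
    constructor
    · intro hx
      refine ⟨g⁻¹ * x * g, ?_, by change g * (g⁻¹ * x * g) * g⁻¹ = x; group⟩
      rw [Subgroup.mem_centralizer_iff]
      intro y hy
      have h2 : g * y * g⁻¹ ∈ (((g • P : Sylow p G) : Subgroup G) : Set G) :=
        ⟨y, hy, by simp⟩
      have h3 := hx _ h2
      calc y * (g⁻¹ * x * g) = g⁻¹ * ((g * y * g⁻¹) * x) * g := by group
        _ = g⁻¹ * (x * (g * y * g⁻¹)) * g := by rw [h3]
        _ = g⁻¹ * x * g * y := by group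
    · rintro ⟨z, hz, rfl⟩ y ⟨w, hw, rfl⟩
      have h2 := Subgroup.mem_centralizer_iff.1 hz w hw
      change (g * w * g⁻¹) * (g * z * g⁻¹) = (g * z * g⁻¹) * (g * w * g⁻¹)
      calc (g * w * g⁻¹) * (g * z * g⁻¹) = g * (w * z) * g⁻¹ := by group
        _ = g * (z * w) * g⁻¹ := by rw [h2]
        _ = _ := by group
  rw [h1]
  exact Nat.card_congr ((centralizer ((P : Subgroup G) : Set G)).equivMapOfInjective _
    (MulAut.conj g).injective).toEquiv

end H21.SylowSub
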