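import Cfsg.Agent.Lib.H21.NE10
import Cfsg.Agent.Lib.H21.SylowSub
import Cfsg.Agent.Lib.H21.CountPrime
import Cfsg.Agent.Lib.H5.IndexTwo

/-!
There is no simple group of order 5400.
-/

set_option autoImplicit false
set_option linter.unusedSectionVars false

namespace H21.NE.O5400

open Cfsg Subgroup H21.SylowTools H21.HallTools
open scoped Pointwise

universe u

/-- groups of order `2 * 25 * 3` and `2 * 25 * 9` have a normal Sylow `5`-subgroup -/
theorem sylow_five_one {M : Type u} [Group M] [Finite M] {v : ℕ} (hv : v = 3 ∨ v = 9)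
    (hM : Nat.card M = 25 * (2 * v)) [Fact (Nat.Prime 5)] : Nat.card (Sylow 5 M) = 1 := by
  have hv1 : v % 2 = 1 := by rcases hv with h | h <;> rw [h]
  have : Fact (Nat.Prime 2) := ⟨Nat.prime_two⟩
  obtain ⟨x, hx⟩ := exists_prime_orderOf_dvd_card' (G := M) 2 (by rw [hM]; omega)
  obtain ⟨K, hK, hKi, -⟩ := H5.IndexTwo.exists_index_two_of_not_conj (⊥ : Subgroup M) (25 * v)
    (by rw [Nat.odd_iff]; omega) (by rw [Subgroup.index_bot, hM]; ring) x hx (by
      intro g hg
      rw [Subgroup.mem_bot, mul_inv_eq_one] at hg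
      have h1 : x = 1 := by
        have : g * x = g * 1 := by rw [hg, mul_one]
        exact mul_left_cancel this
      rw [h1, orderOf_one] at hx
      exact absurd hx (by norm_num))
  have hKc : Nat.card K = 25 * v := by
    have := K.card_mul_index
    rw [hKi, hM] at this
    omega
  have h1 : Nat.card (Sylow 5 K) ∣ v := card_sylow_dvd_of_card (a := 2) (by rw [hKc]; norm_num)
  have h2 : Nat.card (Sylow 5 K) % 5 = 1 := by
    have := card_sylow_modEq_one 5 K
    rw [Nat.ModEq] at this
    simpa using this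
  have h3 : Nat.card (Sylow 5 K) = 1 := by
    have h4 : Nat.card (Sylow 5 K) ≤ 9 := by
      have := Nat.le_of_dvd (by omega) h1
      omega
    rcases hv with h | h <;> rw [h] at h1 <;> interval_cases (Nat.card (Sylow 5 K)) <;> omega
  obtain ⟨P⟩ : Nonempty (Sylow 5 M) := inferInstance
  have h4 : (P : Subgroup M) ≤ K := sylow_le_of_not_dvd_index P K (by rw [hKi]; norm_num)
  have h5 := sylow_normal_of_normal_le P K h4 h3
  have h6 : Subsingleton (Sylow 5 M) := (Sylow.unique_of_normal P h5).instSubsingleton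
  exact Nat.card_eq_one_iff_unique.2 ⟨h6, ⟨P⟩⟩

variable {G : Type u} [Group G] [Finite G] [IsSimpleGroup G] [hf5 : Fact (Nat.Prime 5)]

theorem card_sylow (h : Nat.card G = 5400) (P : Sylow 5 G) : Nat.card (P : Subgroup G) = 25 := by
  have := card_sylow_eq_pow (p := 5) (a := 2) (m := 216) (by rw [h]; norm_num) (by norm_num) P
  rw [this]; norm_num

theorem comm_sylow (h : Nat.card G = 5400) (P : Sylow 5 G) {x y : G} (hx : x ∈ (P : Subgroup G))
    (hy : y ∈ (P : Subgroup G)) : x * y = y * x := by
  have h1 : IsMulCommutative (P : Subgroup G) :=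
    IsPGroup.isMulCommutative_of_card_eq_prime_sq (p := 5) (by rw [card_sylow h P]; norm_num)
  have := h1.is_comm.comm ⟨x, hx⟩ ⟨y, hy⟩
  exact congrArg Subtype.val this

theorem le_cent (h : Nat.card G = 5400) (P : Sylow 5 G) {x : G} (hx : x ∈ (P : Subgroup G)) :
    (P : Subgroup G) ≤ centralizer ({x} : Set G) := by
  intro y hy
  rw [Subgroup.mem_centralizer_singleton_iff]
  exact comm_sylow h P hy hx

/-- centralisers of elements in two Sylow subgroups -/
theorem cent (h : Nat.card G = 5400) {P R : Sylow 5 G} (hPR : P ≠ R) {x : G} (hx1 : x ≠ 1)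
    (hxP : x ∈ (P : Subgroup G)) (hxR : x ∈ (R : Subgroup G)) :
    Nat.card (centralizer ({x} : Set G)) = 300 ∧
      Nat.card (Sylow 5 (centralizer ({x} : Set G))) = 6 := by
  have hG : ¬ IsMulCommutative G := not_comm_of_card_not_prime (by rw [h]; norm_num)
  set C := centralizer ({x} : Set G) with hC
  have hPC := le_cent h P hxP
  have hRC := le_cent h R hxR
  have hCt : C ≠ ⊤ := by
    intro hcon
    have h1 : x ∈ center G := by
      rw [Subgroup.mem_center_iff]
      intro g
      have : g ∈ C := by rw [hcon]; exact Subgroup.mem_top g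
      rw [hC, Subgroup.mem_centralizer_singleton_iff] at this
      exact this
    rcases (inferInstance : (center G).Normal).eq_bot_or_eq_top with h2 | h2
    · rw [h2, Subgroup.mem_bot] at h1
      exact hx1 h1
    · exact hG ⟨⟨fun a b => by
        have : b ∈ center G := by rw [h2]; exact Subgroup.mem_top b
        exact Subgroup.mem_center_iff.1 this a⟩⟩
  obtain ⟨w, hw⟩ : 25 ∣ Nat.card C := by
    rw [← card_sylow h P]; exact Subgroup.card_dvd_of_le hPC
  have hidx := C.card_mul_index
  rw [hw, h] at hidx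
  have hwk : w * C.index = 216 := by
    have : 25 * (w * C.index) = 25 * 216 := by rw [← mul_assoc, hidx]
    omega
  have hfac := H21.SylowInter.dvd_factorial_of_card hG C hCt (k := C.index) C.card_mul_index
  rw [h] at hfac
  have s1 : Nat.card (Sylow 5 C) ∣ w := card_sylow_dvd_of_card (a := 2) (by rw [hw]; norm_num)
  have s2 : Nat.card (Sylow 5 C) % 5 = 1 := by
    have := card_sylow_modEq_one 5 C
    rw [Nat.ModEq] at this
    simpa using this
  have s3 : Nat.card (Sylow 5 C) ≠ 1 := by
    intro hcon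
    have hs : Subsingleton (Sylow 5 C) := (Nat.card_eq_one_iff_unique.1 hcon).1
    exact hPR (Sylow.subtype_injective (Subsingleton.elim (P.subtype hPC) (R.subtype hRC)))
  have hk10 : 10 ≤ C.index := by
    by_contra hcon
    push Not at hcon
    have : (C.index).factorial ∣ (9).factorial := Nat.factorial_dvd_factorial (by omega)
    have h2 := hfac.trans this
    exact absurd h2 (by decide +kernel)
  have hw21 : w ≤ 21 := by
    by_contra hcon
    push Not at hcon
    have : 22 * 10 ≤ w * C.index := Nat.mul_le_mul hcon hk10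
    omega
  have hwd : w ∣ 216 := ⟨_, hwk.symm⟩
  have hnw : Nat.card (Sylow 5 C) ≤ w := Nat.le_of_dvd (by
    rcases Nat.eq_zero_or_pos w with h0 | h0
    · rw [h0] at hwk; omega
    · exact h0) s1
  have key : Nat.card (Sylow 5 C) = 6 ∧ (w = 6 ∨ w = 12 ∨ w = 18) := by
    set n := Nat.card (Sylow 5 C)
    have hn21 : n ≤ 21 := hnw.trans hw21
    clear_value n
    clear hidx hwk hfac hk10 hw
    have hall : ∀ w ∈ Finset.range 22, ∀ n ∈ Finset.range 22, w ∣ 216 → n ∣ w → n % 5 = 1 →
        n ≠ 1 → n = 6 ∧ (w = 6 ∨ w = 12 ∨ w = 18) := by decide +kernel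
    exact hall w (Finset.mem_range.2 (by omega)) n (Finset.mem_range.2 (by omega)) hwd s1 s2 s3
  obtain ⟨k1, k2⟩ := key
  refine ⟨?_, k1⟩
  rcases k2 with k2 | k2 | k2
  · exfalso
    have := sylow_five_one (M := C) (v := 3) (Or.inl rfl) (by rw [hw, k2])
    omega
  · rw [hw, k2]
  · exfalso
    have := sylow_five_one (M := C) (v := 9) (Or.inr rfl) (by rw [hw, k2])
    omega

/-- the Sylow subgroups containing `x` -/
theorem card_fix (h : Nat.card G = 5400) (P : Sylow 5 G) {x : G} (hxP : x ∈ (P : Subgroup G)) :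
    Nat.card {R : Sylow 5 G // x ∈ (R : Subgroup G)} =
      Nat.card (Sylow 5 (centralizer ({x} : Set G))) := by
  refine Nat.card_congr (Equiv.ofBijective (fun R => R.1.subtype (le_cent h R.1 R.2)) ⟨?_, ?_⟩)
  · intro R S hRS
    exact Subtype.ext (Sylow.subtype_injective hRS)
  · intro S
    obtain ⟨c, hc⟩ := MulAction.exists_smul_eq (centralizer ({x} : Set G))
      (P.subtype (le_cent h P hxP)) S
    rw [Sylow.smul_subtype] at hc
    refine ⟨⟨c • P, ?_⟩, hc⟩
    have h1 : ((c : G) * x * (c : G)⁻¹) = x := by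
      have := Subgroup.mem_centralizer_singleton_iff.1 c.2
      rw [this, mul_inv_cancel_right]
    change x ∈ ((c : G) • P : Sylow 5 G)
    have h3 := Subgroup.smul_mem_pointwise_smul x (MulAut.conj (c : G)) _ hxP
    rw [MulAut.smul_def, MulAut.conj_apply, h1] at h3
    exact h3

theorem n_five (h : Nat.card G = 5400) : Nat.card (Sylow 5 G) = 36 := by
  have hG : ¬ IsMulCommutative G := not_comm_of_card_not_prime (by rw [h]; norm_num)
  have hdvd : 5 ∣ Nat.card G := by rw [h]; norm_num
  obtain ⟨P⟩ : Nonempty (Sylow 5 G) := inferInstance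
  have s1 : Nat.card (Sylow 5 G) ∣ 216 := card_sylow_dvd_of_card (a := 2) (by rw [h]; norm_num)
  have s2 : Nat.card (Sylow 5 G) % 5 = 1 := by
    have := card_sylow_modEq_one 5 G
    rw [Nat.ModEq] at this
    simpa using this
  have s3 := card_sylow_ne_one hG hdvd
  have s4 := card_normalizer_mul_card_sylow P
  have hfac := H21.SylowInter.dvd_factorial_of_card hG _ (normalizer_sylow_ne_top hG hdvd P) s4
  rw [h] at hfac
  have h6 : Nat.card (Sylow 5 G) ≠ 6 := by
    intro h0
    rw [h0] at hfac
    exact absurd hfac (by decide +kernel)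
  have h216 : Nat.card (Sylow 5 G) ≠ 216 := by
    intro h0
    rw [h0, h] at s4
    have h1 : Nat.card (normalizer ((P : Subgroup G) : Set G)) = 25 := by omega
    have h2 : (P : Subgroup G) = normalizer ((P : Subgroup G) : Set G) :=
      Subgroup.eq_of_le_of_card_ge Subgroup.le_normalizer (by rw [h1, card_sylow h P])
    apply burnside_not_le hG hdvd P
    rw [← h2]
    intro y hy
    rw [Subgroup.mem_centralizer_iff]
    intro z hz
    exact comm_sylow h P hz hy
  have hle : Nat.card (Sylow 5 G) ≤ 216 := Nat.le_of_dvd (by norm_num) s1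
  generalize Nat.card (Sylow 5 G) = n at *
  have hall : ∀ n ∈ Finset.range 217, n ∣ 216 → n % 5 = 1 → n ≠ 1 → n ≠ 6 → n ≠ 216 → n = 36 := by
    decide +kernel
  exact hall n (Finset.mem_range.2 (by omega)) s1 s2 s3 h6 h216

open Classical in
/-- the elements of `P` in other Sylow subgroups -/
noncomputable def TT (P : Sylow 5 G) [Fintype (P : Subgroup G)] : Finset (P : Subgroup G) :=
  Finset.univ.filter (fun x => x ≠ 1 ∧ ∃ R : Sylow 5 G, R ≠ P ∧ (x : G) ∈ (R : Subgroup G))

open Classical in
theorem mem_TT {P : Sylow 5 G} [Fintype (P : Subgroup G)] {x : (P : Subgroup G)} :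
    x ∈ TT P ↔ x ≠ 1 ∧ ∃ R : Sylow 5 G, R ≠ P ∧ (x : G) ∈ (R : Subgroup G) := by
  rw [TT, Finset.mem_filter]
  simp

theorem sm_iff {P R : Sylow 5 G} (x : (P : Subgroup G)) : x • R = R ↔ (x : G) ∈ (R : Subgroup G) := by
  have h1 : x • R = (x : G) • R := rfl
  rw [h1, Sylow.smul_eq_iff_mem_normalizer]
  constructor
  · intro h2
    obtain ⟨k, hk⟩ := (IsPGroup.iff_orderOf.1 P.2) x
    exact H21.CountPrime.mem_of_orderOf_of_mem_normalizer R (by
      rw [Subgroup.orderOf_coe]; exact hk) h2
  · intro h2
    exact Subgroup.le_normalizer h2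

theorem card_fixedBy (h : Nat.card G = 5400) (P : Sylow 5 G) [Fintype (P : Subgroup G)]
    [DecidableEq (P : Subgroup G)] (x : (P : Subgroup G)) :
    Nat.card (MulAction.fixedBy (Sylow 5 G) x) =
      (if x = 1 then 35 else 0) + (1 + (if x ∈ TT P then 5 else 0)) := by
  by_cases hx : x = 1
  · subst hx
    rw [if_pos rfl, if_neg (fun h1 => (mem_TT.1 h1).1 rfl)]
    have h1 : MulAction.fixedBy (Sylow 5 G) (1 : (P : Subgroup G)) = Set.univ := by
      ext R
      simp
    rw [h1, Nat.card_univ, n_five h]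
  · rw [if_neg hx]
    have h1 : Nat.card (MulAction.fixedBy (Sylow 5 G) x) =
        Nat.card {R : Sylow 5 G // (x : G) ∈ (R : Subgroup G)} := by
      refine Nat.card_congr (Equiv.subtypeEquivRight fun R => ?_)
      rw [MulAction.mem_fixedBy]
      exact sm_iff x
    rw [h1]
    by_cases hT : x ∈ TT P
    · rw [if_pos hT, card_fix h P x.2]
      obtain ⟨-, R, hR, hxR⟩ := mem_TT.1 hT
      rw [(cent h hR.symm (fun h2 => hx (Subtype.ext h2)) x.2 hxR).2]
    · rw [if_neg hT]
      have h2 : Subsingleton {R : Sylow 5 G // (x : G) ∈ (R : Subgroup G)} := by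
        refine ⟨fun R S => ?_⟩
        have h3 : ∀ R : {R : Sylow 5 G // (x : G) ∈ (R : Subgroup G)}, R.1 = P := by
          intro R
          by_contra hne
          exact hT (mem_TT.2 ⟨hx, R.1, hne, R.2⟩)
        exact Subtype.ext ((h3 R).trans (h3 S).symm)
      have h4 : Nat.card {R : Sylow 5 G // (x : G) ∈ (R : Subgroup G)} = 1 :=
        Nat.card_eq_one_iff_unique.2 ⟨h2, ⟨⟨P, x.2⟩⟩⟩
      rw [h4]

theorem burnside_count (h : Nat.card G = 5400) (P : Sylow 5 G) [Fintype (P : Subgroup G)] :
    25 ∣ 60 + 5 * (TT P).card := by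
  classical
  let _ : Fintype (Sylow 5 G) := Fintype.ofFinite _
  have h1 := MulAction.sum_card_fixedBy_eq_card_orbits_mul_card_group (P : Subgroup G) (Sylow 5 G)
  rw [← Nat.card_eq_fintype_card (α := (P : Subgroup G)), card_sylow h P] at h1
  have h2 : ∑ x : (P : Subgroup G), Fintype.card (MulAction.fixedBy (Sylow 5 G) x) =
      60 + 5 * (TT P).card := by
    rw [Finset.sum_congr rfl (fun x _ => by
      rw [← Nat.card_eq_fintype_card, card_fixedBy h P x])]
    rw [Finset.sum_add_distrib, Finset.sum_add_distrib, Finset.sum_ite_eq', Finset.sum_const,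
      Finset.card_univ, ← Nat.card_eq_fintype_card (α := (P : Subgroup G)), card_sylow h P,
      Finset.sum_ite_mem]
    simp
    ring
  rw [← h2, h1]
  exact dvd_mul_left _ _

theorem sub_one_dvd {H : Type*} [Group H] [Finite H] {p : ℕ} [hp : Fact p.Prime] (s : Finset H)
    (h1 : ∀ x ∈ s, orderOf x = p) (h2 : ∀ x ∈ s, ∀ k : ℕ, ¬ p ∣ k → x ^ k ∈ s) :
    (p - 1) ∣ s.card := by
  classical
  rw [Finset.card_eq_sum_card_image (fun x => zpowers x) s]
  refine Finset.dvd_sum fun D hD => ?_
  obtain ⟨x, hx, rfl⟩ := Finset.mem_image.1 hD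
  have h3 : s.filter (fun y => zpowers y = zpowers x) =
      (Finset.range (p - 1)).image (fun k => x ^ (k + 1)) := by
    ext y
    rw [Finset.mem_filter, Finset.mem_image]
    constructor
    · rintro ⟨hy, hyx⟩
      have h4 : y ∈ zpowers x := by rw [← hyx]; exact mem_zpowers y
      rw [← mem_powers_iff_mem_zpowers, Submonoid.mem_powers_iff] at h4
      obtain ⟨k, rfl⟩ := h4
      have h5 : x ^ (k % p) = x ^ k := by
        rw [← h1 x hx, pow_mod_orderOf]
      have h6 : k % p ≠ 0 := by
        intro h0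
        rw [h0, pow_zero] at h5
        have := h1 _ hy
        rw [← h5, orderOf_one] at this
        exact hp.out.one_lt.ne this
      have h7 := Nat.mod_lt k hp.out.pos
      refine ⟨k % p - 1, Finset.mem_range.2 (by omega), ?_⟩
      rw [Nat.sub_add_cancel (by omega), h5]
    · rintro ⟨k, hk, rfl⟩
      rw [Finset.mem_range] at hk
      have h4 : ¬ p ∣ k + 1 := Nat.not_dvd_of_pos_of_lt (by omega) (by omega)
      refine ⟨h2 x hx _ h4, ?_⟩
      apply Subgroup.eq_of_le_of_card_ge
      · rw [Subgroup.zpowers_le]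
        exact pow_mem (mem_zpowers x) _
      · rw [Nat.card_zpowers, Nat.card_zpowers, h1 x hx, h1 _ (h2 x hx _ h4)]
  rw [h3, Finset.card_image_of_injOn, Finset.card_range]
  intro a ha b hb hab
  rw [Finset.coe_range, Set.mem_Iio] at ha hb
  have h4 := (pow_inj_mod (x := x) (n := a + 1) (m := b + 1)).1 hab
  rw [h1 x hx, Nat.mod_eq_of_lt (by omega), Nat.mod_eq_of_lt (by omega)] at h4
  omega

theorem four_dvd_TT (h : Nat.card G = 5400) (P : Sylow 5 G) [Fintype (P : Subgroup G)] :
    4 ∣ (TT P).card := by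
  refine sub_one_dvd (p := 5) (TT P) ?_ ?_
  · intro x hx
    obtain ⟨hx1, R, hR, hxR⟩ := mem_TT.1 hx
    have h1 : orderOf x ∣ 5 ^ 2 := by
      have := orderOf_dvd_natCard x
      rw [card_sylow h P] at this
      exact this.trans (by norm_num)
    obtain ⟨k, hk, hk2⟩ := (Nat.dvd_prime_pow (by norm_num)).1 h1
    have hk' : k = 0 ∨ k = 1 ∨ k = 2 := by omega
    rcases hk' with h3 | h3 | h3
    · rw [h3, pow_zero, orderOf_eq_one_iff] at hk2
      exact absurd hk2 hx1
    · rw [hk2, h3, pow_one]
    · exfalso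
      rw [h3] at hk2
      apply hR
      apply Sylow.ext
      have h4 : Nat.card (zpowers (x : G)) = 25 := by
        rw [Nat.card_zpowers, Subgroup.orderOf_coe, hk2]; norm_num
      have h5 : zpowers (x : G) = (P : Subgroup G) :=
        Subgroup.eq_of_le_of_card_ge (by rw [Subgroup.zpowers_le]; exact x.2)
          (by rw [h4, card_sylow h P])
      have h6 : zpowers (x : G) = (R : Subgroup G) :=
        Subgroup.eq_of_le_of_card_ge (by rw [Subgroup.zpowers_le]; exact hxR)
          (by rw [h4, card_sylow h R])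
      rw [← h6, h5]
  · intro x hx k hk
    obtain ⟨hx1, R, hR, hxR⟩ := mem_TT.1 hx
    refine mem_TT.2 ⟨?_, R, hR, ?_⟩
    · intro h0
      have h1 := orderOf_dvd_of_pow_eq_one h0
      have h2 : orderOf x ∣ 5 ^ 2 := by
        have := orderOf_dvd_natCard x
        rw [card_sylow h P] at this
        exact this.trans (by norm_num)
      have h3 : Nat.Coprime (orderOf x) k := by
        apply Nat.Coprime.coprime_dvd_left h2
        exact Nat.Coprime.pow_left 2 ((Nat.Prime.coprime_iff_not_dvd (by norm_num)).2 hk)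
      have h4 : orderOf x = 1 := Nat.Coprime.eq_one_of_dvd h3 h1
      exact hx1 (orderOf_eq_one_iff.1 h4)
    · rw [Subgroup.coe_pow]
      exact pow_mem hxR k

theorem card_norm_cent (h : Nat.card G = 5400) (P : Sylow 5 G) {x : G} (hx1 : x ≠ 1)
    (hxP : x ∈ (P : Subgroup G)) {R : Sylow 5 G} (hR : R ≠ P) (hxR : x ∈ (R : Subgroup G)) :
    Nat.card ((normalizer ((P : Subgroup G) : Set G) ⊓ centralizer ({x} : Set G) : Subgroup G)) =
      50 := by
  have h1 := H21.SylowSub.card_sylow_subgroup P (centralizer ({x} : Set G)) (le_cent h P hxP)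
  obtain ⟨h2, h3⟩ := cent h hR.symm hx1 hxP hxR
  rw [h2, h3] at h1
  omega

theorem three_dvd_TT (h : Nat.card G = 5400) (P : Sylow 5 G) [Fintype (P : Subgroup G)] :
    3 ∣ (TT P).card := by
  classical
  set H := normalizer ((P : Subgroup G) : Set G) with hH
  have hHc : Nat.card H = 150 := by
    have h0 := card_normalizer_mul_card_sylow P
    rw [n_five h, h] at h0
    change Nat.card H * 36 = 5400 at h0
    omega
  let A := {x : (P : Subgroup G) // x ∈ TT P}
  have key : ∀ (n : H) (x : A), (n : G) * ((x : (P : Subgroup G)) : G) * (n : G)⁻¹ ∈ (P : Subgroup G) :=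
    fun n x => (Subgroup.mem_normalizer_iff.1 n.2 _).1 x.1.2
  have key2 : ∀ (n : H) (x : A), (⟨_, key n x⟩ : (P : Subgroup G)) ∈ TT P := by
    intro n x
    obtain ⟨hx1, R, hR, hxR⟩ := mem_TT.1 x.2
    refine mem_TT.2 ⟨?_, (n : G) • R, ?_, ?_⟩
    · intro h0
      apply hx1
      have h1 := congrArg Subtype.val h0
      simp only [Subgroup.coe_one] at h1
      rw [mul_inv_eq_one] at h1
      have h2 : (n : G) * ((x : (P : Subgroup G)) : G) = (n : G) * 1 := by rw [h1, mul_one]
      exact Subtype.ext (mul_left_cancel h2)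
    · intro h0
      apply hR
      have h1 : (n : G) • P = P := Sylow.smul_eq_iff_mem_normalizer.2 n.2
      rw [← h1] at h0
      exact (MulAction.injective (n : G)) h0
    · have h3 := Subgroup.smul_mem_pointwise_smul ((x : (P : Subgroup G)) : G) (MulAut.conj (n : G)) _ hxR
      rw [MulAut.smul_def, MulAut.conj_apply] at h3
      exact h3
  let act : MulAction H A :=
    { smul := fun n x => ⟨⟨_, key n x⟩, key2 n x⟩
      one_smul := by
        intro x
        apply Subtype.ext
        apply Subtype.ext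
        change (1 : G) * _ * (1 : G)⁻¹ = _
        group
      mul_smul := by
        intro n m x
        apply Subtype.ext
        apply Subtype.ext
        change ((n : G) * (m : G)) * _ * ((n : G) * (m : G))⁻¹ = (n : G) * ((m : G) * _ * (m : G)⁻¹) * (n : G)⁻¹
        group }
  have hsm : ∀ (n : H) (x : A), (((n • x : A) : (P : Subgroup G)) : G) =
    (n : G) * ((x : (P : Subgroup G)) : G) * (n : G)⁻¹ := fun n x => rfl
  have hst : ∀ x : A, Nat.card (MulAction.stabilizer H x) = 50 := by
    intro x
    obtain ⟨hx1, R, hR, hxR⟩ := mem_TT.1 x.2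
    rw [← card_norm_cent h P (x := ((x : (P : Subgroup G)) : G))
      (fun h0 => hx1 (Subtype.ext h0)) x.1.2 hR hxR]
    rw [← Subgroup.card_map_of_injective (K := MulAction.stabilizer H x) (f := H.subtype)
      (Subgroup.subtype_injective H)]
    have : (MulAction.stabilizer H x).map H.subtype =
        H ⊓ centralizer ({((x : (P : Subgroup G)) : G)} : Set G) := by
      ext g
      rw [Subgroup.mem_map, Subgroup.mem_inf, Subgroup.mem_centralizer_singleton_iff]
      constructor
      · rintro ⟨n, hn, rfl⟩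
        refine ⟨n.2, ?_⟩
        have h1 := congrArg (fun y : A => ((y : (P : Subgroup G)) : G)) (MulAction.mem_stabilizer_iff.1 hn)
        simp only [hsm] at h1
        rw [mul_inv_eq_iff_eq_mul] at h1
        exact h1
      · rintro ⟨hg, hgx⟩
        refine ⟨⟨g, hg⟩, ?_, rfl⟩
        rw [MulAction.mem_stabilizer_iff]
        apply Subtype.ext
        apply Subtype.ext
        rw [hsm]
        rw [mul_inv_eq_iff_eq_mul]
        exact hgx
    rw [this]
  let _ : Fintype A := Fintype.ofFinite A
  let _ : Fintype H := Fintype.ofFinite H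
  have h1 : (TT P).card = Nat.card A := by
    rw [Nat.card_eq_fintype_card]
    exact (Fintype.card_coe (TT P)).symm.trans (by congr!)
  have h2 := Nat.card_congr (MulAction.selfEquivSigmaOrbits H A)
  rw [h1, h2, Nat.card_sigma]
  refine Finset.dvd_sum fun ω _ => ?_
  have h3 := Nat.card_congr (MulAction.orbitEquivQuotientStabilizer H ω.out)
  have h4 := (MulAction.stabilizer H ω.out).card_mul_index
  rw [hst, hHc] at h4
  rw [h3]
  change 3 ∣ (MulAction.stabilizer H ω.out).index
  exact ⟨1, by omega⟩

/-- there is no simple group of order 5400 -/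
theorem no (h : Nat.card G = 5400) : False := by
  obtain ⟨P⟩ : Nonempty (Sylow 5 G) := inferInstance
  let _ : Fintype (P : Subgroup G) := Fintype.ofFinite _
  have h1 := burnside_count h P
  have h2 := four_dvd_TT h P
  have h3 := three_dvd_TT h P
  have h4 : (TT P).card ≤ 25 := by
    rw [← card_sylow h P, Nat.card_eq_fintype_card]
    exact Finset.card_le_univ _
  omega

end H21.NE.O5400
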