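import Cfsg.Agent.Lib.H21.NE8

/-!
There are no simple groups of orders 4620 and 5460.
-/

set_option autoImplicit false
set_option linter.unusedSectionVars false

namespace H21.NE

open Cfsg H18.CharBasic H18.CharOrtho H18.CharInd H21.PLat H21.BK H21.BT

universe u

theorem no4620 {G : Type u} [Group G] [Finite G] [IsSimpleGroup G] (hN : Nat.card G = 4620) :
    False := by
  classical
  have f7 : Fact (Nat.Prime 7) := ⟨by norm_num⟩
  have f11 : Fact (Nat.Prime 11) := ⟨by norm_num⟩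
  let _ : Fintype G := Fintype.ofFinite G
  let _ : Fintype (Cfsg.IrrCharacter G) := Fintype.ofFinite _
  have hG := H21.NE.not_comm_of_card hN (by norm_num)
  obtain ⟨x0, a, Y, ε, e, n, c, h, hmem⟩ := H21.NE.main2 hG hN 7 68 [(2, 4), (3, 3), (5, 5), (11, 11)] (by
    intro x hx
    simp only [List.mem_cons, List.not_mem_nil, or_false] at hx
    rcases hx with rfl | rfl | rfl | rfl <;> norm_num) [(330, 2, [1, 0, 0, 0, 0])] (by decide +kernel)
  obtain ⟨x0', a', Y', ε', e', n', c', h', hmem'⟩ := H21.NE.main2 hG hN 11 68 [(2, 4), (3, 3), (5, 5), (7, 7)] (by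
    intro x hx
    simp only [List.mem_cons, List.not_mem_nil, or_false] at hx
    rcases hx with rfl | rfl | rfl | rfl <;> norm_num) [(210, 2, [0, 0, 1])] (by decide +kernel)
  rw [List.mem_singleton, Prod.mk.injEq, Prod.mk.injEq] at hmem hmem'
  obtain ⟨hv, he, hcnt⟩ := hmem
  obtain ⟨hv', he', hcnt'⟩ := hmem'
  subst he
  subst he'
  have hn : n = 47 := by omega
  have hn' : n' = 19 := by omega
  subst hn
  subst hn'
  have hc : c = 1 := by
    have h1 := h.hcard
    rw [hN] at h1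
    omega
  have hc' : c' = 1 := by
    have h1 := h'.hcard
    rw [hN] at h1
    omega
  subst hc
  subst hc'
  have hL : H21.NE.cands 4620 7 (1 + 47 * 7) 2 1 68 = [6, 15, 20, 22, 55] := by decide +kernel
  have hL' : H21.NE.cands 4620 11 (1 + 19 * 11) 2 1 68 = [10, 12, 21] := by decide +kernel
  rw [hL] at hcnt
  rw [hL'] at hcnt'
  simp only [List.map_cons, List.map_nil, List.cons.injEq, and_true] at hcnt hcnt'
  obtain ⟨c6, c15, c20, c22, c55⟩ := hcnt
  obtain ⟨c10', c12', c21'⟩ := hcnt'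
  obtain ⟨θ, hθ⟩ := h.exists_Y
  obtain ⟨θ', hθ'⟩ := h'.exists_Y
  obtain ⟨-, d2, -⟩ := H21.NE.degree_eq h (by norm_num) hG (B := 68) (by rw [hN]; norm_num) hθ
  obtain ⟨-, d2', -⟩ := H21.NE.degree_eq h' (by norm_num) hG (B := 68) (by rw [hN]; norm_num) hθ'
  rw [hN, hL] at d2
  rw [hN, hL'] at d2'
  simp only [List.map_cons, List.map_nil, List.sum_cons, List.sum_nil, c6, c15, c20, c22, c55,
    H21.NE.sg] at d2
  simp only [List.map_cons, List.map_nil, List.sum_cons, List.sum_nil, c10', c12', c21',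
    H21.NE.sg] at d2'
  norm_num at d2 d2'
  have e1 : Cfsg.charDegree (θ : G → ℂ) = 5 := by
    rcases h.hε with h1 | h1 <;> rw [h1] at d2 <;> omega
  have e2 : Cfsg.charDegree (θ' : G → ℂ) = 20 := by
    rcases h'.hε with h1 | h1 <;> rw [h1] at d2' <;> omega
  rcases mem_of_c_one h' rfl (χ := θ) (by rw [e1]; norm_num) with h1 | h1
  · rcases (deg_mod h' (by norm_num) h1).1 with h2 | h2 <;> rw [e1] at h2 <;> norm_num at h2
  · have := H21.BT.degree_Y h' h1 hθ'
    omega

theorem no5460 {G : Type u} [Group G] [Finite G] [IsSimpleGroup G] (hN : Nat.card G = 5460) :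
    False := by
  classical
  have f7 : Fact (Nat.Prime 7) := ⟨by norm_num⟩
  have f13 : Fact (Nat.Prime 13) := ⟨by norm_num⟩
  let _ : Fintype G := Fintype.ofFinite G
  let _ : Fintype (Cfsg.IrrCharacter G) := Fintype.ofFinite _
  have hG := H21.NE.not_comm_of_card hN (by norm_num)
  obtain ⟨x0, a, Y, ε, e, n, c, h, hmem⟩ := H21.NE.main2 hG hN 13 74 [(2, 4), (3, 3), (5, 5), (7, 7)] (by
    intro x hx
    simp only [List.mem_cons, List.not_mem_nil, or_false] at hx
    rcases hx with rfl | rfl | rfl | rfl <;> norm_num) [(105, 4, [3, 0])] (by decide +kernel)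
  obtain ⟨x0', a', Y', ε', e', n', c', h', hmem'⟩ := H21.NE.main2 hG hN 7 74 [(2, 4), (3, 3), (5, 5), (13, 13)] (by
    intro x hx
    simp only [List.mem_cons, List.not_mem_nil, or_false] at hx
    rcases hx with rfl | rfl | rfl | rfl <;> norm_num)
    [(260, 3, [0, 0, 0, 2]), (260, 3, [0, 0, 1, 1]), (260, 3, [0, 1, 1, 0]), (260, 3, [1, 0, 1, 0])]
    (by decide +kernel)
  rw [List.mem_singleton, Prod.mk.injEq, Prod.mk.injEq] at hmem
  obtain ⟨hv, he, hcnt⟩ := hmem
  have hve : 1 + n' * 7 = 260 ∧ e' = 3 ∧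
      ((cands 5460 7 (1 + n' * 7) e' c' 74).map (cnt (SS a')) = [0, 0, 0, 2] ∨
      (cands 5460 7 (1 + n' * 7) e' c' 74).map (cnt (SS a')) = [0, 0, 1, 1] ∨
      (cands 5460 7 (1 + n' * 7) e' c' 74).map (cnt (SS a')) = [0, 1, 1, 0] ∨
      (cands 5460 7 (1 + n' * 7) e' c' 74).map (cnt (SS a')) = [1, 0, 1, 0]) := by
    simp only [List.mem_cons, List.not_mem_nil, or_false, Prod.mk.injEq] at hmem'
    tauto
  obtain ⟨hv', he', hcnt'⟩ := hve
  subst he
  subst he'
  have hn : n = 8 := by omega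
  have hn' : n' = 37 := by omega
  subst hn
  subst hn'
  have hc : c = 1 := by
    have h1 := h.hcard
    rw [hN] at h1
    omega
  have hc' : c' = 1 := by
    have h1 := h'.hcard
    rw [hN] at h1
    omega
  subst hc
  subst hc'
  have hL : H21.NE.cands 5460 13 (1 + 8 * 13) 4 1 74 = [12, 14] := by decide +kernel
  have hL' : H21.NE.cands 5460 7 (1 + 37 * 7) 3 1 74 = [6, 13, 15, 20] := by decide +kernel
  rw [hL] at hcnt
  rw [hL'] at hcnt'
  simp only [List.map_cons, List.map_nil, List.cons.injEq, and_true] at hcnt hcnt'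
  obtain ⟨c12, c14⟩ := hcnt
  obtain ⟨χ, hχ, hχD⟩ := H21.NE.cnt_pos (S := SS a) (D := 12) (by omega)
  obtain ⟨θ', hθ'⟩ := h'.exists_Y
  obtain ⟨-, d2', -⟩ := H21.NE.degree_eq h' (by norm_num) hG (B := 74) (by rw [hN]; norm_num) hθ'
  rw [hN, hL'] at d2'
  simp only [List.map_cons, List.map_nil, List.sum_cons, List.sum_nil, H21.NE.sg] at d2'
  have e2 : Cfsg.charDegree (θ' : G → ℂ) ≠ 12 := by
    intro h0
    rw [h0] at d2'
    rcases hcnt' with ⟨h1, h2, h3, h4⟩ | ⟨h1, h2, h3, h4⟩ | ⟨h1, h2, h3, h4⟩ | ⟨h1, h2, h3, h4⟩ <;>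
    rw [h1, h2, h3, h4] at d2' <;> norm_num at d2' <;>
    rcases h'.hε with h5 | h5 <;> rw [h5] at d2' <;> norm_num at d2'
  rcases mem_of_c_one h' rfl (χ := χ) (by rw [hχD]; norm_num) with h1 | h1
  · rcases (deg_mod h' (by norm_num) h1).1 with h2 | h2 <;> rw [hχD] at h2 <;> norm_num at h2
  · have := H21.BT.degree_Y h' h1 hθ'
    omega

end H21.NE
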