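import Cfsg.Agent.Lib.H21.NE1

/-!
The intersection of the principal blocks for two primes, when the centralizer of an element of
order `p` is a `q'`-group.
-/

set_option autoImplicit false
set_option linter.unusedSectionVars false

namespace H21.NE

open Cfsg H18.CharBasic H18.CharOrtho H18.CharInd H21.PLat H21.BK H21.BT
open scoped commutatorElement

universe u

section bd

variable {G : Type u} [Group G] [Fintype G] [Fintype (IrrCharacter G)] {p : ℕ} [hp : Fact p.Prime]
  {x0 : G} {a : IrrCharacter G → ℤ} {Y : Finset (IrrCharacter G)} {ε : ℤ} {e n c : ℕ}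

theorem not_sq_dvd (h : BD G p x0 a Y ε e n c) : ¬ p ^ 2 ∣ Nat.card G := by
  intro hd
  apply h.hidx
  have h1 := (Subgroup.zpowers x0).card_mul_index
  rw [card_zp h.hx0] at h1
  rw [← h1, sq] at hd
  exact (Nat.mul_dvd_mul_iff_left hp.out.pos).1 hd

/-- some power of a `p`-singular element is conjugate to a power of `x0` -/
theorem exists_pow_conj (h : BD G p x0 a Y ε e n c) {g : G} (hg : p ∣ orderOf g) :
    ∃ (m : ℕ) (k : ZMod p) (t : G), k ≠ 0 ∧ orderOf g = p * m ∧ t * g ^ m * t⁻¹ = pw x0 k := by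
  have hp1 := hp.out.one_lt
  obtain ⟨m, hm⟩ := hg
  have hm0 : m ≠ 0 := by
    rintro rfl
    have := orderOf_pos g
    rw [hm, mul_zero] at this
    omega
  have hy : orderOf (g ^ m) = p := by
    rw [orderOf_pow_of_dvd hm0 ⟨p, by rw [hm, mul_comm]⟩, hm]
    exact Nat.mul_div_cancel _ (Nat.pos_of_ne_zero hm0)
  obtain ⟨t, ht⟩ := H67.Mod.conj_of_order (not_sq_dvd h) hy h.hx0
  obtain ⟨k, hk'⟩ := mem_zpowers_pw h.hx0 ht
  have hk := hk'.symm
  refine ⟨m, k, t, ?_, hm, hk⟩
  rintro rfl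
  rw [pw_zero] at hk
  have h1 : g ^ m = 1 := by
    rw [mul_inv_eq_one] at hk
    simpa using hk
  rw [h1, orderOf_one] at hy
  omega

theorem no_pq' (h : BD G p x0 a Y ε e n c) {q : ℕ} (hq : q.Prime) (hpq : p ≠ q) (hqc : ¬ q ∣ c)
    (g : G) : orderOf g ≠ p * q := by
  intro hg
  obtain ⟨m, k, t, hk, hm, hconj⟩ := exists_pow_conj h (g := g) (by rw [hg]; exact dvd_mul_right _ _)
  have hmq : m = q := by
    rw [hg] at hm
    exact (Nat.eq_of_mul_eq_mul_left hp.out.pos hm).symm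
  subst hmq
  have hcom : t * g * t⁻¹ ∈ CC x0 := by
    have h1 : (t * g * t⁻¹) * pw x0 k = pw x0 k * (t * g * t⁻¹) := by
      rw [← hconj]
      have h2 : g * g ^ m = g ^ m * g := by rw [← pow_succ, ← pow_succ']
      calc t * g * t⁻¹ * (t * g ^ m * t⁻¹) = t * (g * g ^ m) * t⁻¹ := by group
        _ = t * (g ^ m * g) * t⁻¹ := by rw [h2]
        _ = _ := by group
    have h3 : x0 ∈ Subgroup.zpowers (pw x0 k) := by
      rw [zpowers_pw h.hx0 hk]
      exact Subgroup.mem_zpowers _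
    obtain ⟨j, hj⟩ := Subgroup.mem_zpowers_iff.1 h3
    have h4 : (t * g * t⁻¹) * x0 = x0 * (t * g * t⁻¹) := by
      rw [← hj]
      exact ((show Commute (t * g * t⁻¹) (pw x0 k) from h1).zpow_right j).eq
    rw [CC, Subgroup.mem_centralizer_iff]
    intro y hy
    obtain ⟨i, rfl⟩ := Subgroup.mem_zpowers_iff.1 hy
    exact ((show Commute (t * g * t⁻¹) x0 from h4).zpow_right i).eq.symm
  have h5 : orderOf (t * g * t⁻¹) = p * m := by rw [H20.Orth.orderOf_conj]; exact hg
  have h6 : orderOf (t * g * t⁻¹) ∣ Nat.card (CC x0) := by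
    have := orderOf_dvd_natCard (⟨_, hcom⟩ : CC x0)
    rwa [← Subgroup.orderOf_coe] at this
  rw [h5, (CC_mul h.hx0 h.hidx).2, h.hc] at h6
  exact hqc (Nat.dvd_of_mul_dvd_mul_left hp.out.pos h6)

theorem sameBlock_Y' (h : BD G p x0 a Y ε e n c) {q : ℕ} {Mq : Ideal AlgInt}
    (hMq : IsPModular q Mq) {θ θ' : IrrCharacter G} (hθ : θ ∈ Y) (hθ' : θ' ∈ Y)
    (hdiv : ∃ m, e * (1 + n * p) = q * m * charDegree (θ : G → ℂ)) :
    SameBlock Mq (θ : G → ℂ) (θ' : G → ℂ) := by
  have hpr := H20.Loc.pm_isPrime hMq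
  have hD := degree_Y h hθ hθ'
  intro g
  by_cases hg : p ∣ orderOf g
  · obtain ⟨m', k, t, hk, hm', hconj⟩ := exists_pow_conj h hg
    obtain ⟨m, hm⟩ := hdiv
    have hpos := H82.Deg.charDegree_ne_zero θ
    -- the index of the centralizer
    have hidx1 : (Subgroup.centralizer ({g ^ m'} : Set G)).index = e * (1 + n * p) := by
      rw [← h.index_pw hk, ← hconj]
      have h1 : Nat.card (Subgroup.centralizer ({g ^ m'} : Set G)) =
          Nat.card (Subgroup.centralizer ({t * g ^ m' * t⁻¹} : Set G)) := by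
        have h2 := column_orthogonality (G := G) (g ^ m') (g ^ m')
        have h3 := column_orthogonality (G := G) (t * g ^ m' * t⁻¹) (t * g ^ m' * t⁻¹)
        rw [if_pos (IsConj.refl _)] at h2 h3
        have hval : ∀ ψ : IrrCharacter G, (ψ : G → ℂ) (t * g ^ m' * t⁻¹) = (ψ : G → ℂ) (g ^ m') :=
          fun ψ => isClassFunction_of_isIrr ψ.2 (g ^ m') t
        rw [Finset.sum_congr rfl (fun ψ _ => by rw [hval ψ]), h2] at h3
        exact_mod_cast h3
      have h4 := (Subgroup.centralizer ({g ^ m'} : Set G)).card_mul_index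
      rw [← (Subgroup.centralizer ({t * g ^ m' * t⁻¹} : Set G)).card_mul_index, h1] at h4
      exact Nat.eq_of_mul_eq_mul_left Nat.card_pos h4
    have hle : Subgroup.centralizer ({g} : Set G) ≤ Subgroup.centralizer ({g ^ m'} : Set G) := by
      intro y hy
      rw [Subgroup.mem_centralizer_singleton_iff] at hy ⊢
      have h1 : Commute y g := hy
      exact (h1.pow_right m').eq
    obtain ⟨j, hj⟩ := Subgroup.index_dvd_of_le hle
    rw [hidx1, hm] at hj
    have key : ∀ ψ : IrrCharacter G, charDegree (ψ : G → ℂ) = charDegree (θ : G → ℂ) →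
        centralChar (ψ : G → ℂ) g = (q : ℂ) * ((m * j : ℕ) * (ψ : G → ℂ) g) := by
      intro ψ hψ
      rw [centralChar, hj, ← H82.Deg.coe_charDegree' ψ, hψ]
      have : (charDegree (θ : G → ℂ) : ℂ) ≠ 0 := by exact_mod_cast hpos
      push_cast
      field_simp
    rw [key θ rfl, key θ' hD.symm, ← mul_sub]
    apply H20.Loc.locI_mul_right
    · have h1 := (H20.Loc.locI_coe_iff (M := Mq) (a := (q : AlgInt))).2 hMq.2.2
      simpa using h1
    · apply H20.Loc.isIntegral_mem
      exact ((isIntegral_algebraMap (x := ((m * j : ℕ) : ℤ))).mul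
          (char_isIntegral (isCharacter_of_isIrr θ.2) g)).sub
        ((isIntegral_algebraMap (x := ((m * j : ℕ) : ℤ))).mul
          (char_isIntegral (isCharacter_of_isIrr θ'.2) g))
  · have h1 : centralChar (θ : G → ℂ) g = centralChar (θ' : G → ℂ) g := by
      rw [centralChar, centralChar, value_Y h hθ hθ' hg, ← H82.Deg.coe_charDegree' θ,
        ← H82.Deg.coe_charDegree' θ', hD]
    rw [h1, sub_self]
    exact H20.Loc.locI_zero

/-- sum over the exceptional characters -/
theorem sum_Y' (h : BD G p x0 a Y ε e n c) :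
    ∑ θ ∈ Y, (charDegree (θ : G → ℂ) : ℂ) * (θ : G → ℂ) x0 =
      -∑ χ : IrrCharacter G, (a χ : ℂ) * charDegree (χ : G → ℂ) := by
  classical
  obtain ⟨M, hM, hB⟩ := h.hM
  have hpr := H20.Loc.pm_isPrime hM
  have hpp : p ∣ orderOf x0⁻¹ := by rw [orderOf_inv, h.hx0]
  have h1 := H20.Orth.weak_orth hM (H20.Blk.isUnion_of_isPBlock (isPBlock_principal hM))
    (x := (1 : G)) (by rw [orderOf_one]; exact hp.out.one_lt.ne' ∘ Nat.dvd_one.1) hpp
  have h2 : ∀ χ : IrrCharacter G, (if χ ∈ principalBlock M G then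
      (χ : G → ℂ) 1 * (starRingEnd ℂ) ((χ : G → ℂ) x0⁻¹) else 0) =
      (a χ : ℂ) * charDegree (χ : G → ℂ) +
        (if χ ∈ Y then (charDegree (χ : G → ℂ) : ℂ) * (χ : G → ℂ) x0 else 0) := by
    intro χ
    rw [char_inv (isCharacter_of_isIrr χ.2), Complex.conj_conj, ← H82.Deg.coe_charDegree']
    by_cases hY : χ ∈ Y
    · rw [if_pos hY, h.hYa χ hY, Int.cast_zero, zero_mul, zero_add, if_pos ((hB χ).1 (Or.inr hY))]
    · rw [if_neg hY, add_zero]
      by_cases ha : a χ = 0
      · rw [if_neg (fun h3 => ((hB χ).2 h3).elim (fun h4 => h4 ha) hY), ha, Int.cast_zero, zero_mul]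
      · have h3 := h.hval χ ha 1 one_ne_zero
        rw [pw_one h.hx0] at h3
        rw [if_pos ((hB χ).1 (Or.inl ha)), h3, mul_comm]
  rw [Finset.sum_congr rfl (fun χ _ => h2 χ), Finset.sum_add_distrib, Finset.sum_ite_mem,
    Finset.univ_inter] at h1
  linear_combination h1

open Classical in
/-- **Brauer-Tuan** -/
theorem two_primes' (h : BD G p x0 a Y ε e n c) {q : ℕ} [hq : Fact q.Prime]
    (hpq : p ≠ q) (hqc : ¬ q ∣ c) {Mq : Ideal AlgInt} (hMq : IsPModular q Mq)
    {θ : IrrCharacter G} (hθ : θ ∈ Y)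
    (hdiv : Y.card = 1 ∨ ∃ m, e * (1 + n * p) = q * m * charDegree (θ : G → ℂ)) :
    ∃ δ t : ℤ, (δ = 0 ∨ (δ = 1 ∧ θ ∈ principalBlock Mq G)) ∧
      ∑ χ : IrrCharacter G, (if χ ∈ principalBlock Mq G then
        a χ * (charDegree (χ : G → ℂ) : ℤ) else 0) - δ * (ε * charDegree (θ : G → ℂ)) =
        (q : ℤ) ^ (Nat.card G).factorization q * t := by
  have hprq := H20.Loc.pm_isPrime hMq
  obtain ⟨Mp, hMp, hB⟩ := h.hM
  have hsame : ∀ χ ∈ Y, SameBlock Mq (θ : G → ℂ) (χ : G → ℂ) := by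
    intro χ hχ
    rcases hdiv with h1 | h1
    · rw [Finset.card_eq_one] at h1
      obtain ⟨y, hy⟩ := h1
      rw [hy, Finset.mem_singleton] at hθ hχ
      rw [hθ, hχ]
      exact H20.Blk.sameBlock_refl _
    · exact sameBlock_Y' h hMq hθ hχ h1
  obtain ⟨ω, hω⟩ := Cfsg.Agent.S4731.result p q hpq Mp Mq hMp hMq (no_pq' h hq.out hpq hqc)
    _ rfl (principalBlock Mp G) (isPBlock_principal hMp) (principalBlock Mq G)
    (isPBlock_principal hMq) x0 (by rw [h.hx0])
  rw [H20.Orth.finsum_mem_eq_sum] at hω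
  -- all or none of the exceptional characters are in the `q`-block
  obtain ⟨δ, hδ, hδY⟩ : ∃ δ : ℤ, (δ = 0 ∨ (δ = 1 ∧ θ ∈ principalBlock Mq G)) ∧
      ∑ χ ∈ Y, (if χ ∈ principalBlock Mq G then (charDegree (χ : G → ℂ) : ℂ) * (χ : G → ℂ) x0
        else 0) = δ * -(ε * charDegree (θ : G → ℂ)) := by
    have hsum := sum_Y' h
    have h1 := h.degree_sum hθ
    have h2 : ∑ χ : IrrCharacter G, (a χ : ℂ) * charDegree (χ : G → ℂ) =
        ε * charDegree (θ : G → ℂ) := by
      exact_mod_cast h1.symm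
    rw [h2] at hsum
    by_cases hin : θ ∈ principalBlock Mq G
    · refine ⟨1, Or.inr ⟨rfl, hin⟩, ?_⟩
      rw [Int.cast_one, one_mul, ← hsum]
      refine Finset.sum_congr rfl fun χ hχ => ?_
      rw [if_pos]
      exact H20.Blk.sameBlock_trans hin (hsame χ hχ)
    · refine ⟨0, Or.inl rfl, ?_⟩
      rw [Int.cast_zero, zero_mul]
      refine Finset.sum_eq_zero fun χ hχ => ?_
      rw [if_neg]
      intro hχB
      exact hin (H20.Blk.sameBlock_trans hχB (H20.Blk.sameBlock_symm (hsame χ hχ)))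
  have hterm : ∀ χ : IrrCharacter G,
      (if χ ∈ principalBlock Mp G ∩ principalBlock Mq G then
        (charDegree (χ : G → ℂ) : ℂ) * (χ : G → ℂ) x0 else 0) =
      (if χ ∈ principalBlock Mq G then (a χ : ℂ) * (charDegree (χ : G → ℂ) : ℂ) else 0) +
      (if χ ∈ Y then (if χ ∈ principalBlock Mq G then
        (charDegree (χ : G → ℂ) : ℂ) * (χ : G → ℂ) x0 else 0) else 0) := by
    intro χ
    by_cases hq' : χ ∈ principalBlock Mq G
    · rw [if_pos hq', if_pos hq']
      by_cases hY : χ ∈ Y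
      · rw [if_pos ⟨(hB χ).1 (Or.inr hY), hq'⟩, if_pos hY, h.hYa χ hY, Int.cast_zero, zero_mul,
          zero_add]
      · rw [if_neg hY, add_zero]
        by_cases ha : a χ = 0
        · rw [if_neg, ha, Int.cast_zero, zero_mul]
          intro hmem
          rcases (hB χ).2 hmem.1 with h3 | h3
          · exact h3 ha
          · exact hY h3
        · rw [if_pos ⟨(hB χ).1 (Or.inl ha), hq'⟩]
          have h3 := h.hval χ ha 1 one_ne_zero
          rw [pw_one h.hx0] at h3
          rw [h3, mul_comm]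
    · rw [if_neg (fun h => hq' h.2), if_neg hq', if_neg hq', ite_self, add_zero]
  rw [Finset.sum_congr rfl (fun χ _ => hterm χ), Finset.sum_add_distrib, Finset.sum_ite_mem,
    Finset.univ_inter, hδY] at hω
  -- an algebraic integer which is rational
  set N : ℤ := ∑ χ : IrrCharacter G, (if χ ∈ principalBlock Mq G then
        a χ * (charDegree (χ : G → ℂ) : ℤ) else 0) - δ * (ε * charDegree (θ : G → ℂ)) with hN
  have hNω : (N : ℂ) = (q : ℂ) ^ (Nat.card G).factorization q * (ω : ℂ) := by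
    rw [← hω, hN]
    push_cast
    ring
  have hq0 : (q : ℂ) ^ (Nat.card G).factorization q ≠ 0 :=
    pow_ne_zero _ (by exact_mod_cast hq.out.ne_zero)
  have hrat : IsIntegral ℤ (((N : ℚ) / (q : ℚ) ^ (Nat.card G).factorization q : ℚ) : ℂ) := by
    have h1 : (((N : ℚ) / (q : ℚ) ^ (Nat.card G).factorization q : ℚ) : ℂ) = (ω : ℂ) := by
      push_cast
      rw [hNω, mul_div_cancel_left₀ _ hq0]
    rw [h1]
    exact ω.2
  obtain ⟨t, ht⟩ := H82.Deg.exists_int_of_isIntegral_rat hrat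
  refine ⟨δ, t, hδ, ?_⟩
  have hq0' : (q : ℚ) ^ (Nat.card G).factorization q ≠ 0 :=
    pow_ne_zero _ (by exact_mod_cast hq.out.ne_zero)
  rw [div_eq_iff hq0'] at ht
  have h3 : (N : ℚ) = (((q : ℤ) ^ (Nat.card G).factorization q * t : ℤ) : ℚ) := by
    rw [ht]; push_cast; ring
  exact_mod_cast h3

end bd

end H21.NE
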