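import Cfsg.Agent.Lib.H21.NE2

/-!
Numerical elimination with two primes.
-/

set_option autoImplicit false
set_option linter.unusedSectionVars false

namespace H21.NE

open Cfsg H18.CharBasic H18.CharOrtho H18.CharInd H21.PLat H21.BK H21.BT
open scoped commutatorElement

universe u

section lists

/-- degrees allowed for nontrivial characters in the principal block, `Q` the `q`-part -/
def allow (Q D : ℕ) : Bool := !(Q % D == 0) && !(D % Q == 0)

/-- values of partial sums -/
def subv (p Q : ℕ) : List ℕ → List ℕ → ℤ → List ℤ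
  | [], _, acc => [acc]
  | (_ :: _), [], acc => [acc]
  | (D :: L), (k :: v), acc => (List.range ((if allow Q D then k else 0) + 1)).flatMap
      (fun j : ℕ => subv p Q L v (acc + (j : ℤ) * (sg p D * D)))

theorem mem_subv (p Q : ℕ) (k f : ℕ → ℕ) : ∀ (L : List ℕ) (acc : ℤ),
    (∀ D ∈ L, f D ≤ if allow Q D then k D else 0) →
    acc + (L.map (fun D => (f D : ℤ) * (sg p D * D))).sum ∈ subv p Q L (L.map k) acc := by
  intro L
  induction L with
  | nil => intro acc _; simp [subv]
  | cons D L ih =>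
    intro acc hL
    rw [List.map_cons, subv, List.mem_flatMap]
    refine ⟨f D, List.mem_range.2 ?_, ?_⟩
    · have := hL D (List.mem_cons_self)
      omega
    · have h1 := ih (acc + (f D : ℤ) * (sg p D * D)) (fun D' hD' => hL D' (List.mem_cons_of_mem _ hD'))
      rw [List.map_cons, List.sum_cons, ← add_assoc]
      exact h1

/-- all vectors of given length and sum -/
def vecs : ℕ → ℕ → List (List ℕ)
  | 0, 0 => [[]]
  | 0, (_ + 1) => []
  | (l + 1), k => (List.range (k + 1)).flatMap (fun j => (vecs l (k - j)).map (j :: ·))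

theorem mem_vecs : ∀ (v : List ℕ), v ∈ vecs v.length v.sum := by
  intro v
  induction v with
  | nil => simp [vecs]
  | cons x v ih =>
    rw [List.length_cons, List.sum_cons, vecs, List.mem_flatMap]
    refine ⟨x, List.mem_range.2 (by omega), ?_⟩
    rw [List.mem_map]
    exact ⟨v, by rw [Nat.add_sub_cancel_left]; exact ih, rfl⟩

/-- the value of the exceptional degree -/
def tv (p : ℕ) : List ℕ → List ℕ → ℤ
  | (D :: L), (k :: v) => (k : ℤ) * (sg p D * D) + tv p L v
  | _, _ => 0

/-- the sum of the squares -/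
def sqv : List ℕ → List ℕ → ℕ
  | (D :: L), (k :: v) => k * (D * D) + sqv L v
  | _, _ => 0

theorem tv_map (p : ℕ) (k : ℕ → ℕ) (L : List ℕ) :
    tv p L (L.map k) = (L.map (fun D => (k D : ℤ) * (sg p D * D))).sum := by
  induction L with
  | nil => rfl
  | cons D L ih => rw [List.map_cons, tv, ih, List.map_cons, List.sum_cons]

theorem sqv_map (k : ℕ → ℕ) (L : List ℕ) :
    sqv L (L.map k) = (L.map (fun D => k D * (D * D))).sum := by
  induction L with
  | nil => rfl
  | cons D L ih => rw [List.map_cons, sqv, ih, List.map_cons, List.sum_cons]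

/-- the test for the prime `q`, `Q` the `q`-part of the order -/
def qtest (p v e c : ℕ) (L w : List ℕ) (t : ℤ) (x : ℕ × ℕ) : Bool :=
  (c % x.1 == 0) || !(((p - 1) / e == 1) || ((e * v) % (x.1 * t.natAbs) == 0)) ||
    ((subv p x.2 L w 1) ++ (if allow x.2 t.natAbs then subv p x.2 L w (1 - t) else [])).any
      (fun r => r % (x.2 : ℤ) == 0)

/-- the surviving vectors of multiplicities -/
def surv (N p B v e c : ℕ) (qs : List (ℕ × ℕ)) : List (List ℕ) :=
  (vecs (cands N p v e c B).length (e - 1)).filter (fun w =>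
    thOK N p v e c (1 + tv p (cands N p v e c B) w).natAbs &&
    decide (1 + sqv (cands N p v e c B) w + (p - 1) / e * ((1 + tv p (cands N p v e c B) w).natAbs *
      (1 + tv p (cands N p v e c B) w).natAbs) ≤ N) &&
    qs.all (qtest p v e c (cands N p v e c B) w (1 + tv p (cands N p v e c B) w)))

/-- the second entries are the full `q`-parts of `N` -/
def qsOK (N p : ℕ) (qs : List (ℕ × ℕ)) : Bool :=
  qs.all (fun x => !(x.1 == p) && !(x.2 == 1) && (x.2 == x.1 ^ Nat.log x.1 x.2) && (N % x.2 == 0) &&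
    !((N / x.2) % x.1 == 0))

/-- the check of an order with exceptions -/
def chk2 (N p B : ℕ) (qs : List (ℕ × ℕ)) (exc : List (ℕ × ℕ × List ℕ)) : Bool :=
  (N % p == 0) && !(N % (p * p) == 0) && decide (2 < p) && decide (N ≤ B * B) &&
  !(2 * N == p * (p ^ 2 - 1)) && !(N == (p - 1) * ((p - 1) ^ 2 - 1)) && qsOK N p qs &&
  (List.range (N / p + 1)).all (fun v => !((v % p == 1) && decide (1 < v) && ((N / p) % v == 0)) ||
    nfOK p ((v - 1) / p) ||
    (List.range p).all (fun e => !(decide (2 ≤ e) && ((p - 1) % e == 0) && ((N / p / v) % e == 0)) ||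
      (surv N p B v e (N / p / v / e) qs).all (fun w => exc.contains (v, e, w))))

end lists

section bd

variable {G : Type u} [Group G] [Fintype G] [Fintype (IrrCharacter G)] {p : ℕ} [hp : Fact p.Prime]
  {x0 : G} {a : IrrCharacter G → ℤ} {Y : Finset (IrrCharacter G)} {ε : ℤ} {e n c : ℕ}

theorem allow_of_mem [IsSimpleGroup G] (hG : ¬ IsMulCommutative G) {q : ℕ} [hq : Fact q.Prime]
    (hdvd : q ∣ Nat.card G) {M : Ideal AlgInt} (hM : IsPModular q M) {χ : IrrCharacter G}
    (hχt : χ ≠ triv G) (hχ : χ ∈ principalBlock M G) :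
    allow (q ^ (Nat.card G).factorization q) (charDegree (χ : G → ℂ)) = true := by
  have hpr := H20.Loc.pm_isPrime hM
  have hb : 1 ≤ (Nat.card G).factorization q :=
    (hq.out.dvd_iff_one_le_factorization Nat.card_pos.ne').1 hdvd
  simp only [allow, Bool.and_eq_true, Bool.not_eq_true', beq_eq_false_iff_ne]
  constructor
  · intro h1
    obtain ⟨j, -, hj⟩ := (Nat.dvd_prime_pow hq.out).1 (Nat.dvd_of_mod_eq_zero h1)
    exact notin_principal hG hM hdvd hχt hj hχ
  · intro h1
    have h2 := Nat.dvd_of_mod_eq_zero h1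
    have h3 : (charDegree (χ : G → ℂ)).factorization q = (Nat.card G).factorization q := by
      apply le_antisymm
      · exact (Nat.factorization_le_iff_dvd (H82.Deg.charDegree_ne_zero χ) Nat.card_pos.ne').2
          (H20.Defect.charDegree_dvd_card χ) q
      · exact (hq.out.pow_dvd_iff_le_factorization (H82.Deg.charDegree_ne_zero χ)).1 h2
    have h4 := H20.DefZero.blockOf_eq_singleton hM h3
    have h5 : blockOf M (χ : G → ℂ) = principalBlock M G :=
      (H20.Blk.blockOf_eq_of_sameBlock hχ).symm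
    have h6 : triv G ∈ principalBlock M G := triv_mem_principal hM
    rw [← h5, h4, Set.mem_singleton_iff] at h6
    exact hχt h6.symm

theorem cnt_mono {S T : Finset (IrrCharacter G)} (h : S ⊆ T) (D : ℕ) : cnt S D ≤ cnt T D := by
  classical
  exact Finset.card_le_card (Finset.filter_subset_filter _ h)

theorem cnt_pos {S : Finset (IrrCharacter G)} {D : ℕ} (h : cnt S D ≠ 0) :
    ∃ χ ∈ S, charDegree (χ : G → ℂ) = D := by
  classical
  rw [cnt, Finset.card_ne_zero] at h
  obtain ⟨χ, hχ⟩ := h
  exact ⟨χ, (Finset.mem_filter.1 hχ).1, (Finset.mem_filter.1 hχ).2⟩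

theorem surv_mem (h : BD G p x0 a Y ε e n c) (hp3 : 2 < p) [IsSimpleGroup G]
    (hG : ¬ IsMulCommutative G) {N : ℕ} (hN : Nat.card G = N) {B : ℕ} (hB : N ≤ B * B)
    {qs : List (ℕ × ℕ)} (hqp : ∀ x ∈ qs, x.1.Prime) (hqs : qsOK N p qs = true) :
    (cands N p (1 + n * p) e c B).map (cnt (SS a)) ∈ surv N p B (1 + n * p) e c qs := by
  classical
  subst hN
  set L := cands (Nat.card G) p (1 + n * p) e c B with hL
  obtain ⟨θ, hθ⟩ := h.exists_Y
  obtain ⟨h1, h2, h3⟩ := degree_eq h hp3 hG hB hθ
  rw [← hL] at h1 h2 h3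
  have htv : 1 + tv p L (L.map (cnt (SS a))) = ε * (charDegree (θ : G → ℂ) : ℤ) := by
    rw [tv_map, h2]
  have h6 : (ε * (charDegree (θ : G → ℂ) : ℤ)).natAbs = charDegree (θ : G → ℂ) := by
    rcases h.hε with h7 | h7
    · rw [h7, one_mul, Int.natAbs_natCast]
    · rw [h7, neg_one_mul, Int.natAbs_neg, Int.natAbs_natCast]
  have h7 := th_ok h hG hθ
  have h8 := sum_sq_le h
  obtain ⟨s, hs1, hs2, hs3⟩ := h.exists_s
  have h9 : (p - 1) / e = s := by
    rw [hs2, Nat.add_sub_cancel, Nat.mul_div_cancel_left _ h.e_pos]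
  have h10 : ∑ χ ∈ Y, charDegree (χ : G → ℂ) ^ 2 = s * (charDegree (θ : G → ℂ) * charDegree (θ : G → ℂ)) := by
    rw [Finset.sum_congr rfl (fun χ hχ => by rw [degree_Y h hχ hθ]), Finset.sum_const, hs3,
      smul_eq_mul, pow_two]
  rw [surv, List.mem_filter]
  constructor
  · have h11 := mem_vecs (L.map (cnt (SS a)))
    rw [List.length_map, h1] at h11
    exact h11
  · rw [← hL, htv, h6, h9]
    simp only [Bool.and_eq_true, decide_eq_true_eq]
    refine ⟨⟨h7, ?_⟩, ?_⟩
    · rw [sqv_map, ← h3, ← h10]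
      exact h8
    · rw [List.all_eq_true]
      rintro ⟨q, Q⟩ hx
      have hq : q.Prime := hqp _ hx
      have hqf : Fact q.Prime := ⟨hq⟩
      rw [qsOK, List.all_eq_true] at hqs
      have h11 := hqs _ hx
      simp only [Bool.and_eq_true, Bool.not_eq_true', beq_eq_false_iff_ne, beq_iff_eq] at h11
      obtain ⟨⟨⟨⟨h12, h13⟩, h14⟩, h15⟩, h16⟩ := h11
      have hQ : Q = q ^ (Nat.card G).factorization q := by
        have h17 : (Nat.card G) = q ^ Nat.log q Q * (Nat.card G / Q) := by
          rw [← h14]; exact (Nat.mul_div_cancel' (Nat.dvd_of_mod_eq_zero h15)).symm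
        have h18 : (Nat.card G).factorization q = Nat.log q Q := by
          have hne : Nat.card G / Q ≠ 0 := fun h0 => h16 (by rw [h0]; exact Nat.zero_mod q)
          rw [h17, Nat.factorization_mul (pow_ne_zero _ hq.ne_zero) hne, Finsupp.add_apply,
            hq.factorization_pow, Finsupp.single_eq_same,
            Nat.factorization_eq_zero_of_not_dvd (fun hd => h16 (Nat.mod_eq_zero_of_dvd hd)), add_zero]
        rw [h18]; exact h14
      have hdvd : q ∣ Nat.card G := by
        refine Dvd.dvd.trans ?_ (Nat.dvd_of_mod_eq_zero h15)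
        rw [h14]
        apply dvd_pow_self
        intro h0
        rw [h0, pow_zero] at h14
        exact h13 h14
      rw [qtest]
      simp only [Bool.or_eq_true, beq_iff_eq, Bool.not_eq_true', Bool.or_eq_false_iff,
        beq_eq_false_iff_ne, h6, h9]
      by_cases hqc : c % q = 0
      · exact Or.inl (Or.inl hqc)
      by_cases hdiv : s = 1 ∨ (e * (1 + n * p)) % (q * charDegree (θ : G → ℂ)) = 0
      swap
      · push Not at hdiv
        exact Or.inl (Or.inr hdiv)
      right
      have hqc' : ¬ q ∣ c := fun hd => hqc (Nat.mod_eq_zero_of_dvd hd)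
      obtain ⟨M, hM⟩ := H78.Cong.exists_isPModular hq
      obtain ⟨δ, t, hδ, ht⟩ := two_primes' h (fun h0 => h12 h0.symm) hqc' hM hθ (by
        rcases hdiv with h17 | h17
        · left; rw [hs3, h17]
        · right
          obtain ⟨m, hm⟩ := Nat.dvd_of_mod_eq_zero h17
          exact ⟨m, by rw [hm]; ring⟩)
      rw [sum_SS h (fun χ => χ ∈ principalBlock M G) (triv_mem_principal hM)] at ht
      set T := (SS a).filter (fun χ => χ ∈ principalBlock M G) with hT
      have hTS : T ⊆ SS a := Finset.filter_subset _ _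
      have hmem : ∀ χ ∈ T, charDegree (χ : G → ℂ) ∈ L.toFinset := fun χ hχ =>
        List.mem_toFinset.2 (mem_cands h hp3 hG hB (hTS hχ))
      have h17 := sum_cnt T L.toFinset hmem (fun D => sg p D * D)
      rw [List.sum_toFinset _ (nodup_cands _ _ _ _ _ _)] at h17
      have h18 : ∑ χ ∈ T, a χ * (charDegree (χ : G → ℂ) : ℤ) =
          (L.map (fun D => (cnt T D : ℤ) * (sg p D * D))).sum := by
        rw [← h17]
        refine Finset.sum_congr rfl fun χ hχ => ?_
        rw [(deg_mod h hp3 (mem_SS.1 (hTS hχ)).1).2]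
      rw [h18] at ht
      have h19 : ∀ D ∈ L, cnt T D ≤ if allow Q D then cnt (SS a) D else 0 := by
        intro D _
        split_ifs with hal
        · exact cnt_mono hTS D
        · by_contra hne
          push Not at hne
          obtain ⟨χ, hχ, hχD⟩ := cnt_pos (S := T) (D := D) (by omega)
          rw [hT, Finset.mem_filter, mem_SS] at hχ
          apply hal
          rw [← hχD, hQ]
          exact allow_of_mem hG hdvd hM hχ.1.2 hχ.2
      have h20 : ∀ acc : ℤ, acc + (L.map (fun D => (cnt T D : ℤ) * (sg p D * D))).sum ∈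
          subv p Q L (L.map (cnt (SS a))) acc := fun acc => mem_subv p Q (cnt (SS a)) (cnt T) L acc h19
      rw [List.any_eq_true]
      have hQz : (Q : ℤ) = (q : ℤ) ^ (Nat.card G).factorization q := by
        rw [hQ]; push_cast; rfl
      rw [← hQz] at ht
      rcases hδ with hδ | ⟨hδ, hδB⟩
      · refine ⟨_, List.mem_append.2 (Or.inl (h20 1)), ?_⟩
        rw [hδ, zero_mul, sub_zero] at ht
        rw [ht, beq_iff_eq]
        exact Int.mul_emod_right _ _
      · refine ⟨(1 - ε * (charDegree (θ : G → ℂ) : ℤ)) +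
          (L.map (fun D => (cnt T D : ℤ) * (sg p D * D))).sum, List.mem_append.2 (Or.inr ?_), ?_⟩
        · rw [if_pos]
          · exact h20 _
          · rw [hQ]
            exact allow_of_mem hG hdvd hM (h.triv_notin hθ) hδB
        · rw [hδ, one_mul] at ht
          have h21 : (1 - ε * (charDegree (θ : G → ℂ) : ℤ)) +
              (L.map (fun D => (cnt T D : ℤ) * (sg p D * D))).sum = (Q : ℤ) * t := by
            rw [← ht]; ring
          rw [h21, beq_iff_eq]
          exact Int.mul_emod_right _ _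

end bd

/-- the possible block data for a simple group of given order, with multiplicities -/
theorem main2 {G : Type u} [Group G] [Fintype G] [Fintype (IrrCharacter G)] [IsSimpleGroup G]
    (hG : ¬ IsMulCommutative G) {N : ℕ} (hN : Nat.card G = N) (p : ℕ) [hp : Fact p.Prime] (B : ℕ)
    (qs : List (ℕ × ℕ)) (hqp : ∀ x ∈ qs, x.1.Prime)
    (exc : List (ℕ × ℕ × List ℕ)) (hchk : chk2 N p B qs exc = true) :
    ∃ x0 a Y ε e n c, BD G p x0 a Y ε e n c ∧
      (1 + n * p, e, (cands N p (1 + n * p) e c B).map (cnt (SS a))) ∈ exc := by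
  classical
  simp only [chk2, Bool.and_eq_true, beq_iff_eq, decide_eq_true_eq, Bool.not_eq_true',
    beq_eq_false_iff_ne] at hchk
  obtain ⟨⟨⟨⟨⟨⟨⟨h1, h2⟩, h3⟩, h4⟩, h5⟩, h6⟩, hqs⟩, h7⟩ := hchk
  have hdvd : p ∣ Nat.card G := by rw [hN]; exact Nat.dvd_of_mod_eq_zero h1
  obtain ⟨x0, hx0⟩ := exists_prime_orderOf_dvd_card' p hdvd
  have hidx : ¬ p ∣ (Subgroup.zpowers x0).index := by
    intro hd
    apply h2
    apply Nat.mod_eq_zero_of_dvd
    rw [← hN, ← (Subgroup.zpowers x0).card_mul_index, Nat.card_zpowers, hx0]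
    exact Nat.mul_dvd_mul_left p hd
  obtain ⟨a, Y, ε, e, n, c, h⟩ := exists_BD hx0 hidx
  refine ⟨x0, a, Y, ε, e, n, c, h, ?_⟩
  have hn := h.n_pos hG
  have he := h.e_two hG
  have hcard := h.hcard
  rw [hN] at hcard
  have hM : N / p = c * e * (1 + n * p) := by
    rw [hcard, mul_assoc, mul_assoc, Nat.mul_div_cancel_left _ hp.out.pos, mul_assoc]
  have hc0 := h.c_pos
  rw [List.all_eq_true] at h7
  have h8 := h7 (1 + n * p) (by
    rw [List.mem_range, hM]
    have : 1 * (1 + n * p) ≤ c * e * (1 + n * p) := Nat.mul_le_mul_right _ (by nlinarith)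
    omega)
  have e1 : (1 + n * p) % p = 1 := by
    rw [Nat.add_mul_mod_self_right, Nat.mod_eq_of_lt hp.out.one_lt]
  have e2 : 1 < 1 + n * p := by
    have : 0 < n * p := Nat.mul_pos hn hp.out.pos
    omega
  have e3 : (N / p) % (1 + n * p) = 0 := by rw [hM]; exact Nat.mul_mod_left _ _
  have e4 : (1 + n * p - 1) / p = n := by
    rw [Nat.add_sub_cancel_left, Nat.mul_div_cancel _ hp.out.pos]
  have e5 : N / p / (1 + n * p) = c * e := by rw [hM, Nat.mul_div_cancel _ (by omega)]
  rw [e1, e3, e4] at h8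
  simp only [beq_self_eq_true, Bool.and_true, e2, decide_true, Bool.not_true,
    Bool.false_or, Bool.or_eq_true] at h8
  rcases h8 with h8 | h8
  · exfalso
    rcases nf_card h h3 hG (nf_of_ok h8) with h9 | h9
    · rw [hN] at h9; exact h5 h9
    · rw [hN] at h9; exact h6 h9
  · rw [List.all_eq_true] at h8
    obtain ⟨s, hs1, hs2, hs3⟩ := h.exists_s
    have hep := h.e_lt
    have h9 := h8 e (List.mem_range.2 hep)
    have e6 : (p - 1) % e = 0 := by rw [hs2, Nat.add_sub_cancel]; exact Nat.mul_mod_right _ _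
    have e7 : (N / p / (1 + n * p)) % e = 0 := by rw [e5]; exact Nat.mul_mod_left _ _
    have e8 : N / p / (1 + n * p) / e = c := by rw [e5, Nat.mul_div_cancel _ (by omega)]
    rw [e6, e7, e8] at h9
    simp only [beq_self_eq_true, Bool.and_true, he, decide_true, Bool.not_true,
      Bool.false_or] at h9
    rw [List.all_eq_true] at h9
    have h10 := h9 _ (surv_mem h h3 hG hN h4 hqp hqs)
    exact List.contains_iff_mem.1 h10

end H21.NE
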