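import Cfsg.Agent.Lib.H21.NE3

/-!
Numerical elimination: wrappers.
-/

set_option autoImplicit false
set_option linter.unusedSectionVars false

namespace H21.NE

open Cfsg H18.CharBasic H18.CharOrtho H18.CharInd H21.PLat H21.BK H21.BT

universe u

theorem not_comm_of_card {G : Type u} [Group G] [Finite G] [IsSimpleGroup G] {N : ℕ}
    (hN : Nat.card G = N) (hp : ¬ N.Prime) : ¬ IsMulCommutative G := by
  intro hc
  apply hp
  rw [← hN]
  let _ : CommGroup G := { (inferInstance : Group G) with mul_comm := hc.is_comm.comm }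
  exact IsSimpleGroup.prime_card

/-- there is no simple group of order `N` -/
theorem no_order {G : Type u} [Group G] [Finite G] [IsSimpleGroup G] {N : ℕ}
    (hN : Nat.card G = N) (hNp : ¬ N.Prime) (p : ℕ) [hp : Fact p.Prime] (B : ℕ)
    (qs : List (ℕ × ℕ)) (hqp : ∀ x ∈ qs, x.1.Prime) (hchk : chk2 N p B qs [] = true) : False := by
  classical
  let _ : Fintype G := Fintype.ofFinite G
  let _ : Fintype (IrrCharacter G) := Fintype.ofFinite _
  obtain ⟨x0, a, Y, ε, e, n, c, -, h⟩ := main2 (not_comm_of_card hN hNp) hN p B qs hqp [] hchk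
  exact List.not_mem_nil h

end H21.NE
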