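import Cfsg.Agent.Lib.H21.NE4

/-!
Numerical elimination: the characters in the principal block for a second prime.
-/

set_option autoImplicit false
set_option linter.unusedSectionVars false

namespace H21.NE

open Cfsg H18.CharBasic H18.CharOrtho H18.CharInd H21.PLat H21.BK H21.BT

universe u

variable {G : Type u} [Group G] [Fintype G] [Fintype (IrrCharacter G)] {p : ℕ} [hp : Fact p.Prime]
  {x0 : G} {a : IrrCharacter G → ℤ} {Y : Finset (IrrCharacter G)} {ε : ℤ} {e n c : ℕ}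

theorem q_info (h : BD G p x0 a Y ε e n c) (hp3 : 2 < p) [IsSimpleGroup G]
    (hG : ¬ IsMulCommutative G) {N : ℕ} (hN : Nat.card G = N) {B : ℕ} (hB : N ≤ B * B)
    {q : ℕ} [hq : Fact q.Prime] (hpq : p ≠ q) (hqc : ¬ q ∣ c) {b : ℕ} (hQ : N.factorization q = b)
    (hdvd : q ∣ N) {M : Ideal AlgInt} (hM : IsPModular q M) {θ : IrrCharacter G} (hθ : θ ∈ Y)
    (hdiv : Y.card = 1 ∨ ∃ m, e * (1 + n * p) = q * m * charDegree (θ : G → ℂ)) :
    ∃ (T : Finset (IrrCharacter G)) (δ t : ℤ), (∀ χ ∈ T, χ ∈ SS a ∧ χ ∈ principalBlock M G) ∧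
      (δ = 0 ∨ (δ = 1 ∧ θ ∈ principalBlock M G ∧
        allow (q ^ b) (charDegree (θ : G → ℂ)) = true)) ∧
      1 + ((cands N p (1 + n * p) e c B).map (fun D => (cnt T D : ℤ) * (sg p D * D))).sum -
        δ * (ε * charDegree (θ : G → ℂ)) = ((q ^ b : ℕ) : ℤ) * t ∧
      ∀ D ∈ cands N p (1 + n * p) e c B, cnt T D ≤ if allow (q ^ b) D then cnt (SS a) D else 0 := by
  classical
  subst hN
  set L := cands (Nat.card G) p (1 + n * p) e c B with hL
  obtain ⟨δ, t, hδ, ht⟩ := two_primes' h hpq hqc hM hθ hdiv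
  rw [sum_SS h (fun χ => χ ∈ principalBlock M G) (triv_mem_principal hM), hQ] at ht
  set T := (SS a).filter (fun χ => χ ∈ principalBlock M G) with hT
  have hTS : T ⊆ SS a := Finset.filter_subset _ _
  have hmem : ∀ χ ∈ T, charDegree (χ : G → ℂ) ∈ L.toFinset := fun χ hχ =>
    List.mem_toFinset.2 (mem_cands h hp3 hG hB (hTS hχ))
  have h17 := sum_cnt T L.toFinset hmem (fun D => sg p D * D)
  rw [List.sum_toFinset _ (nodup_cands _ _ _ _ _ _)] at h17
  have h18 : ∑ χ ∈ T, a χ * (charDegree (χ : G → ℂ) : ℤ) =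
      (L.map (fun D => (cnt T D : ℤ) * (sg p D * D))).sum := by
    rw [← h17]
    refine Finset.sum_congr rfl fun χ hχ => ?_
    rw [(deg_mod h hp3 (mem_SS.1 (hTS hχ)).1).2]
  rw [h18] at ht
  refine ⟨T, δ, t, fun χ hχ => ⟨hTS hχ, (Finset.mem_filter.1 hχ).2⟩, ?_, ?_, ?_⟩
  · rcases hδ with hδ | ⟨hδ, hδ'⟩
    · exact Or.inl hδ
    · refine Or.inr ⟨hδ, hδ', ?_⟩
      rw [← hQ]
      exact allow_of_mem hG hdvd hM (h.triv_notin hθ) hδ'
  · rw [ht]; push_cast; rfl
  · intro D _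
    split_ifs with hal
    · exact cnt_mono hTS D
    · by_contra hne
      push Not at hne
      obtain ⟨χ, hχ, hχD⟩ := cnt_pos (S := T) (D := D) (by omega)
      rw [hT, Finset.mem_filter, mem_SS] at hχ
      apply hal
      rw [← hχD, ← hQ]
      exact allow_of_mem hG hdvd hM hχ.1.2 hχ.2

/-- characters of the principal block whose degree is not `±1` are exceptional -/
theorem mem_Y_of (h : BD G p x0 a Y ε e n c) (hp3 : 2 < p) {M : Ideal AlgInt}
    (hB : ∀ χ, (a χ ≠ 0 ∨ χ ∈ Y) ↔ χ ∈ principalBlock M G) {χ : IrrCharacter G}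
    (hχ : χ ∈ principalBlock M G) (h1 : charDegree (χ : G → ℂ) % p ≠ 1)
    (h2 : charDegree (χ : G → ℂ) % p ≠ p - 1) : χ ∈ Y := by
  rcases (hB χ).2 hχ with h3 | h3
  · rcases (deg_mod h hp3 h3).1 with h4 | h4
    · exact absurd h4 h1
    · exact absurd h4 h2
  · exact h3

theorem exists_BD_of_card {N : ℕ} (hN : Nat.card G = N) (q : ℕ) [hq : Fact q.Prime]
    (h1 : N % q = 0) (h2 : N % (q * q) ≠ 0) :
    ∃ x0 a Y ε e n c, BD G q x0 a Y ε e n c := by
  have hdvd : q ∣ Nat.card G := by rw [hN]; exact Nat.dvd_of_mod_eq_zero h1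
  obtain ⟨x0, hx0⟩ := exists_prime_orderOf_dvd_card' q hdvd
  have hidx : ¬ q ∣ (Subgroup.zpowers x0).index := by
    intro hd
    apply h2
    apply Nat.mod_eq_zero_of_dvd
    rw [← hN, ← (Subgroup.zpowers x0).card_mul_index, Nat.card_zpowers, hx0]
    exact Nat.mul_dvd_mul_left q hd
  obtain ⟨a, Y, ε, e, n, c, h⟩ := exists_BD hx0 hidx
  exact ⟨x0, a, Y, ε, e, n, c, h⟩

theorem fac_eq {N q b m : ℕ} (hq : q.Prime) (h : N = q ^ b * m) (hm : m % q ≠ 0) :
    N.factorization q = b := by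
  have hm0 : m ≠ 0 := by rintro rfl; exact hm (Nat.zero_mod q)
  rw [h, Nat.factorization_mul (pow_ne_zero _ hq.ne_zero) hm0, Finsupp.add_apply,
    hq.factorization_pow, Finsupp.single_eq_same,
    Nat.factorization_eq_zero_of_not_dvd (fun hd => hm (Nat.mod_eq_zero_of_dvd hd)), add_zero]

end H21.NE
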