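import Cfsg.Agent.Lib.H21.NE5
import Cfsg.Agent.Lib.H77.SchurBound
import Cfsg.Agent.Lib.H4.Rational
import Cfsg.Agent.Lib.H78.Galois

/-!
A character that is the only one of its degree in a principal block has rational values.
-/

set_option autoImplicit false
set_option linter.unusedSectionVars false

namespace H21.NE

open Cfsg H18.CharBasic H18.CharOrtho H18.CharInd H21.PLat H21.BK H21.BT

universe u

variable {G : Type u} [Group G] [Finite G]

theorem galois_fixed {M : Ideal AlgInt} {χ : IrrCharacter G} (hχ : χ ∈ principalBlock M G)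
    (huniq : ∀ ψ ∈ principalBlock M G, charDegree (ψ : G → ℂ) = charDegree (χ : G → ℂ) → ψ = χ)
    (σ : ℂ ≃+* ℂ) (g : G) : σ ((χ : G → ℂ) g) = (χ : G → ℂ) g := by
  obtain ⟨k, hk, hk2⟩ := H4.Rational.exists_pow_of_ringEquiv (n := Nat.card G) Nat.card_pos.ne' σ
  have h1 := H78.Galois.char_map_eq_pow (G := G) (n := Nat.card G) dvd_rfl (σ := (σ : ℂ →+* ℂ))
    hk2 (isCharacter_of_isIrr χ.2) g
  have h2 : H78.Galois.powIrr hk χ = χ :=
    huniq _ (H78.Galois.powIrr_mem_principalBlock hk hχ) (H78.Galois.charDegree_powIrr hk χ)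
  have h3 : (H78.Galois.powIrr hk χ : G → ℂ) g = (χ : G → ℂ) g := by rw [h2]
  rw [H78.Galois.powIrr_apply] at h3
  rw [h3] at h1
  exact h1

/-- Schur's bound for such a character -/
theorem schur_bound [IsSimpleGroup G] {M : Ideal AlgInt} {χ : IrrCharacter G}
    (hχ : χ ∈ principalBlock M G) (hχt : χ ≠ triv G)
    (huniq : ∀ ψ ∈ principalBlock M G, charDegree (ψ : G → ℂ) = charDegree (χ : G → ℂ) → ψ = χ)
    {q : ℕ} (hq : q.Prime) : (Nat.card G).factorization q ≤ H77.SchurBound.S q (charDegree (χ : G → ℂ)) := by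
  have : Fact q.Prime := ⟨hq⟩
  let _ : Fintype G := Fintype.ofFinite G
  let _ : Fintype (IrrCharacter G) := Fintype.ofFinite _
  obtain ⟨P⟩ := (inferInstance : Nonempty (Sylow q G))
  let _ : Fintype P := Fintype.ofFinite _
  refine H77.SchurBound.pbound hq (charDegree (χ : G → ℂ)) P _ P.card_eq_multiplicity
    (fun g : P => (χ : G → ℂ) g) (isCharacter_restrict (P : Subgroup G) (isCharacter_of_isIrr χ.2))
    ?_ ?_ ?_
  · intro g hg
    exact Subtype.ext (ker_trivial hχt hg)
  · intro σ g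
    exact galois_fixed hχ huniq σ g
  · exact (H82.Deg.coe_charDegree' χ).symm

end H21.NE
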