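import Cfsg.Agent.Lib.H21.NE4
import Cfsg.Agent.Lib.H21.SylowInter
import Cfsg.Agent.S0144

/-!
Numerical elimination of all orders in an interval.
-/

set_option autoImplicit false
set_option linter.unusedSectionVars false

namespace H21.NE

open Cfsg

universe u

/-- Boolean primality -/
def primeB (n : ℕ) : Bool :=
  decide (2 ≤ n) && (List.range n).all (fun d => decide (d < 2) || !(n % d == 0))

theorem prime_of_primeB {n : ℕ} (h : primeB n = true) : n.Prime := by
  simp only [primeB, Bool.and_eq_true, decide_eq_true_eq, List.all_eq_true, List.mem_range,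
    Bool.or_eq_true, Bool.not_eq_true', beq_eq_false_iff_ne] at h
  rw [Nat.prime_def_lt]
  refine ⟨h.1, fun m hm hd => ?_⟩
  rcases h.2 m hm with h1 | h1
  · rcases Nat.eq_zero_or_pos m with h2 | h2
    · rw [h2, zero_dvd_iff] at hd
      omega
    · omega
  · exact absurd (Nat.mod_eq_zero_of_dvd hd) h1

/-- the exponent of `q` in `N` (for small exponents) -/
def qexp (N q : ℕ) : ℕ := ((List.range 14).filter (fun k => N % q ^ k == 0)).length - 1

/-- prime divisors other than `p` together with the full prime power parts -/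
def qsOf (N p : ℕ) : List (ℕ × ℕ) :=
  ((List.range (N + 1)).filter (fun q => (N % q == 0) && !(q == p) && primeB q)).map
    (fun q => (q, q ^ qexp N q))

/-- `N` has at most two prime divisors -/
def twoP (N : ℕ) : Bool :=
  (List.range (N + 1)).any (fun r => (N % r == 0) && primeB r &&
    (List.range (N + 1)).any (fun q => ((N % q == 0) || decide (q < 4)) &&
      (N == r ^ qexp N r * q ^ qexp N q) && primeB q))

/-- the check of one order -/
def checkN (B : ℕ) (exc : List ℕ) (N : ℕ) : Bool :=
  (N % 4 == 2) || exc.contains N || twoP N ||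
    (List.range (N + 1)).any (fun p => (N % p == 0) && decide (3 ≤ p) && !(N % (p * p) == 0) &&
      primeB p && chk2 N p B (qsOf N p) [])

theorem mod_four {G : Type u} [Group G] [Finite G] [IsSimpleGroup G]
    (hG : ¬ IsMulCommutative G) : Nat.card G % 4 ≠ 2 := by
  intro h
  have : Fact (Nat.Prime 2) := ⟨Nat.prime_two⟩
  have h1 : Nat.card (Sylow 2 G) ∣ Nat.card G / 2 := by
    refine H21.SylowTools.card_sylow_dvd_of_card (a := 1) ?_
    omega
  obtain ⟨l, hl⟩ := h1
  have h2 : Nat.card G = 2 * (Nat.card (Sylow 2 G) * l) := by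
    rw [← hl]
    omega
  exact H21.SylowTools.gcd_ne_one_of_simple hG h2 (by rw [← hl]; omega) rfl (by norm_num)

theorem not_solvable {G : Type u} [Group G] [Finite G] [IsSimpleGroup G]
    (hG : ¬ IsMulCommutative G) : ¬ Group.IsSolvable G := by
  intro hs
  apply hG
  have h := (IsSimpleGroup.comm_iff_isSolvable (G := G)).2 hs
  exact ⟨⟨h⟩⟩

/-- the interval theorem -/
theorem mem_of_range {G : Type u} [Group G] [Finite G] [IsSimpleGroup G]
    (hG : ¬ IsMulCommutative G) {lo k B : ℕ} {exc : List ℕ}
    (h : ((List.range k).all (fun i => checkN B exc (lo + i))) = true)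
    (h1 : lo ≤ Nat.card G) (h2 : Nat.card G < lo + k) : Nat.card G ∈ exc := by
  have h3 := (List.all_eq_true.1 h) (Nat.card G - lo) (List.mem_range.2 (by omega))
  rw [Nat.add_sub_cancel' h1] at h3
  simp only [checkN, Bool.or_eq_true] at h3
  rcases h3 with ((h3 | h3) | h3) | h3
  · exfalso
    exact mod_four hG (by simpa using h3)
  · simpa using h3
  · exfalso
    rw [twoP, List.any_eq_true] at h3
    obtain ⟨r, -, hr⟩ := h3
    rw [Bool.and_eq_true, Bool.and_eq_true, List.any_eq_true] at hr
    obtain ⟨⟨-, hr⟩, q, -, hq⟩ := hr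
    rw [Bool.and_eq_true, Bool.and_eq_true, beq_iff_eq] at hq
    exact not_solvable hG (Cfsg.Agent.S0144.result r q _ _ (prime_of_primeB hr)
      (prime_of_primeB hq.2) hq.1.2)
  · rw [List.any_eq_true] at h3
    obtain ⟨p, -, hp⟩ := h3
    simp only [Bool.and_eq_true] at hp
    have : Fact p.Prime := ⟨prime_of_primeB hp.1.2⟩
    exfalso
    refine no_order rfl ?_ p B (qsOf (Nat.card G) p) ?_ hp.2
    · intro h5
      apply not_solvable hG
      exact Cfsg.Agent.S0144.result _ p 1 0 h5 this.out (by simp)
    · intro x hx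
      rw [qsOf, List.mem_map] at hx
      obtain ⟨q, hq, rfl⟩ := hx
      rw [List.mem_filter, Bool.and_eq_true] at hq
      exact prime_of_primeB hq.2.2

end H21.NE
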