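import Cfsg.Agent.Lib.H21.NE7
import Cfsg.Agent.Lib.H21.NE5

/-!
Numerical elimination of all orders in an interval, with certificates.
-/

set_option autoImplicit false
set_option linter.unusedSectionVars false

namespace H21.NE

open Cfsg H18.CharBasic H18.CharOrtho H18.CharInd H21.PLat H21.BK H21.BT

universe u

/-- Boolean primality, for numbers below `B ^ 2` -/
def primeC (B n : ℕ) : Bool :=
  decide (2 ≤ n) && decide (n < B * B) &&
    (List.range B).all (fun d => decide (d < 2) || !(n % d == 0) || decide (n ≤ d))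

theorem prime_of_primeC {B n : ℕ} (h : primeC B n = true) : n.Prime := by
  simp only [primeC, Bool.and_eq_true, decide_eq_true_eq, List.all_eq_true, List.mem_range,
    Bool.or_eq_true, Bool.not_eq_true', beq_eq_false_iff_ne] at h
  obtain ⟨⟨h1, h2⟩, h3⟩ := h
  by_contra hn
  have h4 := Nat.minFac_sq_le_self (by omega) hn
  have h5 : n.minFac < B := by
    rw [pow_two] at h4
    exact Nat.mul_self_lt_mul_self_iff.1 (lt_of_le_of_lt h4 h2)
  have h6 : n.minFac.Prime := Nat.minFac_prime (by omega)
  rcases h3 _ h5 with (h7 | h7) | h7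
  · exact absurd h6.two_le (by omega)
  · exact h7 (Nat.mod_eq_zero_of_dvd (Nat.minFac_dvd n))
  · apply hn
    rw [Nat.prime_def_minFac]
    exact ⟨h1, le_antisymm (Nat.minFac_le (by omega)) h7⟩

/-- a faster version of the check of an order -/
def chk3 (N p B : ℕ) (qs : List (ℕ × ℕ)) : Bool :=
  (N % p == 0) && !(N % (p * p) == 0) && decide (2 < p) && decide (N ≤ B * B) &&
  !(2 * N == p * (p ^ 2 - 1)) && !(N == (p - 1) * ((p - 1) ^ 2 - 1)) && qsOK N p qs &&
  (List.range (N / p / p + 1)).all (fun n => (n == 0) || !((N / p) % (1 + n * p) == 0) ||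
    nfOK p n ||
    (List.range p).all (fun e => !(decide (2 ≤ e) && ((p - 1) % e == 0) &&
      ((N / p / (1 + n * p)) % e == 0)) ||
      (surv N p B (1 + n * p) e (N / p / (1 + n * p) / e) qs).all
        (fun w => ([] : List (ℕ × ℕ × List ℕ)).contains (1 + n * p, e, w))))

theorem chk2_of_chk3 {N p B : ℕ} {qs : List (ℕ × ℕ)} (h : chk3 N p B qs = true) :
    chk2 N p B qs [] = true := by
  simp only [chk3, Bool.and_eq_true] at h
  simp only [chk2, Bool.and_eq_true]
  obtain ⟨h1, h2⟩ := h
  refine ⟨h1, ?_⟩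
  have hp : 2 < p := by simpa using h1.1.1.1.1.2
  rw [List.all_eq_true] at h2 ⊢
  intro v hv
  rw [List.mem_range] at hv
  by_cases hc : (v % p = 1) ∧ 1 < v
  · obtain ⟨hc1, hc2⟩ := hc
    have hdm := Nat.div_add_mod v p
    have e0 : 1 + (v / p) * p = v := by rw [mul_comm, add_comm, ← hc1]; exact hdm
    have e1 : (v - 1) / p = v / p := by
      have h5 : v - 1 = (v / p) * p := by omega
      rw [h5, Nat.mul_div_cancel _ (by omega)]
    have e2 : v / p ≠ 0 := by
      intro h0
      rw [h0] at e0
      omega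
    have e3 : v / p < N / p / p + 1 := by
      have : v / p ≤ N / p / p := Nat.div_le_div_right (by omega)
      omega
    have h3 := h2 (v / p) (List.mem_range.2 e3)
    rw [e0] at h3
    rw [e1]
    have e4 : (v / p == 0) = false := by simpa using e2
    rw [e4, Bool.false_or] at h3
    have e5 : (v % p == 1) = true := by simpa using hc1
    have e6 : decide (1 < v) = true := by simpa using hc2
    rw [e5, e6, Bool.and_true, Bool.true_and]
    exact h3
  · have e5 : ((v % p == 1) && decide (1 < v)) = false := by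
      rw [Bool.and_eq_false_iff]
      by_cases h5 : v % p = 1
      · right
        rw [decide_eq_false_iff_not]
        exact fun h6 => hc ⟨h5, h6⟩
      · left
        simpa using h5
    rw [e5, Bool.false_and, Bool.not_false, Bool.true_or, Bool.true_or]

/-- the check of one order with a certificate -/
def checkC (B : ℕ) (exc : List ℕ) (N : ℕ) (x : ℕ × List (ℕ × ℕ)) : Bool :=
  match x.1, x.2 with
  | 0, [(r, a), (q, b)] => (N == r ^ a * q ^ b) && primeC B r && primeC B q
  | 1, _ => (N % 4 == 2) || exc.contains N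
  | p, qs => primeC B p && qs.all (fun y => primeC B y.1) && chk3 N p B qs

/-- the check of an interval -/
def goC (B : ℕ) (exc : List ℕ) : ℕ → List (ℕ × List (ℕ × ℕ)) → Bool
  | _, [] => true
  | N, x :: xs => checkC B exc N x && goC B exc (N + 1) xs

theorem goC_spec {B : ℕ} {exc : List ℕ} : ∀ (L : List (ℕ × List (ℕ × ℕ))) (N : ℕ),
    goC B exc N L = true → ∀ M, N ≤ M → M < N + L.length → ∃ x, checkC B exc M x = true := by
  intro L
  induction L with
  | nil => intro N _ M h1 h2; simp at h2; omega
  | cons x xs ih =>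
    intro N h M h1 h2
    rw [goC, Bool.and_eq_true] at h
    rcases Nat.eq_or_lt_of_le h1 with h3 | h3
    · exact ⟨x, h3 ▸ h.1⟩
    · refine ih (N + 1) h.2 M h3 ?_
      rw [List.length_cons] at h2
      omega

theorem mem_of_checkC {G : Type u} [Group G] [Finite G] [IsSimpleGroup G]
    (hG : ¬ IsMulCommutative G) {B : ℕ} {exc : List ℕ} {x : ℕ × List (ℕ × ℕ)}
    (h : checkC B exc (Nat.card G) x = true) : Nat.card G ∈ exc := by
  have key : ∀ p qs, (primeC B p && qs.all (fun y : ℕ × ℕ => primeC B y.1) &&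
      chk3 (Nat.card G) p B qs) = true → Nat.card G ∈ exc := by
    intro p qs h1
    simp only [Bool.and_eq_true] at h1
    have : Fact p.Prime := ⟨prime_of_primeC h1.1.1⟩
    exfalso
    refine no_order rfl ?_ p B qs ?_ (chk2_of_chk3 h1.2)
    · intro h5
      apply not_solvable hG
      exact Cfsg.Agent.S0144.result _ p 1 0 h5 this.out (by simp)
    · intro y hy
      exact prime_of_primeC (List.all_eq_true.1 h1.1.2 y hy)
  unfold checkC at h
  split at h
  · exfalso
    simp only [Bool.and_eq_true, beq_iff_eq] at h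
    exact not_solvable hG (Cfsg.Agent.S0144.result _ _ _ _ (prime_of_primeC h.1.2)
      (prime_of_primeC h.2) h.1.1)
  · rw [Bool.or_eq_true] at h
    rcases h with h | h
    · exact absurd (by simpa using h) (mod_four hG)
    · simpa using h
  · exact key _ _ h

theorem mem_of_goC {G : Type u} [Group G] [Finite G] [IsSimpleGroup G]
    (hG : ¬ IsMulCommutative G) {B lo : ℕ} {exc : List ℕ} {L : List (ℕ × List (ℕ × ℕ))}
    (h : goC B exc lo L = true) (h1 : lo ≤ Nat.card G) (h2 : Nat.card G < lo + L.length) :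
    Nat.card G ∈ exc := by
  obtain ⟨x, hx⟩ := goC_spec L lo h _ h1 h2
  exact mem_of_checkC hG hx

section bd

variable {G : Type u} [Group G] [Fintype G] [Fintype (IrrCharacter G)] {p : ℕ} [hp : Fact p.Prime]
  {x0 : G} {a : IrrCharacter G → ℤ} {Y : Finset (IrrCharacter G)} {ε : ℤ} {e n c : ℕ}

/-- if `p` is self-centralising, characters of degree prime to `p` are in the principal block -/
theorem mem_of_c_one (h : BD G p x0 a Y ε e n c) (hc : c = 1) {χ : IrrCharacter G}
    (hD : ¬ p ∣ charDegree (χ : G → ℂ)) : a χ ≠ 0 ∨ χ ∈ Y := by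
  by_contra hcon
  push Not at hcon
  apply hD
  obtain ⟨m, hm⟩ := mu_nat h.hx0 (isCharacter_of_isIrr χ.2) (0 : ZMod p)
  rw [mu, ← Finset.add_sum_erase _ _ (Finset.mem_univ (0 : ZMod p)),
    Finset.sum_eq_zero (fun k hk => by
      rw [hz h hc hcon.1 hcon.2 (Finset.ne_of_mem_erase hk), zero_mul])] at hm
  simp only [pw_zero, zero_mul, neg_zero, AddChar.map_zero_eq_one, mul_one, add_zero] at hm
  rw [← H82.Deg.coe_charDegree'] at hm
  have h1 : (charDegree (χ : G → ℂ) : ℂ) = ((p * m : ℕ) : ℂ) := by
    rw [Nat.cast_mul, ← hm, ← mul_assoc, mul_inv_cancel₀ pC, one_mul]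
  exact ⟨m, by exact_mod_cast h1⟩

end bd

end H21.NE
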