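import Cfsg.Agent.Lib.H21.NE8

/-!
Certificates for the orders up to 1092.
-/

set_option autoImplicit false

namespace H21.NE.Cert1092

/-- the exceptions -/
def exc : List ℕ := [60, 168, 360, 504, 660, 900, 1092]

/-- certificates for 2 to 299 -/
def c0 : List (ℕ × List (ℕ × ℕ)) :=
  [(1, []), (0, [(3, 1), (2, 0)]), (0, [(2, 2), (3, 0)]), (0, [(5, 1), (2, 0)]), (1, []),
  (0, [(7, 1), (2, 0)]), (0, [(2, 3), (3, 0)]), (0, [(3, 2), (2, 0)]), (1, []),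
  (0, [(11, 1), (2, 0)]), (0, [(2, 2), (3, 1)]), (0, [(13, 1), (2, 0)]), (1, []),
  (0, [(3, 1), (5, 1)]), (0, [(2, 4), (3, 0)]), (0, [(17, 1), (2, 0)]), (1, []),
  (0, [(19, 1), (2, 0)]), (0, [(2, 2), (5, 1)]), (0, [(3, 1), (7, 1)]), (1, []),
  (0, [(23, 1), (2, 0)]), (0, [(2, 3), (3, 1)]), (0, [(5, 2), (2, 0)]), (1, []),
  (0, [(3, 3), (2, 0)]), (0, [(2, 2), (7, 1)]), (0, [(29, 1), (2, 0)]), (1, []),
  (0, [(31, 1), (2, 0)]), (0, [(2, 5), (3, 0)]), (0, [(3, 1), (11, 1)]), (1, []),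
  (0, [(5, 1), (7, 1)]), (0, [(2, 2), (3, 2)]), (0, [(37, 1), (2, 0)]), (1, []),
  (0, [(3, 1), (13, 1)]), (0, [(2, 3), (5, 1)]), (0, [(41, 1), (2, 0)]), (1, []),
  (0, [(43, 1), (2, 0)]), (0, [(2, 2), (11, 1)]), (0, [(3, 2), (5, 1)]), (1, []),
  (0, [(47, 1), (2, 0)]), (0, [(2, 4), (3, 1)]), (0, [(7, 2), (2, 0)]), (1, []),
  (0, [(3, 1), (17, 1)]), (0, [(2, 2), (13, 1)]), (0, [(53, 1), (2, 0)]), (1, []),
  (0, [(5, 1), (11, 1)]), (0, [(2, 3), (7, 1)]), (0, [(3, 1), (19, 1)]), (1, []),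
  (0, [(59, 1), (2, 0)]), (1, []), (0, [(61, 1), (2, 0)]), (1, []), (0, [(3, 2), (7, 1)]),
  (0, [(2, 6), (3, 0)]), (0, [(5, 1), (13, 1)]), (1, []), (0, [(67, 1), (2, 0)]),
  (0, [(2, 2), (17, 1)]), (0, [(3, 1), (23, 1)]), (1, []), (0, [(71, 1), (2, 0)]),
  (0, [(2, 3), (3, 2)]), (0, [(73, 1), (2, 0)]), (1, []), (0, [(3, 1), (5, 2)]),
  (0, [(2, 2), (19, 1)]), (0, [(7, 1), (11, 1)]), (1, []), (0, [(79, 1), (2, 0)]),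
  (0, [(2, 4), (5, 1)]), (0, [(3, 4), (2, 0)]), (1, []), (0, [(83, 1), (2, 0)]),
  (7, [(2, 4), (3, 3)]), (0, [(5, 1), (17, 1)]), (1, []), (0, [(3, 1), (29, 1)]),
  (0, [(2, 3), (11, 1)]), (0, [(89, 1), (2, 0)]), (1, []), (0, [(7, 1), (13, 1)]),
  (0, [(2, 2), (23, 1)]), (0, [(3, 1), (31, 1)]), (1, []), (0, [(5, 1), (19, 1)]),
  (0, [(2, 5), (3, 1)]), (0, [(97, 1), (2, 0)]), (1, []), (0, [(3, 2), (11, 1)]),
  (0, [(2, 2), (5, 2)]), (0, [(101, 1), (2, 0)]), (1, []), (0, [(103, 1), (2, 0)]),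
  (0, [(2, 3), (13, 1)]), (7, [(3, 3), (5, 5)]), (1, []), (0, [(107, 1), (2, 0)]),
  (0, [(2, 2), (3, 3)]), (0, [(109, 1), (2, 0)]), (1, []), (0, [(3, 1), (37, 1)]),
  (0, [(2, 4), (7, 1)]), (0, [(113, 1), (2, 0)]), (1, []), (0, [(5, 1), (23, 1)]),
  (0, [(2, 2), (29, 1)]), (0, [(3, 2), (13, 1)]), (1, []), (0, [(7, 1), (17, 1)]),
  (5, [(2, 8), (3, 3)]), (0, [(11, 2), (2, 0)]), (1, []), (0, [(3, 1), (41, 1)]),
  (0, [(2, 2), (31, 1)]), (0, [(5, 3), (2, 0)]), (1, []), (0, [(127, 1), (2, 0)]),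
  (0, [(2, 7), (3, 0)]), (0, [(3, 1), (43, 1)]), (1, []), (0, [(131, 1), (2, 0)]),
  (11, [(2, 4), (3, 3)]), (0, [(7, 1), (19, 1)]), (1, []), (0, [(3, 3), (5, 1)]),
  (0, [(2, 3), (17, 1)]), (0, [(137, 1), (2, 0)]), (1, []), (0, [(139, 1), (2, 0)]),
  (7, [(2, 4), (5, 5)]), (0, [(3, 1), (47, 1)]), (1, []), (0, [(11, 1), (13, 1)]),
  (0, [(2, 4), (3, 2)]), (0, [(5, 1), (29, 1)]), (1, []), (0, [(3, 1), (7, 2)]),
  (0, [(2, 2), (37, 1)]), (0, [(149, 1), (2, 0)]), (1, []), (0, [(151, 1), (2, 0)]),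
  (0, [(2, 3), (19, 1)]), (0, [(3, 2), (17, 1)]), (1, []), (0, [(5, 1), (31, 1)]),
  (13, [(2, 4), (3, 3)]), (0, [(157, 1), (2, 0)]), (1, []), (0, [(3, 1), (53, 1)]),
  (0, [(2, 5), (5, 1)]), (0, [(7, 1), (23, 1)]), (1, []), (0, [(163, 1), (2, 0)]),
  (0, [(2, 2), (41, 1)]), (11, [(3, 3), (5, 5)]), (1, []), (0, [(167, 1), (2, 0)]), (1, []),
  (0, [(13, 2), (2, 0)]), (1, []), (0, [(3, 2), (19, 1)]), (0, [(2, 2), (43, 1)]),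
  (0, [(173, 1), (2, 0)]), (1, []), (0, [(5, 2), (7, 1)]), (0, [(2, 4), (11, 1)]),
  (0, [(3, 1), (59, 1)]), (1, []), (0, [(179, 1), (2, 0)]), (5, [(2, 4), (3, 9)]),
  (0, [(181, 1), (2, 0)]), (1, []), (0, [(3, 1), (61, 1)]), (0, [(2, 3), (23, 1)]),
  (0, [(5, 1), (37, 1)]), (1, []), (0, [(11, 1), (17, 1)]), (0, [(2, 2), (47, 1)]),
  (0, [(3, 3), (7, 1)]), (1, []), (0, [(191, 1), (2, 0)]), (0, [(2, 6), (3, 1)]),
  (0, [(193, 1), (2, 0)]), (1, []), (13, [(3, 3), (5, 5)]), (0, [(2, 2), (7, 2)]),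
  (0, [(197, 1), (2, 0)]), (1, []), (0, [(199, 1), (2, 0)]), (0, [(2, 3), (5, 2)]),
  (0, [(3, 1), (67, 1)]), (1, []), (0, [(7, 1), (29, 1)]), (17, [(2, 4), (3, 3)]),
  (0, [(5, 1), (41, 1)]), (1, []), (0, [(3, 2), (23, 1)]), (0, [(2, 4), (13, 1)]),
  (0, [(11, 1), (19, 1)]), (1, []), (0, [(211, 1), (2, 0)]), (0, [(2, 2), (53, 1)]),
  (0, [(3, 1), (71, 1)]), (1, []), (0, [(5, 1), (43, 1)]), (0, [(2, 3), (3, 3)]),
  (0, [(7, 1), (31, 1)]), (1, []), (0, [(3, 1), (73, 1)]), (11, [(2, 4), (5, 5)]),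
  (0, [(13, 1), (17, 1)]), (1, []), (0, [(223, 1), (2, 0)]), (0, [(2, 5), (7, 1)]),
  (0, [(3, 2), (5, 2)]), (1, []), (0, [(227, 1), (2, 0)]), (19, [(2, 4), (3, 3)]),
  (0, [(229, 1), (2, 0)]), (1, []), (11, [(3, 3), (7, 7)]), (0, [(2, 3), (29, 1)]),
  (0, [(233, 1), (2, 0)]), (1, []), (0, [(5, 1), (47, 1)]), (0, [(2, 2), (59, 1)]),
  (0, [(3, 1), (79, 1)]), (1, []), (0, [(239, 1), (2, 0)]), (5, [(2, 16), (3, 3)]),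
  (0, [(241, 1), (2, 0)]), (1, []), (0, [(3, 5), (2, 0)]), (0, [(2, 2), (61, 1)]),
  (0, [(5, 1), (7, 2)]), (1, []), (0, [(13, 1), (19, 1)]), (0, [(2, 3), (31, 1)]),
  (0, [(3, 1), (83, 1)]), (1, []), (0, [(251, 1), (2, 0)]), (7, [(2, 4), (3, 9)]),
  (0, [(11, 1), (23, 1)]), (1, []), (17, [(3, 3), (5, 5)]), (0, [(2, 8), (3, 0)]),
  (0, [(257, 1), (2, 0)]), (1, []), (0, [(7, 1), (37, 1)]), (13, [(2, 4), (5, 5)]),
  (0, [(3, 2), (29, 1)]), (1, []), (0, [(263, 1), (2, 0)]), (11, [(2, 8), (3, 3)]),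
  (0, [(5, 1), (53, 1)]), (1, []), (0, [(3, 1), (89, 1)]), (0, [(2, 2), (67, 1)]),
  (0, [(269, 1), (2, 0)]), (1, []), (0, [(271, 1), (2, 0)]), (0, [(2, 4), (17, 1)]),
  (13, [(3, 3), (7, 7)]), (1, []), (0, [(5, 2), (11, 1)]), (23, [(2, 4), (3, 3)]),
  (0, [(277, 1), (2, 0)]), (1, []), (0, [(3, 2), (31, 1)]), (7, [(2, 8), (5, 5)]),
  (0, [(281, 1), (2, 0)]), (1, []), (0, [(283, 1), (2, 0)]), (0, [(2, 2), (71, 1)]),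
  (19, [(3, 3), (5, 5)]), (1, []), (0, [(7, 1), (41, 1)]), (0, [(2, 5), (3, 2)]),
  (0, [(17, 2), (2, 0)]), (1, []), (0, [(3, 1), (97, 1)]), (0, [(2, 2), (73, 1)]),
  (0, [(293, 1), (2, 0)]), (1, []), (0, [(5, 1), (59, 1)]), (0, [(2, 3), (37, 1)]),
  (0, [(3, 3), (11, 1)]), (1, []), (0, [(13, 1), (23, 1)])]

theorem h0 : goC 34 exc 2 c0 = true := by decide +kernel

theorem l0 : c0.length = 298 := by decide +kernel

/-- certificates for 300 to 599 -/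
def c1 : List (ℕ × List (ℕ × ℕ)) :=
  [(3, [(2, 4), (5, 25)]), (0, [(7, 1), (43, 1)]), (1, []), (0, [(3, 1), (101, 1)]),
  (0, [(2, 4), (19, 1)]), (0, [(5, 1), (61, 1)]), (1, []), (0, [(307, 1), (2, 0)]),
  (11, [(2, 4), (7, 7)]), (0, [(3, 1), (103, 1)]), (1, []), (0, [(311, 1), (2, 0)]),
  (13, [(2, 8), (3, 3)]), (0, [(313, 1), (2, 0)]), (1, []), (7, [(3, 9), (5, 5)]),
  (0, [(2, 2), (79, 1)]), (0, [(317, 1), (2, 0)]), (1, []), (0, [(11, 1), (29, 1)]),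
  (0, [(2, 6), (5, 1)]), (0, [(3, 1), (107, 1)]), (1, []), (0, [(17, 1), (19, 1)]),
  (0, [(2, 2), (3, 4)]), (0, [(5, 2), (13, 1)]), (1, []), (0, [(3, 1), (109, 1)]),
  (0, [(2, 3), (41, 1)]), (0, [(7, 1), (47, 1)]), (1, []), (0, [(331, 1), (2, 0)]),
  (0, [(2, 2), (83, 1)]), (0, [(3, 2), (37, 1)]), (1, []), (0, [(5, 1), (67, 1)]),
  (7, [(2, 16), (3, 3)]), (0, [(337, 1), (2, 0)]), (1, []), (0, [(3, 1), (113, 1)]),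
  (17, [(2, 4), (5, 5)]), (0, [(11, 1), (31, 1)]), (1, []), (0, [(7, 3), (2, 0)]),
  (0, [(2, 3), (43, 1)]), (23, [(3, 3), (5, 5)]), (1, []), (0, [(347, 1), (2, 0)]),
  (29, [(2, 4), (3, 3)]), (0, [(349, 1), (2, 0)]), (1, []), (0, [(3, 3), (13, 1)]),
  (0, [(2, 5), (11, 1)]), (0, [(353, 1), (2, 0)]), (1, []), (0, [(5, 1), (71, 1)]),
  (0, [(2, 2), (89, 1)]), (17, [(3, 3), (7, 7)]), (1, []), (0, [(359, 1), (2, 0)]), (1, []),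
  (0, [(19, 2), (2, 0)]), (1, []), (0, [(3, 1), (11, 2)]), (13, [(2, 4), (7, 7)]),
  (0, [(5, 1), (73, 1)]), (1, []), (0, [(367, 1), (2, 0)]), (0, [(2, 4), (23, 1)]),
  (0, [(3, 2), (41, 1)]), (1, []), (0, [(7, 1), (53, 1)]), (31, [(2, 4), (3, 3)]),
  (0, [(373, 1), (2, 0)]), (1, []), (0, [(3, 1), (5, 3)]), (0, [(2, 3), (47, 1)]),
  (0, [(13, 1), (29, 1)]), (1, []), (0, [(379, 1), (2, 0)]), (19, [(2, 4), (5, 5)]),
  (0, [(3, 1), (127, 1)]), (1, []), (0, [(383, 1), (2, 0)]), (0, [(2, 7), (3, 1)]),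
  (11, [(5, 5), (7, 7)]), (1, []), (0, [(3, 2), (43, 1)]), (0, [(2, 2), (97, 1)]),
  (0, [(389, 1), (2, 0)]), (1, []), (0, [(17, 1), (23, 1)]), (0, [(2, 3), (7, 2)]),
  (0, [(3, 1), (131, 1)]), (1, []), (0, [(5, 1), (79, 1)]), (11, [(2, 4), (3, 9)]),
  (0, [(397, 1), (2, 0)]), (1, []), (19, [(3, 3), (7, 7)]), (0, [(2, 4), (5, 2)]),
  (0, [(401, 1), (2, 0)]), (1, []), (0, [(13, 1), (31, 1)]), (0, [(2, 2), (101, 1)]),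
  (0, [(3, 4), (5, 1)]), (1, []), (0, [(11, 1), (37, 1)]), (17, [(2, 8), (3, 3)]),
  (0, [(409, 1), (2, 0)]), (1, []), (0, [(3, 1), (137, 1)]), (0, [(2, 2), (103, 1)]),
  (0, [(7, 1), (59, 1)]), (1, []), (0, [(5, 1), (83, 1)]), (0, [(2, 5), (13, 1)]),
  (0, [(3, 1), (139, 1)]), (1, []), (0, [(419, 1), (2, 0)]), (7, [(2, 4), (3, 3), (5, 5)]),
  (0, [(421, 1), (2, 0)]), (1, []), (0, [(3, 2), (47, 1)]), (0, [(2, 3), (53, 1)]),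
  (0, [(5, 2), (17, 1)]), (1, []), (0, [(7, 1), (61, 1)]), (0, [(2, 2), (107, 1)]),
  (13, [(3, 3), (11, 11)]), (1, []), (0, [(431, 1), (2, 0)]), (0, [(2, 4), (3, 3)]),
  (0, [(433, 1), (2, 0)]), (1, []), (29, [(3, 3), (5, 5)]), (0, [(2, 2), (109, 1)]),
  (0, [(19, 1), (23, 1)]), (1, []), (0, [(439, 1), (2, 0)]), (11, [(2, 8), (5, 5)]),
  (0, [(3, 2), (7, 2)]), (1, []), (0, [(443, 1), (2, 0)]), (37, [(2, 4), (3, 3)]),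
  (0, [(5, 1), (89, 1)]), (1, []), (0, [(3, 1), (149, 1)]), (0, [(2, 6), (7, 1)]),
  (0, [(449, 1), (2, 0)]), (1, []), (0, [(11, 1), (41, 1)]), (0, [(2, 2), (113, 1)]),
  (0, [(3, 1), (151, 1)]), (1, []), (13, [(5, 5), (7, 7)]), (19, [(2, 8), (3, 3)]),
  (0, [(457, 1), (2, 0)]), (1, []), (0, [(3, 3), (17, 1)]), (23, [(2, 4), (5, 5)]),
  (0, [(461, 1), (2, 0)]), (1, []), (0, [(463, 1), (2, 0)]), (0, [(2, 4), (29, 1)]),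
  (31, [(3, 3), (5, 5)]), (1, []), (0, [(467, 1), (2, 0)]), (13, [(2, 4), (3, 9)]),
  (0, [(7, 1), (67, 1)]), (1, []), (0, [(3, 1), (157, 1)]), (0, [(2, 3), (59, 1)]),
  (0, [(11, 1), (43, 1)]), (1, []), (0, [(5, 2), (19, 1)]), (17, [(2, 4), (7, 7)]),
  (0, [(3, 2), (53, 1)]), (1, []), (0, [(479, 1), (2, 0)]), (5, [(2, 32), (3, 3)]),
  (0, [(13, 1), (37, 1)]), (1, []), (23, [(3, 3), (7, 7)]), (0, [(2, 2), (11, 2)]),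
  (0, [(5, 1), (97, 1)]), (1, []), (0, [(487, 1), (2, 0)]), (0, [(2, 3), (61, 1)]),
  (0, [(3, 1), (163, 1)]), (1, []), (0, [(491, 1), (2, 0)]), (41, [(2, 4), (3, 3)]),
  (0, [(17, 1), (29, 1)]), (1, []), (11, [(3, 9), (5, 5)]), (0, [(2, 4), (31, 1)]),
  (0, [(7, 1), (71, 1)]), (1, []), (0, [(499, 1), (2, 0)]), (0, [(2, 2), (5, 3)]),
  (0, [(3, 1), (167, 1)]), (1, []), (0, [(503, 1), (2, 0)]), (1, []), (0, [(5, 1), (101, 1)]),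
  (1, []), (0, [(3, 1), (13, 2)]), (0, [(2, 2), (127, 1)]), (0, [(509, 1), (2, 0)]), (1, []),
  (0, [(7, 1), (73, 1)]), (0, [(2, 9), (3, 0)]), (0, [(3, 3), (19, 1)]), (1, []),
  (0, [(5, 1), (103, 1)]), (43, [(2, 4), (3, 3)]), (0, [(11, 1), (47, 1)]), (1, []),
  (0, [(3, 1), (173, 1)]), (13, [(2, 8), (5, 5)]), (0, [(521, 1), (2, 0)]), (1, []),
  (0, [(523, 1), (2, 0)]), (0, [(2, 2), (131, 1)]), (7, [(3, 3), (5, 25)]), (1, []),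
  (0, [(17, 1), (31, 1)]), (11, [(2, 16), (3, 3)]), (0, [(23, 2), (2, 0)]), (1, []),
  (0, [(3, 2), (59, 1)]), (19, [(2, 4), (7, 7)]), (0, [(13, 1), (41, 1)]), (1, []),
  (0, [(5, 1), (107, 1)]), (0, [(2, 3), (67, 1)]), (0, [(3, 1), (179, 1)]), (1, []),
  (0, [(7, 2), (11, 1)]), (5, [(2, 4), (3, 27)]), (0, [(541, 1), (2, 0)]), (1, []),
  (0, [(3, 1), (181, 1)]), (0, [(2, 5), (17, 1)]), (0, [(5, 1), (109, 1)]), (1, []),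
  (0, [(547, 1), (2, 0)]), (0, [(2, 2), (137, 1)]), (0, [(3, 2), (61, 1)]), (1, []),
  (0, [(19, 1), (29, 1)]), (23, [(2, 8), (3, 3)]), (0, [(7, 1), (79, 1)]), (1, []),
  (37, [(3, 3), (5, 5)]), (0, [(2, 2), (139, 1)]), (0, [(557, 1), (2, 0)]), (1, []),
  (0, [(13, 1), (43, 1)]), (7, [(2, 16), (5, 5)]), (17, [(3, 3), (11, 11)]), (1, []),
  (0, [(563, 1), (2, 0)]), (47, [(2, 4), (3, 3)]), (0, [(5, 1), (113, 1)]), (1, []),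
  (0, [(3, 4), (7, 1)]), (0, [(2, 3), (71, 1)]), (0, [(569, 1), (2, 0)]), (1, []),
  (0, [(571, 1), (2, 0)]), (13, [(2, 4), (11, 11)]), (0, [(3, 1), (191, 1)]), (1, []),
  (0, [(5, 2), (23, 1)]), (0, [(2, 6), (3, 2)]), (0, [(577, 1), (2, 0)]), (1, []),
  (0, [(3, 1), (193, 1)]), (29, [(2, 4), (5, 5)]), (0, [(7, 1), (83, 1)]), (1, []),
  (0, [(11, 1), (53, 1)]), (0, [(2, 3), (73, 1)]), (13, [(3, 9), (5, 5)]), (1, []),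
  (0, [(587, 1), (2, 0)]), (3, [(2, 4), (7, 49)]), (0, [(19, 1), (31, 1)]), (1, []),
  (0, [(3, 1), (197, 1)]), (0, [(2, 4), (37, 1)]), (0, [(593, 1), (2, 0)]), (1, []),
  (17, [(5, 5), (7, 7)]), (0, [(2, 2), (149, 1)]), (0, [(3, 1), (199, 1)]), (1, []),
  (0, [(599, 1), (2, 0)])]

theorem h1 : goC 34 exc 300 c1 = true := by decide +kernel

theorem l1 : c1.length = 300 := by decide +kernel

/-- certificates for 600 to 849 -/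
def c2 : List (ℕ × List (ℕ × ℕ)) :=
  [(3, [(2, 8), (5, 25)]), (0, [(601, 1), (2, 0)]), (1, []), (0, [(3, 2), (67, 1)]),
  (0, [(2, 2), (151, 1)]), (0, [(5, 1), (11, 2)]), (1, []), (0, [(607, 1), (2, 0)]),
  (0, [(2, 5), (19, 1)]), (29, [(3, 3), (7, 7)]), (1, []), (0, [(13, 1), (47, 1)]),
  (17, [(2, 4), (3, 9)]), (0, [(613, 1), (2, 0)]), (1, []), (41, [(3, 3), (5, 5)]),
  (11, [(2, 8), (7, 7)]), (0, [(617, 1), (2, 0)]), (1, []), (0, [(619, 1), (2, 0)]),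
  (31, [(2, 4), (5, 5)]), (0, [(3, 3), (23, 1)]), (1, []), (0, [(7, 1), (89, 1)]),
  (13, [(2, 16), (3, 3)]), (0, [(5, 4), (2, 0)]), (1, []), (19, [(3, 3), (11, 11)]),
  (0, [(2, 2), (157, 1)]), (0, [(17, 1), (37, 1)]), (1, []), (0, [(631, 1), (2, 0)]),
  (0, [(2, 3), (79, 1)]), (0, [(3, 1), (211, 1)]), (1, []), (0, [(5, 1), (127, 1)]),
  (53, [(2, 4), (3, 3)]), (0, [(7, 2), (13, 1)]), (1, []), (0, [(3, 2), (71, 1)]),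
  (0, [(2, 7), (5, 1)]), (0, [(641, 1), (2, 0)]), (1, []), (0, [(643, 1), (2, 0)]),
  (23, [(2, 4), (7, 7)]), (43, [(3, 3), (5, 5)]), (1, []), (0, [(647, 1), (2, 0)]),
  (0, [(2, 3), (3, 4)]), (0, [(11, 1), (59, 1)]), (1, []), (31, [(3, 3), (7, 7)]),
  (0, [(2, 2), (163, 1)]), (0, [(653, 1), (2, 0)]), (1, []), (0, [(5, 1), (131, 1)]),
  (0, [(2, 4), (41, 1)]), (0, [(3, 2), (73, 1)]), (1, []), (0, [(659, 1), (2, 0)]), (1, []),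
  (0, [(661, 1), (2, 0)]), (1, []), (17, [(3, 3), (13, 13)]), (0, [(2, 3), (83, 1)]),
  (19, [(5, 5), (7, 7)]), (1, []), (0, [(23, 1), (29, 1)]), (0, [(2, 2), (167, 1)]),
  (0, [(3, 1), (223, 1)]), (1, []), (0, [(11, 1), (61, 1)]), (7, [(2, 32), (3, 3)]),
  (0, [(673, 1), (2, 0)]), (1, []), (0, [(3, 3), (5, 2)]), (0, [(2, 2), (13, 2)]),
  (0, [(677, 1), (2, 0)]), (1, []), (0, [(7, 1), (97, 1)]), (17, [(2, 8), (5, 5)]),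
  (0, [(3, 1), (227, 1)]), (1, []), (0, [(683, 1), (2, 0)]), (19, [(2, 4), (3, 9)]),
  (0, [(5, 1), (137, 1)]), (1, []), (0, [(3, 1), (229, 1)]), (0, [(2, 4), (43, 1)]),
  (0, [(13, 1), (53, 1)]), (1, []), (0, [(691, 1), (2, 0)]), (0, [(2, 2), (173, 1)]),
  (11, [(3, 9), (7, 7)]), (1, []), (0, [(5, 1), (139, 1)]), (29, [(2, 8), (3, 3)]),
  (0, [(17, 1), (41, 1)]), (1, []), (0, [(3, 1), (233, 1)]), (7, [(2, 4), (5, 25)]),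
  (0, [(701, 1), (2, 0)]), (1, []), (0, [(19, 1), (37, 1)]), (0, [(2, 6), (11, 1)]),
  (47, [(3, 3), (5, 5)]), (1, []), (0, [(7, 1), (101, 1)]), (59, [(2, 4), (3, 3)]),
  (0, [(709, 1), (2, 0)]), (1, []), (0, [(3, 2), (79, 1)]), (0, [(2, 3), (89, 1)]),
  (0, [(23, 1), (31, 1)]), (1, []), (13, [(5, 5), (11, 11)]), (0, [(2, 2), (179, 1)]),
  (0, [(3, 1), (239, 1)]), (1, []), (0, [(719, 1), (2, 0)]), (5, [(2, 16), (3, 9)]),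
  (0, [(7, 1), (103, 1)]), (1, []), (0, [(3, 1), (241, 1)]), (0, [(2, 2), (181, 1)]),
  (0, [(5, 2), (29, 1)]), (1, []), (0, [(727, 1), (2, 0)]), (13, [(2, 8), (7, 7)]),
  (0, [(3, 6), (2, 0)]), (1, []), (0, [(17, 1), (43, 1)]), (61, [(2, 4), (3, 3)]),
  (0, [(733, 1), (2, 0)]), (1, []), (5, [(3, 3), (7, 49)]), (0, [(2, 5), (23, 1)]),
  (0, [(11, 1), (67, 1)]), (1, []), (0, [(739, 1), (2, 0)]), (37, [(2, 4), (5, 5)]),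
  (13, [(3, 3), (19, 19)]), (1, []), (0, [(743, 1), (2, 0)]), (31, [(2, 8), (3, 3)]),
  (0, [(5, 1), (149, 1)]), (1, []), (0, [(3, 2), (83, 1)]), (17, [(2, 4), (11, 11)]),
  (0, [(7, 1), (107, 1)]), (1, []), (0, [(751, 1), (2, 0)]), (0, [(2, 4), (47, 1)]),
  (0, [(3, 1), (251, 1)]), (1, []), (0, [(5, 1), (151, 1)]), (7, [(2, 4), (3, 27)]),
  (0, [(757, 1), (2, 0)]), (1, []), (23, [(3, 3), (11, 11)]), (19, [(2, 8), (5, 5)]),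
  (0, [(761, 1), (2, 0)]), (1, []), (0, [(7, 1), (109, 1)]), (0, [(2, 2), (191, 1)]),
  (17, [(3, 9), (5, 5)]), (1, []), (0, [(13, 1), (59, 1)]), (0, [(2, 8), (3, 1)]),
  (0, [(769, 1), (2, 0)]), (1, []), (0, [(3, 1), (257, 1)]), (0, [(2, 2), (193, 1)]),
  (0, [(773, 1), (2, 0)]), (1, []), (0, [(5, 2), (31, 1)]), (0, [(2, 3), (97, 1)]),
  (37, [(3, 3), (7, 7)]), (1, []), (0, [(19, 1), (41, 1)]), (13, [(2, 4), (3, 3), (5, 5)]),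
  (0, [(11, 1), (71, 1)]), (1, []), (0, [(3, 3), (29, 1)]), (0, [(2, 4), (7, 2)]),
  (0, [(5, 1), (157, 1)]), (1, []), (0, [(787, 1), (2, 0)]), (0, [(2, 2), (197, 1)]),
  (0, [(3, 1), (263, 1)]), (1, []), (0, [(7, 1), (113, 1)]), (11, [(2, 8), (3, 9)]),
  (0, [(13, 1), (61, 1)]), (1, []), (53, [(3, 3), (5, 5)]), (0, [(2, 2), (199, 1)]),
  (0, [(797, 1), (2, 0)]), (1, []), (0, [(17, 1), (47, 1)]), (0, [(2, 5), (5, 2)]),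
  (0, [(3, 2), (89, 1)]), (1, []), (0, [(11, 1), (73, 1)]), (67, [(2, 4), (3, 3)]),
  (23, [(5, 5), (7, 7)]), (1, []), (0, [(3, 1), (269, 1)]), (0, [(2, 3), (101, 1)]),
  (0, [(809, 1), (2, 0)]), (1, []), (0, [(811, 1), (2, 0)]), (29, [(2, 4), (7, 7)]),
  (0, [(3, 1), (271, 1)]), (1, []), (0, [(5, 1), (163, 1)]), (17, [(2, 16), (3, 3)]),
  (0, [(19, 1), (43, 1)]), (1, []), (13, [(3, 9), (7, 7)]), (41, [(2, 4), (5, 5)]),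
  (0, [(821, 1), (2, 0)]), (1, []), (0, [(823, 1), (2, 0)]), (0, [(2, 3), (103, 1)]),
  (11, [(3, 3), (5, 25)]), (1, []), (0, [(827, 1), (2, 0)]), (23, [(2, 4), (3, 9)]),
  (0, [(829, 1), (2, 0)]), (1, []), (0, [(3, 1), (277, 1)]), (0, [(2, 6), (13, 1)]),
  (0, [(7, 2), (17, 1)]), (1, []), (0, [(5, 1), (167, 1)]), (19, [(2, 4), (11, 11)]),
  (0, [(3, 3), (31, 1)]), (1, []), (0, [(839, 1), (2, 0)]), (7, [(2, 8), (3, 3), (5, 5)]),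
  (0, [(29, 2), (2, 0)]), (1, []), (0, [(3, 1), (281, 1)]), (0, [(2, 2), (211, 1)]),
  (0, [(5, 1), (13, 2)]), (1, []), (0, [(7, 1), (11, 2)]), (0, [(2, 4), (53, 1)]),
  (0, [(3, 1), (283, 1)])]

theorem h2 : goC 34 exc 600 c2 = true := by decide +kernel

theorem l2 : c2.length = 250 := by decide +kernel

/-- certificates for 850 to 1092 -/
def c3 : List (ℕ × List (ℕ × ℕ)) :=
  [(1, []), (0, [(23, 1), (37, 1)]), (71, [(2, 4), (3, 3)]), (0, [(853, 1), (2, 0)]), (1, []),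
  (19, [(3, 9), (5, 5)]), (0, [(2, 3), (107, 1)]), (0, [(857, 1), (2, 0)]), (1, []),
  (0, [(859, 1), (2, 0)]), (43, [(2, 4), (5, 5)]), (41, [(3, 3), (7, 7)]), (1, []),
  (0, [(863, 1), (2, 0)]), (0, [(2, 5), (3, 3)]), (0, [(5, 1), (173, 1)]), (1, []),
  (0, [(3, 1), (17, 2)]), (31, [(2, 4), (7, 7)]), (0, [(11, 1), (79, 1)]), (1, []),
  (0, [(13, 1), (67, 1)]), (0, [(2, 3), (109, 1)]), (0, [(3, 2), (97, 1)]), (1, []),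
  (0, [(5, 3), (7, 1)]), (73, [(2, 4), (3, 3)]), (0, [(877, 1), (2, 0)]), (1, []),
  (0, [(3, 1), (293, 1)]), (11, [(2, 16), (5, 5)]), (0, [(881, 1), (2, 0)]), (1, []),
  (0, [(883, 1), (2, 0)]), (13, [(2, 4), (17, 17)]), (59, [(3, 3), (5, 5)]), (1, []),
  (0, [(887, 1), (2, 0)]), (37, [(2, 8), (3, 3)]), (0, [(7, 1), (127, 1)]), (1, []),
  (0, [(3, 4), (11, 1)]), (0, [(2, 2), (223, 1)]), (0, [(19, 1), (47, 1)]), (1, []),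
  (0, [(5, 1), (179, 1)]), (0, [(2, 7), (7, 1)]), (23, [(3, 3), (13, 13)]), (1, []),
  (0, [(29, 1), (31, 1)]), (1, []), (0, [(17, 1), (53, 1)]), (1, []), (43, [(3, 3), (7, 7)]),
  (0, [(2, 3), (113, 1)]), (0, [(5, 1), (181, 1)]), (1, []), (0, [(907, 1), (2, 0)]),
  (0, [(2, 2), (227, 1)]), (0, [(3, 2), (101, 1)]), (1, []), (0, [(911, 1), (2, 0)]),
  (19, [(2, 16), (3, 3)]), (0, [(11, 1), (83, 1)]), (1, []), (61, [(3, 3), (5, 5)]),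
  (0, [(2, 2), (229, 1)]), (0, [(7, 1), (131, 1)]), (1, []), (0, [(919, 1), (2, 0)]),
  (23, [(2, 8), (5, 5)]), (0, [(3, 1), (307, 1)]), (1, []), (0, [(13, 1), (71, 1)]),
  (11, [(2, 4), (3, 3), (7, 7)]), (0, [(5, 2), (37, 1)]), (1, []), (0, [(3, 2), (103, 1)]),
  (0, [(2, 5), (29, 1)]), (0, [(929, 1), (2, 0)]), (1, []), (0, [(7, 2), (19, 1)]),
  (0, [(2, 2), (233, 1)]), (0, [(3, 1), (311, 1)]), (1, []), (17, [(5, 5), (11, 11)]),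
  (13, [(2, 8), (3, 9)]), (0, [(937, 1), (2, 0)]), (1, []), (0, [(3, 1), (313, 1)]),
  (47, [(2, 4), (5, 5)]), (0, [(941, 1), (2, 0)]), (1, []), (0, [(23, 1), (41, 1)]),
  (0, [(2, 4), (59, 1)]), (7, [(3, 27), (5, 5)]), (1, []), (0, [(947, 1), (2, 0)]),
  (79, [(2, 4), (3, 3)]), (0, [(13, 1), (73, 1)]), (1, []), (0, [(3, 1), (317, 1)]),
  (17, [(2, 8), (7, 7)]), (0, [(953, 1), (2, 0)]), (1, []), (0, [(5, 1), (191, 1)]),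
  (0, [(2, 2), (239, 1)]), (29, [(3, 3), (11, 11)]), (1, []), (0, [(7, 1), (137, 1)]),
  (5, [(2, 64), (3, 3)]), (0, [(31, 2), (2, 0)]), (1, []), (0, [(3, 2), (107, 1)]),
  (0, [(2, 2), (241, 1)]), (0, [(5, 1), (193, 1)]), (1, []), (0, [(967, 1), (2, 0)]),
  (0, [(2, 3), (11, 2)]), (19, [(3, 3), (17, 17)]), (1, []), (0, [(971, 1), (2, 0)]),
  (0, [(2, 2), (3, 5)]), (0, [(7, 1), (139, 1)]), (1, []), (13, [(3, 3), (5, 25)]),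
  (0, [(2, 4), (61, 1)]), (0, [(977, 1), (2, 0)]), (1, []), (0, [(11, 1), (89, 1)]),
  (5, [(2, 4), (7, 49)]), (0, [(3, 2), (109, 1)]), (1, []), (0, [(983, 1), (2, 0)]),
  (41, [(2, 8), (3, 3)]), (0, [(5, 1), (197, 1)]), (1, []), (47, [(3, 3), (7, 7)]),
  (19, [(2, 4), (13, 13)]), (0, [(23, 1), (43, 1)]), (1, []), (0, [(991, 1), (2, 0)]),
  (0, [(2, 5), (31, 1)]), (0, [(3, 1), (331, 1)]), (1, []), (0, [(5, 1), (199, 1)]),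
  (83, [(2, 4), (3, 3)]), (0, [(997, 1), (2, 0)]), (1, []), (0, [(3, 3), (37, 1)]),
  (0, [(2, 3), (5, 3)]), (13, [(7, 7), (11, 11)]), (1, []), (0, [(17, 1), (59, 1)]),
  (0, [(2, 2), (251, 1)]), (67, [(3, 3), (5, 5)]), (1, []), (0, [(19, 1), (53, 1)]),
  (7, [(2, 16), (3, 9)]), (0, [(1009, 1), (2, 0)]), (1, []), (0, [(3, 1), (337, 1)]),
  (23, [(2, 4), (11, 11)]), (0, [(1013, 1), (2, 0)]), (1, []), (29, [(5, 5), (7, 7)]),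
  (0, [(2, 3), (127, 1)]), (0, [(3, 2), (113, 1)]), (1, []), (0, [(1019, 1), (2, 0)]),
  (17, [(2, 4), (3, 3), (5, 5)]), (0, [(1021, 1), (2, 0)]), (1, []), (31, [(3, 3), (11, 11)]),
  (0, [(2, 10), (3, 0)]), (0, [(5, 2), (41, 1)]), (1, []), (0, [(13, 1), (79, 1)]),
  (0, [(2, 2), (257, 1)]), (0, [(3, 1), (7, 3)]), (1, []), (0, [(1031, 1), (2, 0)]),
  (43, [(2, 8), (3, 3)]), (0, [(1033, 1), (2, 0)]), (1, []), (23, [(3, 9), (5, 5)]),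
  (37, [(2, 4), (7, 7)]), (0, [(17, 1), (61, 1)]), (1, []), (0, [(1039, 1), (2, 0)]),
  (13, [(2, 16), (5, 5)]), (0, [(3, 1), (347, 1)]), (1, []), (0, [(7, 1), (149, 1)]),
  (29, [(2, 4), (3, 9)]), (19, [(5, 5), (11, 11)]), (1, []), (0, [(3, 1), (349, 1)]),
  (0, [(2, 3), (131, 1)]), (0, [(1049, 1), (2, 0)]), (1, []), (0, [(1051, 1), (2, 0)]),
  (0, [(2, 2), (263, 1)]), (0, [(3, 4), (13, 1)]), (1, []), (0, [(5, 1), (211, 1)]),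
  (11, [(2, 32), (3, 3)]), (0, [(7, 1), (151, 1)]), (1, []), (0, [(3, 1), (353, 1)]),
  (53, [(2, 4), (5, 5)]), (0, [(1061, 1), (2, 0)]), (1, []), (0, [(1063, 1), (2, 0)]),
  (19, [(2, 8), (7, 7)]), (71, [(3, 3), (5, 5)]), (1, []), (0, [(11, 1), (97, 1)]),
  (89, [(2, 4), (3, 3)]), (0, [(1069, 1), (2, 0)]), (1, []), (17, [(3, 9), (7, 7)]),
  (0, [(2, 4), (67, 1)]), (0, [(29, 1), (37, 1)]), (1, []), (0, [(5, 2), (43, 1)]),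
  (0, [(2, 2), (269, 1)]), (0, [(3, 1), (359, 1)]), (1, []), (0, [(13, 1), (83, 1)]),
  (5, [(2, 8), (3, 27)]), (0, [(23, 1), (47, 1)]), (1, []), (0, [(3, 1), (19, 2)]),
  (0, [(2, 2), (271, 1)]), (31, [(5, 5), (7, 7)]), (1, []), (0, [(1087, 1), (2, 0)]),
  (0, [(2, 6), (17, 1)]), (0, [(3, 2), (11, 2)]), (1, []), (0, [(1091, 1), (2, 0)]), (1, [])]

theorem h3 : goC 34 exc 850 c3 = true := by decide +kernel

theorem l3 : c3.length = 243 := by decide +kernel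

end H21.NE.Cert1092
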