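import Cfsg.Agent.Lib.H21.PBlock

set_option autoImplicit false
set_option linter.unusedSectionVars false

/-!
The principal block of a group with a Sylow subgroup of prime order: final form.
-/

namespace H21.PLat

open Cfsg H18.CharBasic H18.CharOrtho H18.CharInd

universe u

variable {G : Type u} [Group G] {p : ℕ} [hp : Fact p.Prime] {x0 : G} {M : Ideal AlgInt}

theorem structure_thm2 [Fintype G] [Fintype (IrrCharacter G)] (hM : IsPModular p M)
    (hx0 : orderOf x0 = p) (hidx : ¬ p ∣ (Subgroup.zpowers x0).index) {e : ℕ}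
    (he : Nat.card (psi hx0).range = e) :
    ∃ (a : IrrCharacter G → ℤ) (Y : Finset (IrrCharacter G)) (ε : ℤ),
      (ε = 1 ∨ ε = -1) ∧ (∀ χ, a χ = 0 ∨ a χ = 1 ∨ a χ = -1) ∧
      (∀ χ, χ ∉ principalBlock M G → a χ = 0) ∧
      (∀ χ ∈ Y, χ ∈ principalBlock M G ∧ a χ = 0) ∧
      (∀ χ ∈ principalBlock M G, a χ ≠ 0 ∨ χ ∈ Y) ∧
      e * Y.card = p - 1 ∧ ∑ χ, a χ * a χ = e ∧ a (triv G) = 1 ∧
      (∀ χ, a χ ≠ 0 → ∀ k : ZMod p, k ≠ 0 → (χ : G → ℂ) (pw x0 k) = a χ) ∧
      (∀ χ, a χ ≠ 0 → ∃ m : ℤ, (charDegree (χ : G → ℂ) : ℤ) = a χ + p * m) ∧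
      (∀ χ ∈ Y, ∃ m : ℤ, (charDegree (χ : G → ℂ) : ℤ) = ε * e + p * m) ∧
      (∀ χ ∈ Y, ∀ y : G, ¬ p ∣ orderOf y → (ε : ℂ) * (χ : G → ℂ) y =
        ∑ ψ, (a ψ : ℂ) * (ψ : G → ℂ) y) ∧
      (∀ χ ∈ Y, ∑ j : ZMod p, bb p x0 (χ : G → ℂ) j = -(ε * e)) := by
  classical
  have hp1 := hp.out.one_lt
  obtain ⟨s, b, hes, hb0, hgram, hreg, hkap, hval, hdeg, hne, htriv⟩ :=
    block_vectors hM hx0 hidx
  rw [he] at hes
  simp only [he] at hgram hkap hdeg
  have hsb : ∀ χ ∈ principalBlock M G, ∑ j : ZMod p, bb p x0 (χ : G → ℂ) j =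
      e * ∑ i, (b i χ : ℂ) := by
    intro χ hχ
    have h1 := hkap χ hχ
    rw [kap_block hM hx0 hidx hχ] at h1
    have h2 : (Nat.card (VV p x0) : ℂ) ≠ 0 := by
      have : Nat.card (VV p x0) ≠ 0 := Nat.card_pos.ne'
      exact_mod_cast this
    exact mul_left_cancel₀ h2 h1
  have he0 : 0 < e := by
    rcases Nat.eq_zero_or_pos e with rfl | h
    · rw [zero_mul] at hes; omega
    · exact h
  have hs0 : 0 < s := by
    rcases Nat.eq_zero_or_pos s with rfl | h
    · rw [mul_zero] at hes; omega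
    · exact h
  have hpes : (p : ℤ) = e * s + 1 := by
    have : p = e * s + 1 := by omega
    exact_mod_cast this
  have hmass := fun χ => mass hM hx0 hidx hes (K := fun χ => ∑ i, b i χ)
    (fun χ hχ => Finset.sum_eq_zero fun i _ => hb0 i χ hχ)
    (fun χ hχ => by rw [hkap χ hχ]; push_cast; rfl) χ
  rcases Nat.lt_or_ge s 2 with hs | hs
  · have hs1 : s = 1 := by omega
    subst hs1
    have hK : ∀ χ, ∑ i, b i χ = b 0 χ := fun χ => by simp
    simp only [hK, Nat.cast_one] at hmass hdeg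
    have hg := hgram 0 0
    rw [if_pos rfl] at hg
    obtain ⟨h1, θ, hθt, hθ0⟩ := abs_one e he0 (b 0) hg hmass (triv G) (htriv 0)
    have hsub : ∀ c : ℤ, ∀ χ, (∀ i, b i χ = c) ↔ b 0 χ = c := by
      intro c χ
      exact ⟨fun h => h 0, fun h i => by rw [Subsingleton.elim i 0, h]⟩
    refine ⟨fun χ => if χ = θ then 0 else b 0 χ, {θ}, -b 0 θ, ?_, ?_, ?_, ?_, ?_, ?_, ?_, ?_, ?_,
      ?_, ?_, ?_, ?_⟩
    · rcases h1 θ with h | h | h
      · exact absurd h hθ0
      · exact Or.inr (by rw [h])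
      · exact Or.inl (by rw [h]; norm_num)
    · intro χ
      beta_reduce
      split_ifs
      · exact Or.inl rfl
      · exact h1 χ
    · intro χ hχ
      beta_reduce
      split_ifs
      · rfl
      · exact hb0 0 χ hχ
    · intro χ hχ
      rw [Finset.mem_singleton] at hχ
      subst hχ
      refine ⟨?_, if_pos rfl⟩
      by_contra hcon
      exact hθ0 (hb0 0 _ hcon)
    · intro χ hχ
      by_cases h : χ = θ
      · exact Or.inr (by rw [h]; exact Finset.mem_singleton_self _)
      · left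
        beta_reduce
        rw [if_neg h]
        obtain ⟨i, hi⟩ := hne χ hχ
        rwa [Subsingleton.elim i 0] at hi
    · rw [Finset.card_singleton, hes]
    · have h2 : ∀ χ, (if χ = θ then 0 else b 0 χ) * (if χ = θ then 0 else b 0 χ) =
          b 0 χ * b 0 χ - if χ = θ then b 0 χ * b 0 χ else 0 := by
        intro χ
        split_ifs <;> ring
      rw [Finset.sum_congr rfl (fun χ _ => h2 χ), Finset.sum_sub_distrib, hg,
        Finset.sum_ite_eq' Finset.univ θ, if_pos (Finset.mem_univ _)]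
      rcases h1 θ with h | h | h
      · exact absurd h hθ0
      · rw [h]; ring
      · rw [h]; ring
    · beta_reduce
      rw [if_neg (Ne.symm hθt)]
      exact htriv 0
    · intro χ hχ k hk
      beta_reduce at hχ ⊢
      have h2 : χ ≠ θ := fun h => hχ (if_pos h)
      rw [if_neg h2] at hχ ⊢
      exact hval χ (by by_contra hcon; exact hχ (hb0 0 χ hcon)) _ ((hsub _ χ).2 rfl) k hk
    · intro χ hχ
      beta_reduce at hχ ⊢
      have h2 : χ ≠ θ := fun h => hχ (if_pos h)
      rw [if_neg h2] at hχ ⊢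
      obtain ⟨m, hm⟩ := hdeg χ (by by_contra hcon; exact hχ (hb0 0 χ hcon))
      refine ⟨m - b 0 χ, ?_⟩
      rw [hm]
      push_cast at hpes
      linear_combination (b 0 χ) * hpes
    · intro χ hχ
      rw [Finset.mem_singleton] at hχ
      subst hχ
      obtain ⟨m, hm⟩ := hdeg χ (by by_contra hcon; exact hθ0 (hb0 0 _ hcon))
      exact ⟨m, by rw [hm]; ring⟩
    · intro χ hχ y hy
      rw [Finset.mem_singleton] at hχ
      subst hχ
      have h2 := hreg 0 y hy
      have h3 : ∀ ψ : IrrCharacter G, (((if ψ = χ then 0 else b 0 ψ : ℤ)) : ℂ) * (ψ : G → ℂ) y =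
          (b 0 ψ : ℂ) * (ψ : G → ℂ) y - if ψ = χ then (b 0 ψ : ℂ) * (ψ : G → ℂ) y else 0 := by
        intro ψ
        split_ifs <;> simp
      rw [Finset.sum_congr rfl (fun ψ _ => h3 ψ), Finset.sum_sub_distrib, h2,
        Finset.sum_ite_eq' Finset.univ χ, if_pos (Finset.mem_univ _)]
      push_cast
      ring
    · intro χ hχ
      rw [Finset.mem_singleton] at hχ
      subst hχ
      rw [hsb χ (by by_contra hcon; exact hθ0 (hb0 0 _ hcon))]
      have h2 : ∑ i : Fin 1, (b i χ : ℂ) = b 0 χ := by simp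
      rw [h2]
      push_cast
      ring
  · have hcomb : ∀ i, comb (b i) 1 = 0 := by
      intro i
      have h2 := hreg i 1 (by rw [orderOf_one]; exact hp1.ne' ∘ Nat.dvd_one.1)
      rw [comb, Finset.sum_apply]
      exact h2
    obtain ⟨ε, θ, a, hε, hinj, hba, ha, haθ, hnorm⟩ := abs_two s hs e b hgram hcomb hmass
    let i0 : Fin s := ⟨0, by omega⟩
    let i1 : Fin s := ⟨1, by omega⟩
    have hi01 : i0 ≠ i1 := by
      intro h
      have := congrArg Fin.val h
      simp [i0, i1] at this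
    have hε0 : ε ≠ 0 := by rcases hε with rfl | rfl <;> norm_num
    have hε2 : ε * ε = 1 := by rcases hε with rfl | rfl <;> norm_num
    have hθB : ∀ i, θ i ∈ principalBlock M G := by
      intro i
      by_contra hcon
      have h2 := hba i (θ i)
      rw [hb0 i _ hcon, haθ, if_pos rfl, zero_add] at h2
      exact hε0 h2.symm
    have hnr : ∀ χ, a χ ≠ 0 → ∀ i, χ ≠ θ i := by
      intro χ hχ i h
      exact hχ (by rw [h, haθ])
    have haB : ∀ χ, χ ∉ principalBlock M G → a χ = 0 := by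
      intro χ hχ
      have h2 := hba i0 χ
      rw [hb0 i0 χ hχ, if_neg (fun h => hχ (by rw [h]; exact hθB i0)), add_zero] at h2
      exact h2.symm
    have hconst : ∀ χ, a χ ≠ 0 → ∀ i, b i χ = a χ := by
      intro χ hχ i
      rw [hba i χ, if_neg (hnr χ hχ i), add_zero]
    have hK : ∀ χ, a χ ≠ 0 → ∑ i, b i χ = s * a χ := by
      intro χ hχ
      rw [Finset.sum_congr rfl (fun i _ => hconst χ hχ i), Finset.sum_const, Finset.card_univ,
        Fintype.card_fin, nsmul_eq_mul]
    have hKθ : ∀ i, ∑ j, b j (θ i) = ε := by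
      intro i
      have : ∀ j, b j (θ i) = if i = j then ε else 0 := by
        intro j
        rw [hba j (θ i), haθ i, zero_add]
        by_cases h : i = j
        · rw [if_pos h, if_pos (by rw [h])]
        · rw [if_neg h, if_neg (fun h2 => h (hinj h2))]
      rw [Finset.sum_congr rfl (fun j _ => this j), Finset.sum_ite_eq Finset.univ i,
        if_pos (Finset.mem_univ _)]
    refine ⟨a, Finset.univ.image θ, -ε, ?_, ha, haB, ?_, ?_, ?_, hnorm, ?_, ?_, ?_, ?_, ?_, ?_⟩
    · rcases hε with h | h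
      · exact Or.inr (by rw [h])
      · exact Or.inl (by rw [h]; norm_num)
    · intro χ hχ
      rw [Finset.mem_image] at hχ
      obtain ⟨i, -, rfl⟩ := hχ
      exact ⟨hθB i, haθ i⟩
    · intro χ hχ
      by_cases h0 : a χ = 0
      · right
        obtain ⟨i, hi⟩ := hne χ hχ
        rw [hba i χ, h0, zero_add] at hi
        by_cases h2 : χ = θ i
        · rw [h2]
          exact Finset.mem_image_of_mem _ (Finset.mem_univ _)
        · rw [if_neg h2] at hi
          exact absurd rfl hi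
      · exact Or.inl h0
    · rw [Finset.card_image_of_injective _ hinj, Finset.card_univ, Fintype.card_fin, hes]
    · have h2 := hba i0 (triv G)
      have h3 := hba i1 (triv G)
      rw [htriv] at h2 h3
      by_cases h4 : triv G = θ i0
      · rw [if_pos h4] at h2
        rw [if_neg (fun h => hi01 (hinj (h4.symm.trans h)))] at h3
        omega
      · rw [if_neg h4, add_zero] at h2
        exact h2.symm
    · intro χ hχ k hk
      exact hval χ (by by_contra hcon; exact hχ (haB χ hcon)) _ (hconst χ hχ) k hk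
    · intro χ hχ
      obtain ⟨m, hm⟩ := hdeg χ (by by_contra hcon; exact hχ (haB χ hcon))
      refine ⟨m - a χ, ?_⟩
      rw [hm, hK χ hχ]
      linear_combination (a χ) * hpes
    · intro χ hχ
      rw [Finset.mem_image] at hχ
      obtain ⟨i, -, rfl⟩ := hχ
      obtain ⟨m, hm⟩ := hdeg (θ i) (hθB i)
      refine ⟨m, ?_⟩
      rw [hm, hKθ i]
      ring
    · intro χ hχ y hy
      rw [Finset.mem_image] at hχ
      obtain ⟨i, -, rfl⟩ := hχ
      have h2 := hreg i y hy
      have h3 : ∀ ψ : IrrCharacter G, (b i ψ : ℂ) * (ψ : G → ℂ) y =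
          (a ψ : ℂ) * (ψ : G → ℂ) y + if ψ = θ i then (ε : ℂ) * (ψ : G → ℂ) y else 0 := by
        intro ψ
        rw [hba i ψ]
        split_ifs <;> push_cast <;> ring
      rw [Finset.sum_congr rfl (fun ψ _ => h3 ψ), Finset.sum_add_distrib,
        Finset.sum_ite_eq' Finset.univ (θ i), if_pos (Finset.mem_univ _)] at h2
      push_cast
      linear_combination -h2
    · intro χ hχ
      rw [Finset.mem_image] at hχ
      obtain ⟨i, -, rfl⟩ := hχ
      rw [hsb _ (hθB i)]
      have h2 : ∑ j, (b j (θ i) : ℂ) = ε := by exact_mod_cast hKθ i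
      rw [h2]
      push_cast
      ring

end H21.PLat
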