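import Cfsg.Agent.Lib.H21.CountElts
import Cfsg.Agent.S0105

set_option autoImplicit false

/-! Fixed points of elements normalizing a semiregular subgroup of prime order; simple groups
with an abelian Sylow subgroup: `P ∩ Z(N(P)) = 1`. -/

namespace H21.SemiregFix

open Subgroup MulAction H21.SimpleBasic H21.SylowTools H21.CountPrime H21.PrimeAct H21.PrimeCent
  H21.PrimeStruct H21.CountElts

/-- If `P` (of prime order `p`) acts semiregularly and `x` normalizes but does not centralize `P`,
then `p * |fix x| ≤ |α|`. -/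
theorem mul_card_fixedBy_le {G : Type*} [Group G] [Finite G] {p : ℕ} [hp : Fact p.Prime]
    {P : Subgroup G} (hP : Nat.card P = p) (α : Type*) [Finite α] [MulAction G α]
    (hsr : ∀ u ∈ P, u ≠ 1 → ∀ a : α, u • a ≠ a) {x : G} (hx : x ∈ normalizer (P : Set G))
    (hxC : x ∉ centralizer (P : Set G)) : p * Nat.card (fixedBy α x) ≤ Nat.card α := by
  have h1 : p * Nat.card (fixedBy α x) = Nat.card (P × fixedBy α x) := by
    rw [Nat.card_prod, hP]
  rw [h1]
  refine Nat.card_le_card_of_injective (fun v : P × fixedBy α x => (v.1 : G) • (v.2 : α)) ?_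
  rintro ⟨⟨v, hv⟩, ⟨a, ha⟩⟩ ⟨⟨w, hw⟩, ⟨b, hb⟩⟩ h
  have h2 : v • a = w • b := h
  rw [mem_fixedBy] at ha hb
  have hb' : b = (w⁻¹ * v) • a := by rw [mul_smul, h2, inv_smul_smul]
  set s := w⁻¹ * v with hs
  have hsP : s ∈ P := P.mul_mem (P.inv_mem hw) hv
  have hxs : x * s * x⁻¹ ∈ P := (Subgroup.mem_normalizer_iff.1 hx s).1 hsP
  have h3 : (s⁻¹ * (x * s * x⁻¹)) • a = a := by
    have hxa : x⁻¹ • a = a := by rw [inv_smul_eq_iff, ha]
    rw [mul_smul, mul_smul, mul_smul, hxa, ← hb', hb, hb', inv_smul_smul]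
  have h4 : s⁻¹ * (x * s * x⁻¹) = 1 := by
    by_contra hne
    exact hsr _ (P.mul_mem (P.inv_mem hsP) hxs) hne a h3
  have hs1 : s = 1 := by
    by_contra hne
    apply hxC
    have h5 : x * s * x⁻¹ = s := (inv_mul_eq_one.1 h4).symm
    have h6 : Commute s x := by
      change s * x = x * s
      nth_rw 1 [← h5]
      group
    rw [← zpowers_eq_of_card_prime hP hsP hne, Subgroup.mem_centralizer_iff]
    rintro _ ⟨k, rfl⟩
    exact (h6.zpow_left k).eq
  have hvw : v = w := (inv_mul_eq_one.1 hs1).symm
  subst hvw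
  rw [hs1, one_smul] at hb'
  subst hb'
  rfl

/-- a simple nonabelian group acting faithfully on `p ≡ 3 (mod 4)` points: no involution of
`N(P)` outside `C(P)`. -/
theorem no_involution_prime_degree {G : Type*} [Group G] [Finite G] [IsSimpleGroup G]
    (hG : ¬ IsMulCommutative G) {p : ℕ} [hp : Fact p.Prime] (hp4 : p % 4 = 3)
    {P : Subgroup G} (hP : Nat.card P = p) (α : Type*) [Finite α] [MulAction G α]
    (hα : Nat.card α = p)
    (hf : Function.Injective (MulAction.toPermHom G α)) {x : G} (hx2 : x ^ 2 = 1)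
    (hx : x ∈ normalizer (P : Set G)) (hxC : x ∉ centralizer (P : Set G)) : False := by
  have hsr : ∀ u ∈ P, u ≠ 1 → ∀ a : α, u • a ≠ a := by
    intro u hu hu1 a hua
    have hPp : IsPGroup p P := IsPGroup.of_card (n := 1) (by rw [hP, pow_one])
    have h1 := hPp.card_modEq_card_fixedPoints α
    rw [hα] at h1
    have hfixa : a ∈ fixedPoints P α := by
      rintro ⟨v, hv⟩
      have hv' : v ∈ Subgroup.zpowers u := by
        rw [zpowers_eq_of_card_prime hP hu hu1]; exact hv
      obtain ⟨k, rfl⟩ := hv'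
      have : u ∈ stabilizer G a := hua
      exact zpow_mem this k
    have hne : Nonempty (fixedPoints P α) := ⟨⟨a, hfixa⟩⟩
    have h2 : 0 < Nat.card (fixedPoints P α) := Nat.card_pos
    have h3 : p ∣ Nat.card (fixedPoints P α) := by
      have := (Nat.modEq_zero_iff_dvd.1 (h1.symm.trans (by
        rw [Nat.modEq_zero_iff_dvd])))
      exact this
    have h4 : Nat.card (fixedPoints P α) ≤ Nat.card α :=
      Nat.card_le_card_of_injective _ Subtype.val_injective
    have h5 : Nat.card (fixedPoints P α) = Nat.card α := by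
      have := Nat.le_of_dvd h2 h3
      omega
    have h6 : fixedPoints P α = Set.univ := by
      apply Set.eq_of_subset_of_ncard_le (Set.subset_univ _)
      rw [Set.ncard_univ, ← Nat.card_coe_set_eq, h5]
    apply hu1
    apply hf
    ext b
    have hb : b ∈ fixedPoints P α := by rw [h6]; trivial
    rw [map_one]
    exact hb ⟨u, hu⟩
  have h1 := mul_card_fixedBy_le hP α hsr hx hxC
  rw [hα] at h1
  have h2 : Nat.card (fixedBy α x) ≤ 1 := by
    by_contra hcon
    push Not at hcon
    have hp0 := hp.out.pos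
    have h3 : p * 2 ≤ p * Nat.card (fixedBy α x) := Nat.mul_le_mul_left p hcon
    omega
  have h3 := four_dvd_moved hG α x hx2
  rw [hα] at h3
  omega

/-- `P ∩ Z(N(P)) = 1` for `P` an abelian Sylow subgroup of a nonabelian simple group -/
theorem inf_centralizer_normalizer {G : Type*} [Group G] [Finite G] [IsSimpleGroup G]
    (hG : ¬ IsMulCommutative G) {p : ℕ} [hp : Fact p.Prime] (P : Sylow p G)
    (hP : IsMulCommutative (P : Subgroup G)) {x : G} (hx : x ∈ (P : Subgroup G))
    (hxN : ∀ n ∈ normalizer ((P : Subgroup G) : Set G), n * x = x * n) : x = 1 := by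
  obtain ⟨N, hN, ⟨e⟩⟩ := Cfsg.Agent.S0105.result P hP
  rcases hN.eq_bot_or_eq_top with h | h
  · exfalso
    subst h
    apply hG
    constructor
    constructor
    intro a b
    have e2 : G ≃* ((P : Subgroup G) ⊓ Subgroup.centralizer
        (Subgroup.normalizer (P : Set G) : Set G) : Subgroup G) :=
      QuotientGroup.quotientBot.symm.trans e
    apply e2.injective
    rw [map_mul, map_mul]
    apply Subtype.ext
    have h1 : ((e2 a : G)) ∈ (P : Subgroup G) := (e2 a).2.1
    have h2 : ((e2 b : G)) ∈ (P : Subgroup G) := (e2 b).2.1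
    exact congrArg (fun z : (P : Subgroup G) => (z : G)) (hP.is_comm.comm ⟨_, h1⟩ ⟨_, h2⟩)
  · subst h
    have hs : Subsingleton ((P : Subgroup G) ⊓ Subgroup.centralizer
        (Subgroup.normalizer (P : Set G) : Set G) : Subgroup G) := by
      have : Subsingleton (G ⧸ (⊤ : Subgroup G)) := QuotientGroup.subsingleton_quotient_top
      exact e.toEquiv.symm.subsingleton
    have hxm : x ∈ ((P : Subgroup G) ⊓ Subgroup.centralizer
        (Subgroup.normalizer (P : Set G) : Set G) : Subgroup G) :=
      ⟨hx, Subgroup.mem_centralizer_iff.2 hxN⟩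
    exact congrArg Subtype.val (Subsingleton.elim (⟨x, hxm⟩ :
      ((P : Subgroup G) ⊓ Subgroup.centralizer
        (Subgroup.normalizer (P : Set G) : Set G) : Subgroup G)) 1)

end H21.SemiregFix
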