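import Cfsg.Agent.Lib.H21.PSLEven
import Cfsg.Agent.Lib.H21.SemiregFix
import Cfsg.Agent.Lib.H21.PSLTransport

set_option autoImplicit false

/-! Simple groups of order 504 are `PSL(2,8)`. -/

namespace H21.PSLEight

open Subgroup MulAction H21.SimpleBasic H21.SylowTools H21.CountPrime H21.PrimeAct H21.PrimeCent
  H21.PrimeStruct H21.CountElts H21.SylowInter H21.SemiregFix H21.PSLEven

variable {G : Type*} [Group G] [Finite G] [IsSimpleGroup G]

theorem fact7 : Fact (Nat.Prime 7) := ⟨by norm_num⟩
theorem fact3 : Fact (Nat.Prime 3) := ⟨by norm_num⟩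

attribute [local instance] fact7 fact3

theorem cent_seven (h : Nat.card G = 504) :
    Nat.card (Sylow 7 G) = 36 ∧
    ∀ P : Sylow 7 G, Nat.card (P : Subgroup G) = 7 ∧
      Nat.card (centralizer ((P : Subgroup G) : Set G)) = 7 * 1 ∧
      Nat.card (normalizer ((P : Subgroup G) : Set G)) = 14 := by
  have hG : ¬ IsMulCommutative G := not_comm_of_card_not_prime (by rw [h]; norm_num)
  have hP : ∀ P : Sylow 7 G, Nat.card (P : Subgroup G) = 7 :=
    card_sylow_eq_prime (p := 7) (m := 72) h (by norm_num)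
  have h1 : Nat.card (Sylow 7 G) ∣ 72 := card_sylow_dvd_of_card (a := 1) (m := 72) (by rw [h]; norm_num)
  have h2 : Nat.card (Sylow 7 G) ≡ 1 [MOD 7] := card_sylow_modEq_one 7 G
  have h3 : Nat.card (Sylow 7 G) ≠ 1 := card_sylow_ne_one hG (by rw [h]; norm_num)
  have h4 : Nat.card (Sylow 7 G) = 1 + 1 * 7 ∨ Nat.card (Sylow 7 G) = 1 + 5 * 7 := by
    have key : ∀ n ≤ 72, n ∣ 72 → n % 7 = 1 % 7 → n ≠ 1 → n = 1 + 1 * 7 ∨ n = 1 + 5 * 7 := by decide
    exact key _ (Nat.le_of_dvd (by norm_num) h1) h1 h2 h3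
  rcases h4 with hr | hr
  · exfalso
    obtain ⟨P⟩ := (inferInstance : Nonempty (Sylow 7 G))
    obtain ⟨c, e, hc, hN, he1, he2, hcr, hcard⟩ := structure_prime hG hP hr P
    have hc1 : c = 1 := by simpa using hcr
    subst hc1
    have : e ≤ 6 := Nat.le_of_dvd (by norm_num) he1
    rw [h] at hcard
    omega
  · refine ⟨hr, fun P => ⟨hP P, ?_⟩⟩
    obtain ⟨c, e, hc, hN, he1, he2, hcr, hcard⟩ := structure_prime hG hP hr P
    rw [h] at hcard
    have hce : c * e = 2 := by
      have : 7 * 36 * (c * e) = 7 * 36 * 2 := by rw [← mul_assoc]; linarith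
      exact Nat.eq_of_mul_eq_mul_left (by norm_num) this
    have he : e = 2 := by
      have hd : e ∣ 2 := ⟨c, by rw [← hce]; ring⟩
      rcases (Nat.dvd_prime Nat.prime_two).1 hd with h5 | h5
      · exact absurd h5 he2
      · exact h5
    have hc1 : c = 1 := by rw [he] at hce; omega
    rw [hc1] at hc
    rw [hc1, he] at hN
    exact ⟨hc, hN⟩

/-- no subgroup of index 7 -/
theorem no_index_seven (h : Nat.card G = 504) (M : Subgroup G) (hM : Nat.card M = 72) : False := by
  have hG : ¬ IsMulCommutative G := not_comm_of_card_not_prime (by rw [h]; norm_num)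
  obtain ⟨-, hP7⟩ := cent_seven h
  obtain ⟨P⟩ := (inferInstance : Nonempty (Sylow 7 G))
  obtain ⟨hP1, hP2, hP3⟩ := hP7 P
  have h2 : 2 ∣ Nat.card (normalizer ((P : Subgroup G) : Set G)) := by rw [hP3]; norm_num
  obtain ⟨⟨t, htN⟩, ht⟩ := exists_prime_orderOf_dvd_card' 2 h2
  rw [Subgroup.orderOf_mk] at ht
  have htC : t ∉ centralizer ((P : Subgroup G) : Set G) := by
    intro htC
    have h3 := orderOf_dvd_natCard (⟨t, htC⟩ : centralizer ((P : Subgroup G) : Set G))
    rw [Subgroup.orderOf_mk, ht, hP2] at h3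
    norm_num at h3
  have hMtop : M ≠ ⊤ := by
    rintro rfl
    rw [Subgroup.card_top, h] at hM
    norm_num at hM
  have hidx : Nat.card (G ⧸ M) = 7 := by
    have h3 := Subgroup.card_mul_index M
    rw [hM, h] at h3
    change M.index = 7
    omega
  exact no_involution_prime_degree hG (p := 7) (by norm_num) hP1 (G ⧸ M) hidx
    (toPermHom_quotient_injective M hMtop) (by rw [← ht]; exact pow_orderOf_eq_one t) htN htC

theorem sylow_three (h : Nat.card G = 504) : Nat.card (Sylow 3 G) = 28 := by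
  have hG : ¬ IsMulCommutative G := not_comm_of_card_not_prime (by rw [h]; norm_num)
  have h1 : Nat.card (Sylow 3 G) ∣ 56 := card_sylow_dvd_of_card (a := 2) (m := 56) (by rw [h]; norm_num)
  have h2 : Nat.card (Sylow 3 G) ≡ 1 [MOD 3] := card_sylow_modEq_one 3 G
  have h3 : Nat.card (Sylow 3 G) ≠ 1 := card_sylow_ne_one hG (by rw [h]; norm_num)
  have h4 : Nat.card (Sylow 3 G) = 4 ∨ Nat.card (Sylow 3 G) = 7 ∨ Nat.card (Sylow 3 G) = 28 := by
    have key : ∀ n ≤ 56, n ∣ 56 → n % 3 = 1 % 3 → n ≠ 1 → n = 4 ∨ n = 7 ∨ n = 28 := by decide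
    exact key _ (Nat.le_of_dvd (by norm_num) h1) h1 h2 h3
  obtain ⟨P⟩ := (inferInstance : Nonempty (Sylow 3 G))
  have hN := card_normalizer_mul_card_sylow P
  have hNtop := normalizer_sylow_ne_top hG (p := 3) (by rw [h]; norm_num) P
  rcases h4 with h5 | h5 | h5
  · exfalso
    rw [h5] at hN
    have h6 := dvd_factorial_of_card hG _ hNtop hN
    rw [h] at h6
    norm_num [Nat.factorial] at h6
  · exfalso
    rw [h5, h] at hN
    exact no_index_seven h (normalizer ((P : Subgroup G) : Set G)) (by omega)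
  · exact h5

theorem cent_three (h : Nat.card G = 504) (P : Sylow 3 G) :
    Nat.card (P : Subgroup G) = 9 ∧ ∀ x ∈ (P : Subgroup G), x ≠ 1 →
      centralizer ({x} : Set G) = (P : Subgroup G) := by
  have hG : ¬ IsMulCommutative G := not_comm_of_card_not_prime (by rw [h]; norm_num)
  have hP9 : Nat.card (P : Subgroup G) = 9 :=
    card_sylow_eq_pow (a := 2) (m := 56) (by rw [h]; norm_num) (by norm_num) P
  have hcomm : IsMulCommutative (P : Subgroup G) :=
    IsPGroup.isMulCommutative_of_card_eq_prime_sq (p := 3) (by rw [hP9]; norm_num)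
  have hN := card_normalizer_mul_card_sylow P
  rw [sylow_three h, h] at hN
  have hN18 : Nat.card (normalizer ((P : Subgroup G) : Set G)) = 18 := by omega
  have hPC : (P : Subgroup G) ≤ centralizer ((P : Subgroup G) : Set G) := Subgroup.le_centralizer _
  have hCN : centralizer ((P : Subgroup G) : Set G) ≤ normalizer ((P : Subgroup G) : Set G) :=
    Subgroup.centralizer_le_normalizer _
  have hCne : Nat.card (centralizer ((P : Subgroup G) : Set G)) ≠ 18 := by
    intro hC
    apply burnside_not_le hG (p := 3) (by rw [h]; norm_num) P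
    exact (Subgroup.eq_of_le_of_card_ge hCN (by rw [hC, hN18])).ge
  have hC9 : Nat.card (centralizer ((P : Subgroup G) : Set G)) = 9 := by
    have h1 := Subgroup.card_dvd_of_le hPC
    have h2 := Subgroup.card_dvd_of_le hCN
    rw [hP9] at h1
    rw [hN18] at h2
    obtain ⟨k, hk⟩ := h1
    have h3 := Nat.le_of_dvd (by norm_num) h2
    have hpos : 0 < Nat.card (centralizer ((P : Subgroup G) : Set G)) := Nat.card_pos
    omega
  have hCeq : centralizer ((P : Subgroup G) : Set G) = (P : Subgroup G) :=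
    (Subgroup.eq_of_le_of_card_ge hPC (by rw [hC9, hP9])).symm
  -- an involution in N(P)
  have h2 : 2 ∣ Nat.card (normalizer ((P : Subgroup G) : Set G)) := by rw [hN18]; norm_num
  obtain ⟨⟨t, htN⟩, ht⟩ := exists_prime_orderOf_dvd_card' 2 h2
  rw [Subgroup.orderOf_mk] at ht
  have htP : t ∉ (P : Subgroup G) := by
    intro htP
    have h3 := orderOf_dvd_natCard (⟨t, htP⟩ : (P : Subgroup G))
    rw [Subgroup.orderOf_mk, ht, hP9] at h3
    norm_num at h3
  have ht2 : t * t = 1 := by
    have := pow_orderOf_eq_one t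
    rwa [ht, pow_two] at this
  -- N(P) is generated by P and t
  have hNgen : ∀ n ∈ normalizer ((P : Subgroup G) : Set G), n ∈ (P : Subgroup G) ∨
      t * n ∈ (P : Subgroup G) := by
    intro n hn
    set N := normalizer ((P : Subgroup G) : Set G) with hNdef
    have hidx : ((P : Subgroup G).subgroupOf N).index = 2 := by
      have h3 := Subgroup.card_mul_index ((P : Subgroup G).subgroupOf N)
      rw [Nat.card_congr (Subgroup.subgroupOfEquivOfLe (Subgroup.le_normalizer)).toEquiv, hP9,
        hN18] at h3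
      omega
    by_cases hnP : n ∈ (P : Subgroup G)
    · exact Or.inl hnP
    · right
      have h3 := (Subgroup.mul_mem_iff_of_index_two hidx (a := ⟨t, htN⟩) (b := ⟨n, hn⟩)).2
        (by
          rw [Subgroup.mem_subgroupOf, Subgroup.mem_subgroupOf]
          exact ⟨fun h => absurd h htP, fun h => absurd h hnP⟩)
      exact h3
  have hcP : ∀ a ∈ (P : Subgroup G), ∀ b ∈ (P : Subgroup G), a * b = b * a := by
    intro a ha b hb
    exact congrArg (fun z : (P : Subgroup G) => (z : G)) (hcomm.is_comm.comm ⟨a, ha⟩ ⟨b, hb⟩)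
  have hfix : ∀ x ∈ (P : Subgroup G), t * x = x * t → x = 1 := by
    intro x hx htx
    apply inf_centralizer_normalizer hG P hcomm hx
    intro n hn
    rcases hNgen n hn with h3 | h3
    · exact hcP n h3 x hx
    · have h4 := hcP _ h3 x hx
      have h5 : n = t * (t * n) := by rw [← mul_assoc, ht2, one_mul]
      rw [h5, mul_assoc, h4, ← mul_assoc, ← mul_assoc, htx]
      group
  have hinv : ∀ x ∈ (P : Subgroup G), t * x * t⁻¹ = x⁻¹ := by
    intro x hx
    have htx : t * x * t⁻¹ ∈ (P : Subgroup G) := (Subgroup.mem_normalizer_iff.1 htN x).1 hx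
    have h3 : x * (t * x * t⁻¹) = 1 := by
      apply hfix _ (mul_mem hx htx)
      have htt : t⁻¹ = t := inv_eq_of_mul_eq_one_left ht2
      have h4 := hcP _ hx _ htx
      rw [htt] at h4 ⊢
      calc t * (x * (t * x * t)) = (t * x * t) * x * t := by group
        _ = x * (t * x * t) * t := by rw [← h4]
    exact eq_inv_of_mul_eq_one_right h3
  refine ⟨hP9, ?_⟩
  -- elements of order 3
  have hord3 : ∀ x ∈ (P : Subgroup G), orderOf x = 3 →
      centralizer ({x} : Set G) = (P : Subgroup G) := by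
    intro x hx hx3
    have hx1 : x ≠ 1 := by rintro rfl; rw [orderOf_one] at hx3; norm_num at hx3
    have hPx : (P : Subgroup G) ≤ centralizer ({x} : Set G) := by
      intro y hy
      rw [Subgroup.mem_centralizer_singleton_iff]
      exact hcP y hy x hx
    have hcz : centralizer ({x} : Set G) = centralizer ((Subgroup.zpowers x : Subgroup G) : Set G) := by
      rw [Subgroup.zpowers_eq_closure, Subgroup.centralizer_closure]
    have htx : t ∉ centralizer ({x} : Set G) := by
      intro h3
      rw [Subgroup.mem_centralizer_singleton_iff] at h3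
      exact hx1 (hfix x hx h3)
    have htNx : t ∈ normalizer ((Subgroup.zpowers x : Subgroup G) : Set G) := by
      have hsub : ∀ y ∈ Subgroup.zpowers x, t * y * t⁻¹ ∈ Subgroup.zpowers x := by
        rintro _ ⟨k, rfl⟩
        refine ⟨-k, ?_⟩
        change x ^ (-k) = t * x ^ k * t⁻¹
        rw [← conj_zpow, hinv x hx, inv_zpow, zpow_neg]
      rw [Subgroup.mem_normalizer_iff]
      intro y
      constructor
      · exact hsub y
      · intro hy
        have h3 := hsub _ hy
        have htt : t⁻¹ = t := inv_eq_of_mul_eq_one_left ht2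
        rw [htt] at h3
        have h4 : t * (t * y * t) * t = y := by
          calc t * (t * y * t) * t = (t * t) * y * (t * t) := by group
            _ = y := by rw [ht2, one_mul, mul_one]
        rwa [h4] at h3
    -- orders
    have hc1 := Subgroup.card_dvd_of_le hPx
    rw [hP9] at hc1
    obtain ⟨m, hm⟩ := hc1
    have hrel := card_centralizer_mul_relIndex (Subgroup.zpowers x)
    have hrel2 := relIndex_centralizer_dvd_card_mulAut (Subgroup.zpowers x)
    have hczc : Nat.card (Subgroup.zpowers x) = 3 := by rw [Nat.card_zpowers, hx3]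
    have hcyc : IsCyclic (Subgroup.zpowers x) := isCyclic_of_prime_card hczc
    rw [hcyc.card_mulAut, hczc, Nat.totient_prime (by norm_num)] at hrel2
    rw [← hcz] at hrel hrel2
    have hrel3 : (centralizer ({x} : Set G)).relIndex
        (normalizer ((Subgroup.zpowers x : Subgroup G) : Set G)) ≠ 1 := by
      intro h3
      rw [Subgroup.relIndex_eq_one] at h3
      exact htx (h3 htNx)
    have hrel4 : (centralizer ({x} : Set G)).relIndex
        (normalizer ((Subgroup.zpowers x : Subgroup G) : Set G)) = 2 := by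
      rcases (Nat.dvd_prime Nat.prime_two).1 hrel2 with h3 | h3
      · exact absurd h3 hrel3
      · exact h3
    rw [hrel4, hm] at hrel
    have hMd : Nat.card (normalizer ((Subgroup.zpowers x : Subgroup G) : Set G)) ∣ 504 := by
      rw [← h]; exact Subgroup.card_subgroup_dvd_card _
    have hCd : 9 * m ∣ 504 := by
      rw [← hm, ← h]; exact Subgroup.card_subgroup_dvd_card _
    -- 7 does not divide |C(x)|
    have h7 : ¬ 7 ∣ 9 * m := by
      intro h3
      rw [← hm] at h3
      obtain ⟨⟨y, hyC⟩, hy⟩ := exists_prime_orderOf_dvd_card' 7 h3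
      rw [Subgroup.orderOf_mk] at hy
      obtain ⟨Q, hQ1, hQ2⟩ := exists_sylow_of_dvd (fun Q => ((cent_seven h).2 Q).1)
        (show 7 ∣ orderOf y by rw [hy])
      have hxQ : x ∈ centralizer ((Q : Subgroup G) : Set G) := by
        rw [hQ2, Subgroup.mem_centralizer_iff]
        rintro _ ⟨k, rfl⟩
        rw [Subgroup.mem_centralizer_singleton_iff] at hyC
        have h4 : Commute y x := hyC
        exact ((h4.pow_left _).zpow_left k).eq
      have h4 := orderOf_dvd_natCard (⟨x, hxQ⟩ : centralizer ((Q : Subgroup G) : Set G))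
      rw [Subgroup.orderOf_mk, hx3, ((cent_seven h).2 Q).2.1] at h4
      norm_num at h4
    have hm3 : m = 1 ∨ m = 2 ∨ m = 4 := by
      rw [← hrel] at hMd
      have key : ∀ m ≤ 56, 9 * m * 2 ∣ 504 → ¬ 7 ∣ 9 * m → m = 1 ∨ m = 2 ∨ m = 4 := by decide
      have hle := Nat.le_of_dvd (by norm_num) hCd
      exact key m (by omega) hMd h7
    rcases hm3 with rfl | rfl | rfl
    · exact (Subgroup.eq_of_le_of_card_ge hPx (by rw [hm, hP9])).symm
    · exfalso
      have hidx : ((P : Subgroup G).subgroupOf (centralizer ({x} : Set G))).index = 2 := by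
        have h3 := Subgroup.card_mul_index ((P : Subgroup G).subgroupOf (centralizer ({x} : Set G)))
        rw [Nat.card_congr (Subgroup.subgroupOfEquivOfLe hPx).toEquiv, hP9, hm] at h3
        omega
      have hnorm := Subgroup.normal_of_index_eq_two hidx
      rw [Subgroup.normal_subgroupOf_iff_le_normalizer hPx] at hnorm
      have heq := Subgroup.eq_of_le_of_card_ge hnorm (by rw [hm, hN18])
      exact htx (by rw [heq]; exact htN)
    · exfalso
      exact no_index_seven h _ (by rw [← hrel])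
  intro x hx hx1
  have hPx : (P : Subgroup G) ≤ centralizer ({x} : Set G) := by
    intro y hy
    rw [Subgroup.mem_centralizer_singleton_iff]
    exact hcP y hy x hx
  have hxo : orderOf x ∣ 3 ^ 2 := by
    have := orderOf_dvd_natCard (⟨x, hx⟩ : (P : Subgroup G))
    rw [Subgroup.orderOf_mk, hP9] at this
    exact this
  obtain ⟨k, hk, hxk⟩ := (Nat.dvd_prime_pow (by norm_num)).1 hxo
  have hk' : k = 1 ∨ k = 2 := by
    have : k ≠ 0 := by
      rintro rfl
      rw [pow_zero, orderOf_eq_one_iff] at hxk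
      exact hx1 hxk
    omega
  rcases hk' with rfl | rfl
  · exact hord3 x hx (by rw [hxk]; norm_num)
  · have h3 : orderOf (x ^ 3) = 3 := by
      rw [orderOf_pow_of_dvd (by norm_num) (by rw [hxk]; norm_num), hxk]
      norm_num
    have h4 := hord3 (x ^ 3) (pow_mem hx 3) h3
    apply le_antisymm _ hPx
    rw [← h4]
    intro y hy
    rw [Subgroup.mem_centralizer_singleton_iff] at hy ⊢
    exact ((show Commute y x from hy).pow_right 3).eq

theorem psl_eight (h : Nat.card G = 504) {F : Type*} [Field F] [Fintype F]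
    (hF : Fintype.card F = 8) :
    Nonempty (G ≃* Matrix.ProjectiveSpecialLinearGroup (Fin 2) F) := by
  have hG : ¬ IsMulCommutative G := not_comm_of_card_not_prime (by rw [h]; norm_num)
  obtain ⟨hn7, h7⟩ := cent_seven h
  -- counting
  have hc7 := card_dvd_orderOf (fun P => (h7 P).1) (fun P => (h7 P).2.1)
  rw [hn7] at hc7
  have hTI : ∀ P Q : Sylow 3 G, ∀ x ∈ (P : Subgroup G), x ∈ (Q : Subgroup G) → x ≠ 1 → P = Q := by
    intro P Q x hxP hxQ hx1
    apply Sylow.ext
    rw [← (cent_three h P).2 x hxP hx1, ← (cent_three h Q).2 x hxQ hx1]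
  have hc3 := card_pelt_of_TI (fun P => (cent_three h P).1) hTI
  rw [sylow_three h] at hc3
  have hcount : Nat.card {g : G // g ≠ 1 ∧ ∃ k, orderOf g = 2 ^ k} ≤ 63 := by
    have e1 := card_or (α := G) (fun g => g ≠ 1 ∧ ∃ k, orderOf g = 2 ^ k)
      (fun g => g ≠ 1 ∧ ∃ k, orderOf g = 3 ^ k) (by
        rintro g ⟨hg1, k, hk⟩ ⟨-, l, hl⟩
        rw [hk] at hl
        have hk0 : k ≠ 0 := by
          rintro rfl
          rw [pow_zero, orderOf_eq_one_iff] at hk
          exact hg1 hk
        have h2 : 2 ∣ 3 ^ l := by rw [← hl]; exact dvd_pow_self 2 hk0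
        have := Nat.prime_two.dvd_of_dvd_pow h2
        norm_num at this)
    have e2 := card_or (α := G) (fun g => (g ≠ 1 ∧ ∃ k, orderOf g = 2 ^ k) ∨
        (g ≠ 1 ∧ ∃ k, orderOf g = 3 ^ k)) (fun g => 7 ∣ orderOf g) (by
        rintro g (⟨hg1, k, hk⟩ | ⟨hg1, k, hk⟩) hg7
        · rw [hk] at hg7
          have := (by norm_num : Nat.Prime 7).dvd_of_dvd_pow hg7
          norm_num at this
        · rw [hk] at hg7
          have := (by norm_num : Nat.Prime 7).dvd_of_dvd_pow hg7
          norm_num at this)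
    have e3 := card_or (α := G) (fun g => ((g ≠ 1 ∧ ∃ k, orderOf g = 2 ^ k) ∨
        (g ≠ 1 ∧ ∃ k, orderOf g = 3 ^ k)) ∨ 7 ∣ orderOf g) (fun g => g = 1) (by
        rintro g ((⟨hg1, k, hk⟩ | ⟨hg1, k, hk⟩) | hg7) rfl
        · exact hg1 rfl
        · exact hg1 rfl
        · rw [orderOf_one] at hg7
          norm_num at hg7)
    have e4 := card_sub_le (α := G) (fun g => (((g ≠ 1 ∧ ∃ k, orderOf g = 2 ^ k) ∨
        (g ≠ 1 ∧ ∃ k, orderOf g = 3 ^ k)) ∨ 7 ∣ orderOf g) ∨ g = 1)
    rw [e3, e2, e1, h] at e4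
    have e5 : Nat.card {g : G // g = 1} = 1 := by
      rw [Nat.card_eq_one_iff_unique]
      exact ⟨⟨fun a b => Subtype.ext (a.2.trans b.2.symm)⟩, ⟨⟨1, rfl⟩⟩⟩
    rw [e5] at e4
    omega
  have hz : ∀ z : G, orderOf z = 2 → IsPGroup 2 (centralizer ({z} : Set G)) := by
    intro z hz
    have h3 : ¬ 3 ∣ Nat.card (centralizer ({z} : Set G)) := by
      intro h3
      obtain ⟨⟨y, hyC⟩, hy⟩ := exists_prime_orderOf_dvd_card' 3 h3
      rw [Subgroup.orderOf_mk] at hy
      have hyp : IsPGroup 3 (Subgroup.zpowers y) :=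
        IsPGroup.of_card (n := 1) (by rw [Nat.card_zpowers, hy, pow_one])
      obtain ⟨Q, hQ⟩ := hyp.exists_le_sylow
      obtain ⟨hQ9, hQc⟩ := cent_three h Q
      have hyQ : y ∈ (Q : Subgroup G) := hQ (Subgroup.mem_zpowers y)
      have hzy : z ∈ centralizer ({y} : Set G) := by
        rw [Subgroup.mem_centralizer_singleton_iff] at hyC ⊢
        exact hyC.symm
      rw [hQc y hyQ (by rintro rfl; rw [orderOf_one] at hy; norm_num at hy)] at hzy
      have h4 := orderOf_dvd_natCard (⟨z, hzy⟩ : (Q : Subgroup G))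
      rw [Subgroup.orderOf_mk, hz, hQ9] at h4
      norm_num at h4
    have h7' : ¬ 7 ∣ Nat.card (centralizer ({z} : Set G)) := by
      intro h3
      obtain ⟨⟨y, hyC⟩, hy⟩ := exists_prime_orderOf_dvd_card' 7 h3
      rw [Subgroup.orderOf_mk] at hy
      obtain ⟨Q, hQ1, hQ2⟩ := exists_sylow_of_dvd (fun Q => (h7 Q).1)
        (show 7 ∣ orderOf y by rw [hy])
      have hzQ : z ∈ centralizer ((Q : Subgroup G) : Set G) := by
        rw [hQ2, Subgroup.mem_centralizer_iff]
        rintro _ ⟨k, rfl⟩
        rw [Subgroup.mem_centralizer_singleton_iff] at hyC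
        have h4 : Commute y z := hyC
        exact ((h4.pow_left _).zpow_left k).eq
      have h4 := orderOf_dvd_natCard (⟨z, hzQ⟩ : centralizer ((Q : Subgroup G) : Set G))
      rw [Subgroup.orderOf_mk, hz, (h7 Q).2.1] at h4
      norm_num at h4
    have hd : Nat.card (centralizer ({z} : Set G)) ∣ 504 := by
      rw [← h]; exact Subgroup.card_subgroup_dvd_card _
    have hd8 : Nat.card (centralizer ({z} : Set G)) ∣ 2 ^ 3 := by
      have hcop : Nat.Coprime (Nat.card (centralizer ({z} : Set G))) 63 := by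
        have e1 : Nat.Coprime (Nat.card (centralizer ({z} : Set G))) 3 :=
          (Nat.Coprime.symm ((Nat.Prime.coprime_iff_not_dvd (by norm_num)).2 h3))
        have e2 : Nat.Coprime (Nat.card (centralizer ({z} : Set G))) 7 :=
          (Nat.Coprime.symm ((Nat.Prime.coprime_iff_not_dvd (by norm_num)).2 h7'))
        exact (e1.mul_right e1).mul_right e2
      exact hcop.dvd_of_dvd_mul_right (by norm_num; exact hd)
    obtain ⟨k, -, hk⟩ := (Nat.dvd_prime_pow Nat.prime_two).1 hd8
    exact IsPGroup.of_card hk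
  obtain ⟨T⟩ := (inferInstance : Nonempty (Sylow 2 G))
  have hT : Nat.card (T : Subgroup G) = 8 :=
    card_sylow_eq_pow (a := 3) (m := 63) (by rw [h]; norm_num) (by norm_num) T
  have hyp := hyp_of_count hG (q := 8) (m := 63) (by rw [h]) T hT (by norm_num) hz hcount
  obtain ⟨K, iK, iKf, hK, ⟨e⟩⟩ := H25.ElemCent.isPSL2 hyp
  obtain ⟨f⟩ := H21.PSLTransport.psl_congr_card (K := K) (L := F) (hK.trans (hT.trans hF.symm)) (Fin 2)
  exact ⟨e.trans f⟩

end H21.PSLEight
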