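import Cfsg.Agent.Lib.H21.CountElts
import Cfsg.Agent.Lib.H25.ElemCent4
import Cfsg.Agent.Lib.H21.SylowInter

set_option autoImplicit false

/-! Recognition of `PSL(2,2^n)` by counting 2-elements. -/

namespace H21.PSLEven

open Subgroup MulAction H21.SimpleBasic H21.SylowTools H21.CountPrime H21.PrimeAct H21.PrimeCent
  H21.PrimeStruct H21.CountElts

variable {G : Type*} [Group G] [Finite G]

omit [Finite G] in
theorem orderOf_conj' (z c : G) : orderOf (c * z * c⁻¹) = orderOf z := by
  refine (SemiconjBy.orderOf_eq c ?_).symm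
  change c * z = c * z * c⁻¹ * c
  group

theorem hyp_of_count [IsSimpleGroup G] (hG : ¬ IsMulCommutative G) {q m : ℕ}
    (hcard : Nat.card G = q * m) (T : Sylow 2 G) (hT : Nat.card (T : Subgroup G) = q) (hq : 2 < q)
    (hz : ∀ z : G, orderOf z = 2 → IsPGroup 2 (centralizer ({z} : Set G)))
    (hcount : Nat.card {g : G // g ≠ 1 ∧ ∃ k, orderOf g = 2 ^ k} ≤ m) : H25.ElemCent.Hyp T := by
  classical
  have hTnt : Nontrivial (T : Subgroup G) := by
    rw [← Finite.one_lt_card_iff_nontrivial, hT]; omega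
  have hcnt : Nontrivial (center (T : Subgroup G)) := IsPGroup.center_nontrivial T.2
  obtain ⟨n, hn⟩ := (IsPGroup.iff_card.1 (T.2.to_subgroup (center (T : Subgroup G))))
  have h2 : 2 ∣ Nat.card (center (T : Subgroup G)) := by
    have h1 : 1 < Nat.card (center (T : Subgroup G)) := Finite.one_lt_card
    rw [hn] at h1 ⊢
    apply dvd_pow_self
    rintro rfl
    simp at h1
  obtain ⟨⟨⟨z, hzT⟩, hzc⟩, hz2⟩ := exists_prime_orderOf_dvd_card' 2 h2
  rw [Subgroup.orderOf_mk, Subgroup.orderOf_mk] at hz2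
  -- T = C(z)
  have hTC : (T : Subgroup G) ≤ centralizer ({z} : Set G) := by
    intro t ht
    rw [Subgroup.mem_centralizer_singleton_iff]
    have h3 := (Subgroup.mem_center_iff.1 hzc ⟨t, ht⟩)
    exact (congrArg Subtype.val h3)
  have hCT : centralizer ({z} : Set G) = (T : Subgroup G) := T.is_maximal' (hz z hz2) hTC
  have hclass := card_class_mul_card_centralizer z
  rw [hCT, hT, hcard] at hclass
  have hclass' : Nat.card {g : G // IsConj z g} = m := by
    rw [mul_comm] at hclass
    exact Nat.eq_of_mul_eq_mul_left (by omega) hclass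
  -- all 2-elements are conjugate to z
  have hall : ∀ g : G, g ≠ 1 → (∃ k, orderOf g = 2 ^ k) → IsConj z g := by
    let ι : {g : G // IsConj z g} → {g : G // g ≠ 1 ∧ ∃ k, orderOf g = 2 ^ k} := fun g =>
      ⟨g.1, by
        obtain ⟨g, hg⟩ := g
        obtain ⟨c, hc⟩ := isConj_iff.1 hg
        have ho : orderOf g = 2 := by rw [← hc, ← hz2]; exact orderOf_conj' z c
        refine ⟨?_, 1, by rw [pow_one]; exact ho⟩
        rintro rfl
        rw [orderOf_one] at ho
        exact absurd ho (by norm_num)⟩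
    have hι : Function.Injective ι := by
      intro a b hab
      exact Subtype.ext (congrArg
        (fun x : {g : G // g ≠ 1 ∧ ∃ k, orderOf g = 2 ^ k} => x.1) hab)
    have hb := hι.bijective_of_nat_card_le (by rw [hclass']; exact hcount)
    intro g hg1 hg2
    obtain ⟨a, ha⟩ := hb.2 ⟨g, hg1, hg2⟩
    have : a.1 = g := congrArg Subtype.val ha
    rw [← this]
    exact a.2
  have hexp : ∀ t ∈ (T : Subgroup G), t ^ 2 = 1 := by
    intro t ht
    by_cases ht1 : t = 1
    · rw [ht1, one_pow]
    · obtain ⟨k, hk⟩ := (IsPGroup.iff_orderOf.1 T.2) ⟨t, ht⟩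
      rw [Subgroup.orderOf_mk] at hk
      obtain ⟨c, hc⟩ := isConj_iff.1 (hall t ht1 ⟨k, hk⟩)
      have ho : orderOf t = 2 := by rw [← hc, ← hz2]; exact orderOf_conj' z c
      rw [← ho, pow_orderOf_eq_one]
  have hcomm : ∀ s ∈ (T : Subgroup G), ∀ t ∈ (T : Subgroup G), s * t = t * s := by
    intro s hs t ht
    have h1 := hexp (s * t) (mul_mem hs ht)
    have h2 := hexp s hs
    have h3 := hexp t ht
    rw [pow_two] at h1 h2 h3
    calc s * t = s * (s * t * (s * t)) * t := by rw [h1, mul_one]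
      _ = (s * s) * (t * s) * (t * t) := by group
      _ = t * s := by rw [h2, h3, one_mul, mul_one]
  refine ⟨?_, ?_, ?_⟩
  · intro hcyc
    obtain ⟨⟨g, hgT⟩, hg⟩ := hcyc.exists_generator
    have h1 : orderOf (⟨g, hgT⟩ : (T : Subgroup G)) = Nat.card (T : Subgroup G) :=
      orderOf_eq_card_of_forall_mem_zpowers hg
    rw [hT, Subgroup.orderOf_mk] at h1
    have h3 := orderOf_dvd_of_pow_eq_one (hexp g hgT)
    rw [h1] at h3
    have := Nat.le_of_dvd (by norm_num) h3
    omega
  · intro hnorm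
    rcases hnorm.eq_bot_or_eq_top with h1 | h1
    · rw [h1, Subgroup.card_bot] at hT
      omega
    · apply hG
      constructor
      constructor
      intro a b
      exact hcomm a (by rw [h1]; trivial) b (by rw [h1]; trivial)
  · intro t ht
    obtain ⟨c, hc⟩ := isConj_iff.1 (hall t (by rintro rfl; rw [orderOf_one] at ht; exact absurd ht (by norm_num))
      ⟨1, by rw [pow_one]; exact ht⟩)
    have hconj : ∀ x ∈ centralizer ({t} : Set G), c⁻¹ * x * c ∈ (T : Subgroup G) := by
      intro x hx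
      rw [← hCT, Subgroup.mem_centralizer_singleton_iff]
      rw [Subgroup.mem_centralizer_singleton_iff, ← hc] at hx
      calc c⁻¹ * x * c * z = c⁻¹ * (x * (c * z * c⁻¹)) * c := by group
        _ = c⁻¹ * ((c * z * c⁻¹) * x) * c := by rw [hx]
        _ = z * (c⁻¹ * x * c) := by group
    constructor
    · constructor
      constructor
      rintro ⟨a, ha⟩ ⟨b, hb⟩
      apply Subtype.ext
      change a * b = b * a
      have h1 := hcomm _ (hconj a ha) _ (hconj b hb)
      have h2 : c⁻¹ * (a * b) * c = c⁻¹ * (b * a) * c := by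
        calc c⁻¹ * (a * b) * c = (c⁻¹ * a * c) * (c⁻¹ * b * c) := by group
          _ = (c⁻¹ * b * c) * (c⁻¹ * a * c) := h1
          _ = c⁻¹ * (b * a) * c := by group
      exact mul_left_cancel (mul_right_cancel h2)
    · intro x hx
      have h1 := hexp _ (hconj x hx)
      have h2 : (c⁻¹ * x * c) ^ 2 = c⁻¹ * x ^ 2 * c := by rw [pow_two, pow_two]; group
      rw [h2] at h1
      have h3 : c * (c⁻¹ * x ^ 2 * c) * c⁻¹ = c * 1 * c⁻¹ := by rw [h1]
      calc x ^ 2 = c * (c⁻¹ * x ^ 2 * c) * c⁻¹ := by group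
        _ = c * 1 * c⁻¹ := h3
        _ = 1 := by group

end H21.PSLEven
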