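import Cfsg.Agent.Lib.H21.PSLEven
import Cfsg.Agent.Lib.H21.SylowSub
import Cfsg.Agent.Lib.H21.PSLTransport

set_option autoImplicit false
set_option synthInstance.maxSize 2000

/-! Simple groups of order 4080 are `PSL(2,16)`. -/

namespace H21.PSLSixteen

open Subgroup MulAction H21.SimpleBasic H21.SylowTools H21.CountPrime H21.PrimeAct H21.PrimeCent
  H21.PrimeStruct H21.CountElts H21.SylowInter H21.SylowSub H21.PSLEven

variable {G : Type*} [Group G] [Finite G] [IsSimpleGroup G]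

theorem fact17 : Fact (Nat.Prime 17) := ⟨by norm_num⟩
theorem fact5 : Fact (Nat.Prime 5) := ⟨by norm_num⟩
theorem fact3 : Fact (Nat.Prime 3) := ⟨by norm_num⟩

attribute [local instance] fact17 fact3 fact5

theorem cent17 (h : Nat.card G = 4080) :
    Nat.card (Sylow 17 G) = 120 ∧
    ∀ P : Sylow 17 G, Nat.card (P : Subgroup G) = 17 ∧
      Nat.card (centralizer ((P : Subgroup G) : Set G)) = 17 * 1 := by
  have hG : ¬ IsMulCommutative G := not_comm_of_card_not_prime (by rw [h]; norm_num)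
  have hP : ∀ P : Sylow 17 G, Nat.card (P : Subgroup G) = 17 :=
    card_sylow_eq_prime (p := 17) (m := 240) h (by norm_num)
  have h1 : Nat.card (Sylow 17 G) ∣ 240 := card_sylow_dvd_of_card (a := 1) (m := 240) (by rw [h]; norm_num)
  have h2 : Nat.card (Sylow 17 G) ≡ 1 [MOD 17] := card_sylow_modEq_one 17 G
  have h3 : Nat.card (Sylow 17 G) ≠ 1 := card_sylow_ne_one hG (by rw [h]; norm_num)
  have hr : Nat.card (Sylow 17 G) = 1 + 7 * 17 := by
    have key : ∀ n ≤ 240, n ∣ 240 → n % 17 = 1 % 17 → n ≠ 1 → n = 1 + 7 * 17 := by decide +kernel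
    exact key _ (Nat.le_of_dvd (by norm_num) h1) h1 h2 h3
  refine ⟨hr, fun P => ⟨hP P, ?_⟩⟩
  obtain ⟨c, e, hc, hN, he1, he2, hcr, hcard⟩ := structure_prime hG hP hr P
  rw [h] at hcard
  have hce : c * e = 2 := by
    have : 17 * 120 * (c * e) = 17 * 120 * 2 := by rw [← mul_assoc]; linarith
    exact Nat.eq_of_mul_eq_mul_left (by norm_num) this
  have he : e = 2 := by
    have hd : e ∣ 2 := ⟨c, by rw [← hce]; ring⟩
    rcases (Nat.dvd_prime Nat.prime_two).1 hd with h5 | h5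
    · exact absurd h5 he2
    · exact h5
  have hc1 : c = 1 := by rw [he] at hce; omega
  rw [hc1] at hc
  exact hc

theorem cent5 (h : Nat.card G = 4080) :
    (∀ P : Sylow 5 G, Nat.card (P : Subgroup G) = 5) ∧
    ((Nat.card (Sylow 5 G) = 51 ∧ ∃ c, (c = 8 ∨ c = 4) ∧
      ∀ P : Sylow 5 G, Nat.card (centralizer ((P : Subgroup G) : Set G)) = 5 * c) ∨
     (Nat.card (Sylow 5 G) = 136 ∧
      (∀ P : Sylow 5 G, Nat.card (centralizer ((P : Subgroup G) : Set G)) = 5 * 3) ∧
      ∀ P : Sylow 5 G, Nat.card (normalizer ((P : Subgroup G) : Set G)) = 30)) := by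
  have hG : ¬ IsMulCommutative G := not_comm_of_card_not_prime (by rw [h]; norm_num)
  have hP : ∀ P : Sylow 5 G, Nat.card (P : Subgroup G) = 5 :=
    card_sylow_eq_prime (p := 5) (m := 816) h (by norm_num)
  refine ⟨hP, ?_⟩
  have h1 : Nat.card (Sylow 5 G) ∣ 816 := card_sylow_dvd_of_card (a := 1) (m := 816) (by rw [h]; norm_num)
  have h2 : Nat.card (Sylow 5 G) ≡ 1 [MOD 5] := card_sylow_modEq_one 5 G
  have h3 : Nat.card (Sylow 5 G) ≠ 1 := card_sylow_ne_one hG (by rw [h]; norm_num)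
  have hr : Nat.card (Sylow 5 G) = 1 + 1 * 5 ∨ Nat.card (Sylow 5 G) = 1 + 3 * 5 ∨
      Nat.card (Sylow 5 G) = 1 + 10 * 5 ∨ Nat.card (Sylow 5 G) = 1 + 27 * 5 ∨
      Nat.card (Sylow 5 G) = 1 + 163 * 5 := by
    have key : ∀ n ≤ 816, n ∣ 816 → n % 5 = 1 % 5 → n ≠ 1 → n = 1 + 1 * 5 ∨ n = 1 + 3 * 5 ∨
      n = 1 + 10 * 5 ∨ n = 1 + 27 * 5 ∨ n = 1 + 163 * 5 := by decide +kernel
    exact key _ (Nat.le_of_dvd (by norm_num) h1) h1 h2 h3
  obtain ⟨P⟩ := (inferInstance : Nonempty (Sylow 5 G))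
  have he4 : ∀ e : ℕ, e ∣ 5 - 1 → e ≠ 1 → e = 2 ∨ e = 4 := by
    intro e he1 he2
    have : e ≤ 4 := Nat.le_of_dvd (by norm_num) he1
    interval_cases e <;> simp_all
  rcases hr with hr | hr | hr | hr | hr
  · exfalso
    have hN := card_normalizer_mul_card_sylow P
    have hNtop := normalizer_sylow_ne_top hG (p := 5) (by rw [h]; norm_num) P
    rw [hr] at hN
    have h6 := dvd_factorial_of_card hG _ hNtop hN
    rw [h] at h6
    norm_num [Nat.factorial] at h6
  · exfalso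
    obtain ⟨c, e, hc, hN, he1, he2, hcr, hcard⟩ := structure_prime hG hP hr P
    rw [h] at hcard
    rcases he4 e he1 he2 with rfl | rfl <;> omega
  · left
    refine ⟨hr, ?_⟩
    obtain ⟨c, e, hc, hN, he1, he2, hcr, hcard⟩ := structure_prime hG hP hr P
    rw [h] at hcard
    refine ⟨c, ?_, fun Q => by rw [card_centralizer_eq Q P]; exact hc⟩
    rcases he4 e he1 he2 with rfl | rfl <;> omega
  · right
    have key : ∀ Q : Sylow 5 G, Nat.card (centralizer ((Q : Subgroup G) : Set G)) = 5 * 3 ∧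
        Nat.card (normalizer ((Q : Subgroup G) : Set G)) = 30 := by
      intro Q
      obtain ⟨c, e, hc, hN, he1, he2, hcr, hcard⟩ := structure_prime hG hP hr Q
      rw [h] at hcard
      rcases he4 e he1 he2 with rfl | rfl
      · have hc3 : c = 3 := by omega
        rw [hc3] at hc hN
        exact ⟨hc, hN⟩
      · exfalso; omega
    exact ⟨hr, fun Q => (key Q).1, fun Q => (key Q).2⟩
  · exfalso
    obtain ⟨c, e, hc, hN, he1, he2, hcr, hcard⟩ := structure_prime hG hP hr P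
    rw [h] at hcard
    rcases he4 e he1 he2 with rfl | rfl <;> omega

theorem cent3 (h : Nat.card G = 4080) :
    (∀ P : Sylow 3 G, Nat.card (P : Subgroup G) = 3) ∧
    ∃ c n, Nat.card (Sylow 3 G) = n ∧
      (∀ P : Sylow 3 G, Nat.card (centralizer ((P : Subgroup G) : Set G)) = 3 * c) ∧
      ((n = 34 ∧ c = 20) ∨ (n = 85 ∧ c = 8) ∨ (n = 136 ∧ c = 5) ∨ (n = 340 ∧ c = 2)) := by
  have hG : ¬ IsMulCommutative G := not_comm_of_card_not_prime (by rw [h]; norm_num)
  have hP : ∀ P : Sylow 3 G, Nat.card (P : Subgroup G) = 3 :=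
    card_sylow_eq_prime (p := 3) (m := 1360) h (by norm_num)
  refine ⟨hP, ?_⟩
  have h1 : Nat.card (Sylow 3 G) ∣ 1360 :=
    card_sylow_dvd_of_card (a := 1) (m := 1360) (by rw [h]; norm_num)
  have h2 : Nat.card (Sylow 3 G) ≡ 1 [MOD 3] := card_sylow_modEq_one 3 G
  have h3 : Nat.card (Sylow 3 G) ≠ 1 := card_sylow_ne_one hG (by rw [h]; norm_num)
  obtain ⟨P⟩ := (inferInstance : Nonempty (Sylow 3 G))
  obtain ⟨r, hr⟩ : ∃ r, Nat.card (Sylow 3 G) = 1 + r * 3 := by
    refine ⟨Nat.card (Sylow 3 G) / 3, ?_⟩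
    have h5 : Nat.card (Sylow 3 G) % 3 = 1 := h2
    omega
  obtain ⟨c, e, hc, hN, he1, he2, hcr, hcard⟩ := structure_prime hG hP hr P
  have he : e = 2 := by
    rcases (Nat.dvd_prime Nat.prime_two).1 he1 with h5 | h5
    · exact absurd h5 he2
    · exact h5
  subst he
  have h17 : ¬ 17 ∣ 3 * c := by
    intro h5
    have h6 := dvd_of_dvd hP (fun Q => ((cent17 h).2 Q).1) (c := 3 * c) (d := 17 * 1)
      (fun Q => by rw [card_centralizer_eq Q P]; exact hc) (fun Q => ((cent17 h).2 Q).2) h5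
    norm_num at h6
  rw [← hr, h] at hcard
  refine ⟨c, Nat.card (Sylow 3 G), rfl, fun Q => by rw [card_centralizer_eq Q P]; exact hc, ?_⟩
  have hc0 : c * Nat.card (Sylow 3 G) = 680 := by
    have : 6 * (c * Nat.card (Sylow 3 G)) = 6 * 680 := by linarith
    exact Nat.eq_of_mul_eq_mul_left (by norm_num) this
  have key : ∀ n ≤ 680, n ∣ 680 → n % 3 = 1 % 3 → n ≠ 1 → ¬ 17 ∣ 3 * (680 / n) →
      n = 34 ∨ n = 85 ∨ n = 136 ∨ n = 340 := by decide +kernel
  have hd : Nat.card (Sylow 3 G) ∣ 680 := ⟨c, by rw [← hc0]; ring⟩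
  have hpos : 0 < Nat.card (Sylow 3 G) := Nat.card_pos
  have hcq : 680 / Nat.card (Sylow 3 G) = c := by
    rw [← hc0, Nat.mul_div_cancel _ hpos]
  have := key _ (Nat.le_of_dvd (by norm_num) hd) hd h2 h3 (by rw [hcq]; exact h17)
  rcases this with h5 | h5 | h5 | h5 <;> rw [h5] at hc0 ⊢ <;> omega

theorem final (h : Nat.card G = 4080) :
    (Nat.card (Sylow 5 G) = 136 ∧
      ∀ P : Sylow 5 G, Nat.card (centralizer ((P : Subgroup G) : Set G)) = 5 * 3) ∧
    (Nat.card (Sylow 3 G) = 136 ∧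
      ∀ P : Sylow 3 G, Nat.card (centralizer ((P : Subgroup G) : Set G)) = 3 * 5) := by
  obtain ⟨hn17, h17⟩ := cent17 h
  obtain ⟨hP5, h5⟩ := cent5 h
  obtain ⟨hP3, c, n, hn3, hc3, hnc⟩ := cent3 h
  have e17 := card_dvd_orderOf (fun P => (h17 P).1) (fun P => (h17 P).2)
  rw [hn17] at e17
  have e3 := card_dvd_orderOf hP3 hc3
  rw [hn3] at e3
  rcases h5 with ⟨hn5, c5, hc5, hC5⟩ | ⟨hn5, hC5, hN5⟩
  · exfalso
    have e5 := card_dvd_orderOf hP5 hC5
    rw [hn5] at e5
    have h35 : ¬ 5 ∣ 3 * c := by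
      intro h6
      have := dvd_of_dvd hP3 hP5 hc3 hC5 h6
      rcases hc5 with rfl | rfl <;> norm_num at this
    have hnc' : (n = 85 ∧ c = 8) ∨ (n = 340 ∧ c = 2) := by
      rcases hnc with ⟨hn, hc⟩ | ⟨hn, hc⟩ | ⟨hn, hc⟩ | ⟨hn, hc⟩
      · exfalso; apply h35; rw [hc]; norm_num
      · exact Or.inl ⟨hn, hc⟩
      · exfalso; apply h35; rw [hc]; norm_num
      · exact Or.inr ⟨hn, hc⟩
    have h53 : ¬ 3 ∣ 5 * c5 := by rcases hc5 with rfl | rfl <;> norm_num
    have d1 := card_or (α := G) (fun g => 17 ∣ orderOf g) (fun g => 5 ∣ orderOf g) (by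
      intro g hg1 hg2
      obtain ⟨P, hP⟩ := dvd_card_centralizer (fun P => (h17 P).1) hg1 hg2
      rw [(h17 P).2] at hP
      norm_num at hP)
    have d2 := card_or (α := G) (fun g => 17 ∣ orderOf g ∨ 5 ∣ orderOf g) (fun g => 3 ∣ orderOf g) (by
      rintro g (hg1 | hg1) hg2
      · obtain ⟨P, hP⟩ := dvd_card_centralizer (fun P => (h17 P).1) hg1 hg2
        rw [(h17 P).2] at hP
        norm_num at hP
      · obtain ⟨P, hP⟩ := dvd_card_centralizer hP5 hg1 hg2
        rw [hC5 P] at hP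
        exact h53 hP)
    have d3 := card_or (α := G) (fun g => (17 ∣ orderOf g ∨ 5 ∣ orderOf g) ∨ 3 ∣ orderOf g)
      (fun g => g = 1) (by
        rintro g ((hg | hg) | hg) rfl <;> rw [orderOf_one] at hg <;> norm_num at hg)
    have d4 := card_sub_le (α := G) (fun g => ((17 ∣ orderOf g ∨ 5 ∣ orderOf g) ∨ 3 ∣ orderOf g)
      ∨ g = 1)
    have d5 : Nat.card {g : G // g = 1} = 1 := by
      rw [Nat.card_eq_one_iff_unique]
      exact ⟨⟨fun a b => Subtype.ext (a.2.trans b.2.symm)⟩, ⟨⟨1, rfl⟩⟩⟩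
    rw [d3, d2, d1, d5, h] at d4
    rcases hnc' with ⟨rfl, rfl⟩ | ⟨rfl, rfl⟩ <;> rcases hc5 with rfl | rfl <;> omega
  · have h35 : 5 ∣ 3 * c := dvd_of_dvd hP5 hP3 hC5 hc3 (by norm_num)
    have hnc' : (n = 34 ∧ c = 20) ∨ (n = 136 ∧ c = 5) := by
      rcases hnc with h6 | ⟨hn, hc⟩ | h6 | ⟨hn, hc⟩
      · exact Or.inl h6
      · rw [hc] at h35; norm_num at h35
      · exact Or.inr h6
      · rw [hc] at h35; norm_num at h35
    rcases hnc' with ⟨hn, hc⟩ | ⟨hn, hc⟩
    · exfalso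
      obtain ⟨P⟩ := (inferInstance : Nonempty (Sylow 3 G))
      have hcP := hc3 P
      obtain ⟨Q, hQ1, hQ2⟩ := exists_commuting hP5 (P : Subgroup G) (by rw [hcP]; exact h35)
      have h6 := card_sylow_subgroup Q (centralizer ((P : Subgroup G) : Set G)) hQ1
      have hPc : (P : Subgroup G) ≤ centralizer ((P : Subgroup G) : Set G) :=
        sylow_le_centralizer P (hP3 P)
      rw [hcP, hc] at h6
      have h7 : Nat.card (normalizer ((Q : Subgroup G) : Set G) ⊓
          centralizer ((P : Subgroup G) : Set G) : Subgroup G) ∣ 30 := by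
        rw [← hN5 Q]; exact Subgroup.card_dvd_of_le inf_le_left
      have h8 : 3 ∣ Nat.card (normalizer ((Q : Subgroup G) : Set G) ⊓
          centralizer ((P : Subgroup G) : Set G) : Subgroup G) := by
        have := Subgroup.card_dvd_of_le (le_inf (hQ2.trans (Subgroup.centralizer_le_normalizer _)) hPc)
        rwa [hP3 P] at this
      have h9 : Nat.card (Sylow 5 (centralizer ((P : Subgroup G) : Set G))) % 5 = 1 % 5 :=
        card_sylow_modEq_one 5 _
      have key : ∀ a ≤ 60, ∀ b ≤ 30, b ∣ 30 → 3 ∣ b → a % 5 = 1 % 5 → a * b ≠ 60 := by decide +kernel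
      have hpos : 0 < Nat.card (normalizer ((Q : Subgroup G) : Set G) ⊓
          centralizer ((P : Subgroup G) : Set G) : Subgroup G) := Nat.card_pos
      refine key _ ?_ _ (Nat.le_of_dvd (by norm_num) h7) h7 h8 h9 h6
      exact Nat.le_of_dvd (by norm_num) ⟨_, h6.symm⟩
    · refine ⟨⟨hn5, hC5⟩, hn3.trans hn, ?_⟩
      rw [hc] at hc3
      exact hc3

theorem psl_sixteen (h : Nat.card G = 4080) {F : Type*} [Field F] [Fintype F]
    (hF : Fintype.card F = 16) :
    Nonempty (G ≃* Matrix.ProjectiveSpecialLinearGroup (Fin 2) F) := by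
  have hG : ¬ IsMulCommutative G := not_comm_of_card_not_prime (by rw [h]; norm_num)
  obtain ⟨hn17, h17⟩ := cent17 h
  obtain ⟨hP5, -⟩ := cent5 h
  obtain ⟨hP3, -⟩ := cent3 h
  obtain ⟨⟨hn5, hC5⟩, hn3, hC3⟩ := final h
  have e17 := card_dvd_orderOf (fun P => (h17 P).1) (fun P => (h17 P).2)
  rw [hn17] at e17
  have e5 := card_dvd_orderOf hP5 hC5
  rw [hn5] at e5
  have e3 := card_orderOf_eq_prime hP3
  rw [hn3] at e3
  have d5 : Nat.card {g : G // g = 1} = 1 := by
    rw [Nat.card_eq_one_iff_unique]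
    exact ⟨⟨fun a b => Subtype.ext (a.2.trans b.2.symm)⟩, ⟨⟨1, rfl⟩⟩⟩
  have hcount : Nat.card {g : G // g ≠ 1 ∧ ∃ k, orderOf g = 2 ^ k} ≤ 255 := by
    have d1 := card_or (α := G) (fun g => 17 ∣ orderOf g) (fun g => 5 ∣ orderOf g) (by
      intro g hg1 hg2
      obtain ⟨P, hP⟩ := dvd_card_centralizer (fun P => (h17 P).1) hg1 hg2
      rw [(h17 P).2] at hP
      norm_num at hP)
    have d2 := card_or (α := G) (fun g => 17 ∣ orderOf g ∨ 5 ∣ orderOf g) (fun g => orderOf g = 3) (by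
      rintro g (hg1 | hg1) hg2
      · rw [hg2] at hg1; norm_num at hg1
      · rw [hg2] at hg1; norm_num at hg1)
    have d3 := card_or (α := G) (fun g => (17 ∣ orderOf g ∨ 5 ∣ orderOf g) ∨ orderOf g = 3)
      (fun g => g = 1) (by
        rintro g ((hg | hg) | hg) rfl <;> rw [orderOf_one] at hg <;> norm_num at hg)
    have d4 := card_or (α := G) (fun g => ((17 ∣ orderOf g ∨ 5 ∣ orderOf g) ∨ orderOf g = 3) ∨ g = 1)
      (fun g => g ≠ 1 ∧ ∃ k, orderOf g = 2 ^ k) (by
        rintro g (((hg | hg) | hg) | hg) ⟨hg1, k, hk⟩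
        · rw [hk] at hg
          have := (by norm_num : Nat.Prime 17).dvd_of_dvd_pow hg
          norm_num at this
        · rw [hk] at hg
          have := (by norm_num : Nat.Prime 5).dvd_of_dvd_pow hg
          norm_num at this
        · rw [hk] at hg
          have h3 : 3 ∣ 2 ^ k := by rw [hg]
          have := (by norm_num : Nat.Prime 3).dvd_of_dvd_pow h3
          norm_num at this
        · exact hg1 hg)
    have d6 := card_sub_le (α := G) (fun g => (((17 ∣ orderOf g ∨ 5 ∣ orderOf g) ∨ orderOf g = 3)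
      ∨ g = 1) ∨ (g ≠ 1 ∧ ∃ k, orderOf g = 2 ^ k))
    rw [d4, d3, d2, d1, d5, e3, h] at d6
    omega
  have hz : ∀ z : G, orderOf z = 2 → IsPGroup 2 (centralizer ({z} : Set G)) := by
    intro z hz
    have hgen : ∀ (p : ℕ) [Fact p.Prime], (∀ P : Sylow p G, Nat.card (P : Subgroup G) = p) →
        (∀ P : Sylow p G, ¬ 2 ∣ Nat.card (centralizer ((P : Subgroup G) : Set G))) →
        ¬ p ∣ Nat.card (centralizer ({z} : Set G)) := by
      intro p hp hP hC h3
      obtain ⟨⟨y, hyC⟩, hy⟩ := exists_prime_orderOf_dvd_card' p h3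
      rw [Subgroup.orderOf_mk] at hy
      obtain ⟨Q, hQ1, hQ2⟩ := exists_sylow_of_dvd hP (show p ∣ orderOf y by rw [hy])
      have hzQ : z ∈ centralizer ((Q : Subgroup G) : Set G) := by
        rw [hQ2, Subgroup.mem_centralizer_iff]
        rintro _ ⟨k, rfl⟩
        rw [Subgroup.mem_centralizer_singleton_iff] at hyC
        have h4 : Commute y z := hyC
        exact ((h4.pow_left _).zpow_left k).eq
      have h4 := orderOf_dvd_natCard (⟨z, hzQ⟩ : centralizer ((Q : Subgroup G) : Set G))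
      rw [Subgroup.orderOf_mk, hz] at h4
      exact hC Q h4
    have g3 := hgen 3 hP3 (fun P => by rw [hC3 P]; norm_num)
    have g5 := hgen 5 hP5 (fun P => by rw [hC5 P]; norm_num)
    have g17 := hgen 17 (fun P => (h17 P).1) (fun P => by rw [(h17 P).2]; norm_num)
    have hd : Nat.card (centralizer ({z} : Set G)) ∣ 4080 := by
      rw [← h]; exact Subgroup.card_subgroup_dvd_card _
    have hd8 : Nat.card (centralizer ({z} : Set G)) ∣ 2 ^ 4 := by
      have hcop : Nat.Coprime (Nat.card (centralizer ({z} : Set G))) 255 := by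
        have e1 : Nat.Coprime (Nat.card (centralizer ({z} : Set G))) 3 :=
          (Nat.Coprime.symm ((Nat.Prime.coprime_iff_not_dvd (by norm_num)).2 g3))
        have e2 : Nat.Coprime (Nat.card (centralizer ({z} : Set G))) 5 :=
          (Nat.Coprime.symm ((Nat.Prime.coprime_iff_not_dvd (by norm_num)).2 g5))
        have e3 : Nat.Coprime (Nat.card (centralizer ({z} : Set G))) 17 :=
          (Nat.Coprime.symm ((Nat.Prime.coprime_iff_not_dvd (by norm_num)).2 g17))
        exact (e1.mul_right e2).mul_right e3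
      exact hcop.dvd_of_dvd_mul_right (by norm_num; exact hd)
    obtain ⟨k, -, hk⟩ := (Nat.dvd_prime_pow Nat.prime_two).1 hd8
    exact IsPGroup.of_card hk
  obtain ⟨T⟩ := (inferInstance : Nonempty (Sylow 2 G))
  have hT : Nat.card (T : Subgroup G) = 16 :=
    card_sylow_eq_pow (a := 4) (m := 255) (by rw [h]; norm_num) (by norm_num) T
  have hyp := hyp_of_count hG (q := 16) (m := 255) (by rw [h]) T hT (by norm_num) hz hcount
  obtain ⟨K, iK, iKf, hK, ⟨e⟩⟩ := H25.ElemCent.isPSL2 hyp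
  obtain ⟨f⟩ := H21.PSLTransport.psl_congr_card (K := K) (L := F) (hK.trans (hT.trans hF.symm)) (Fin 2)
  exact ⟨e.trans f⟩

end H21.PSLSixteen
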