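import Cfsg.Agent.Lib.H21.PSLSmall
import Cfsg.Agent.Lib.H19.Zass3
import Cfsg.Agent.Lib.H16.ZassPSL

/-!
Simple permutation groups on `OnePoint (ZMod p)` of order `p (p^2-1)/2` are `PSL(2,p)`.
-/

set_option autoImplicit false
set_option linter.unusedSectionVars false

namespace H21.PSLZass

open MulAction OnePoint H21.MobiusFrame2 H21.MobiusFinish

variable {p : ℕ} [hp : Fact p.Prime]

theorem isSquare_mul_of_not {a b : ZMod p} (ha : ¬ IsSquare a) (hb : ¬ IsSquare b) :
    IsSquare (a * b) := by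
  have ha0 : a ≠ 0 := by rintro rfl; exact ha (IsSquare.zero)
  have hb0 : b ≠ 0 := by rintro rfl; exact hb (IsSquare.zero)
  rw [ZMod.euler_criterion p ha0] at ha
  rw [ZMod.euler_criterion p hb0] at hb
  rw [ZMod.euler_criterion p (mul_ne_zero ha0 hb0), mul_pow,
    (ZMod.pow_div_two_eq_neg_one_or_one p ha0).resolve_left ha,
    (ZMod.pow_div_two_eq_neg_one_or_one p hb0).resolve_left hb]
  ring

variable {G : Type*} [Group G] [Finite G] {π : G →* Equiv.Perm (OnePoint (ZMod p))}

theorem exists_move (hF : Frame p G π) {a b : OnePoint (ZMod p)} (hab : a ≠ b) :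
    ∃ g : G, π g ∞ = a ∧ π g ((0 : ZMod p) : OnePoint (ZMod p)) = b := by
  obtain ⟨w, hw1, hw2⟩ := exists_swap hF
  obtain ⟨g1, hg1⟩ : ∃ g, π g ∞ = a := by
    induction a using OnePoint.rec with
    | infty => exact ⟨1, by rw [map_one]; rfl⟩
    | coe y =>
      obtain ⟨t, ht1, ht2⟩ := hF.trans y
      exact ⟨t * w, by rw [map_mul, Equiv.Perm.mul_apply, hw1, ht2, zero_add]⟩
  have h1 : (π g1)⁻¹ b ≠ ∞ := by
    intro h
    rw [Equiv.Perm.inv_eq_iff_eq, hg1] at h
    exact hab h.symm
  obtain ⟨c, hc⟩ := OnePoint.ne_infty_iff_exists.1 h1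
  obtain ⟨t, ht1, ht2⟩ := hF.trans c
  refine ⟨g1 * t, ?_, ?_⟩
  · rw [map_mul, Equiv.Perm.mul_apply, ht1, hg1]
  · rw [map_mul, Equiv.Perm.mul_apply, ht2, zero_add, hc]
    exact (π g1).apply_symm_apply _

theorem eq_one_of_three (hF : Frame p G π) {g : G} {x : ZMod p} (hx : x ≠ 0) (h1 : π g ∞ = ∞)
    (h2 : π g ((0 : ZMod p) : OnePoint (ZMod p)) = ((0 : ZMod p) : OnePoint (ZMod p)))
    (h3 : π g (x : OnePoint (ZMod p)) = (x : OnePoint (ZMod p))) : g = 1 := by
  obtain ⟨a, ha⟩ := hF.stab g h1 h2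
  have h4 : a * x = x := by
    have := ha x
    rw [h3] at this
    exact (OnePoint.coe_injective this).symm
  have h5 : a = 1 := by
    have : a * x = 1 * x := by rw [one_mul]; exact h4
    exact mul_right_cancel₀ hx this
  apply ext_π hF
  · rw [h1, map_one]; rfl
  · intro y
    rw [ha, h5, one_mul, map_one]; rfl

/-- the action -/
abbrev act (π : G →* Equiv.Perm (OnePoint (ZMod p))) : MulAction G (OnePoint (ZMod p)) :=
  MulAction.compHom _ π

theorem zassenhaus [IsSimpleGroup G] (hF : Frame p G π) (hp5 : 5 ≤ p) :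
    @Cfsg.IsZassenhausGroup G (OnePoint (ZMod p)) _ (act π) := by
  classical
  let _ : MulAction G (OnePoint (ZMod p)) := act π
  have hsm : ∀ (g : G) (x : OnePoint (ZMod p)), g • x = π g x := fun _ _ => rfl
  have hfin : Finite (OnePoint (ZMod p)) := inferInstanceAs (Finite (Option (ZMod p)))
  have h4 : ∃ g : G, g ≠ 1 ∧ g • (∞ : OnePoint (ZMod p)) = ∞ ∧
      g • ((0 : ZMod p) : OnePoint (ZMod p)) = ((0 : ZMod p) : OnePoint (ZMod p)) := by
    have hp4 : (4 : ZMod p) ≠ 0 := by
      intro h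
      have h1 : ((4 : ℕ) : ZMod p) = 0 := by exact_mod_cast h
      rw [ZMod.natCast_eq_zero_iff] at h1
      have := Nat.le_of_dvd (by norm_num) h1
      omega
    have hp41 : (4 : ZMod p) ≠ 1 := by
      intro h
      have h0 : (3 : ZMod p) = 0 := by linear_combination h
      have h1 : ((3 : ℕ) : ZMod p) = 0 := by exact_mod_cast h0
      rw [ZMod.natCast_eq_zero_iff] at h1
      have := Nat.le_of_dvd (by norm_num) h1
      omega
    obtain ⟨g, hg1, hg2⟩ := (mult_stab hF).2 4 hp4 ⟨2, by norm_num⟩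
    refine ⟨g, ?_, hg1, by rw [hsm, hg2, mul_zero]⟩
    rintro rfl
    have h1 := hg2 1
    rw [map_one, mul_one] at h1
    exact hp41 (OnePoint.coe_injective h1).symm
  refine ⟨⟨fun {g h} hgh => hF.inj (Equiv.ext hgh)⟩, ?_, ?_, ?_, ?_⟩
  · rw [MulAction.is_two_pretransitive_iff]
    intro a b c d hab hcd
    obtain ⟨g, hg1, hg2⟩ := exists_move hF hab
    obtain ⟨h, hh1, hh2⟩ := exists_move hF hcd
    refine ⟨h * g⁻¹, ?_, ?_⟩
    · rw [mul_smul, ← hg1, ← hsm, inv_smul_smul, hsm, hh1]
    · rw [mul_smul, ← hg2, ← hsm, inv_smul_smul, hsm, hh2]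
  · intro g a b c hab hbc hac ha hb hc
    obtain ⟨h, hh1, hh2⟩ := exists_move hF hab
    rw [← hsm] at hh1 hh2
    have h1 : h⁻¹ • c ≠ ∞ := by
      intro h0
      rw [inv_smul_eq_iff, hh1] at h0
      exact hac h0.symm
    obtain ⟨x, hx⟩ := OnePoint.ne_infty_iff_exists.1 h1
    have hx0 : x ≠ 0 := by
      rintro rfl
      rw [eq_inv_smul_iff, hh2] at hx
      exact hbc hx
    have h2 : h⁻¹ * g * h = 1 := by
      apply eq_one_of_three hF hx0
      · rw [← hsm, mul_smul, mul_smul, hh1, ha, ← hh1, inv_smul_smul]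
      · rw [← hsm, mul_smul, mul_smul, hh2, hb, ← hh2, inv_smul_smul]
      · rw [hx, ← hsm, mul_smul, mul_smul, smul_inv_smul, hc]
    have h3 : g = h * (h⁻¹ * g * h) * h⁻¹ := by group
    rw [h3, h2]; group
  · obtain ⟨g, h1, h2, h3⟩ := h4
    exact ⟨g, h1, ∞, ((0 : ZMod p) : OnePoint (ZMod p)), OnePoint.infty_ne_coe _, h2, h3⟩
  · intro N hN htr
    rcases hN.eq_bot_or_eq_top with h0 | h0
    · exfalso
      obtain ⟨n, hn⟩ := htr.exists_smul_eq ∞ ((0 : ZMod p) : OnePoint (ZMod p))
      have h1' : ∀ x ∈ N, x = 1 := by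
        rw [h0]
        intro x hx
        exact Subgroup.mem_bot.1 hx
      have h1 : (n : G) = 1 := h1' n n.2
      have h2 : (n : G) • (∞ : OnePoint (ZMod p)) = ((0 : ZMod p) : OnePoint (ZMod p)) := hn
      rw [h1, one_smul] at h2
      exact OnePoint.infty_ne_coe _ h2
    · obtain ⟨g, h1, h2, h3⟩ := h4
      refine ⟨∞, fun hbot => h1 ?_⟩
      have hgN : g ∈ N := by rw [h0]; trivial
      have h5 : (⟨g, hgN⟩ : N) ∈ MulAction.stabilizer N (∞ : OnePoint (ZMod p)) := h2
      rw [hbot, Subgroup.mem_bot] at h5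
      exact congrArg Subtype.val h5

theorem card_H (hF : Frame p G π) :
    2 * Nat.card ↥((@MulAction.stabilizer G _ _ (act π) (∞ : OnePoint (ZMod p))) ⊓
      (@MulAction.stabilizer G _ _ (act π) ((0 : ZMod p) : OnePoint (ZMod p)))) = p - 1 := by
  rw [← card_stab hF]
  rfl

/-- an involution fixes no point when the two-point stabilizer has odd order -/
theorem no_fix (hF : Frame p G π) (hp2 : p ≠ 2)
    (hodd : Odd (Nat.card ↥((@MulAction.stabilizer G _ _ (act π) (∞ : OnePoint (ZMod p))) ⊓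
      (@MulAction.stabilizer G _ _ (act π) ((0 : ZMod p) : OnePoint (ZMod p))))))
    {w : G} (hw : orderOf w = 2) (x : OnePoint (ZMod p)) : π w x ≠ x := by
  classical
  let _ : MulAction G (OnePoint (ZMod p)) := act π
  have hsm : ∀ (g : G) (x : OnePoint (ZMod p)), g • x = π g x := fun _ _ => rfl
  have hfin : Finite (OnePoint (ZMod p)) := inferInstanceAs (Finite (Option (ZMod p)))
  intro hx
  have hcardO : Nat.card (OnePoint (ZMod p)) = p + 1 := by
    change Nat.card (Option (ZMod p)) = p + 1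
    rw [Finite.card_option, Nat.card_zmod]
  have hpg : IsPGroup 2 (Subgroup.zpowers w) := by
    rw [IsPGroup.iff_card]
    exact ⟨1, by rw [Nat.card_zpowers, hw, pow_one]⟩
  have : Fact (Nat.Prime 2) := ⟨Nat.prime_two⟩
  have h1 := hpg.card_modEq_card_fixedPoints (OnePoint (ZMod p))
  rw [hcardO] at h1
  have hfix : ∀ y : OnePoint (ZMod p), y ∈ MulAction.fixedPoints (Subgroup.zpowers w) (OnePoint (ZMod p)) ↔
      w • y = y := by
    intro y
    constructor
    · intro h
      exact h ⟨w, Subgroup.mem_zpowers w⟩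
    · rintro h ⟨g, hg⟩
      have h2 : Subgroup.zpowers w ≤ MulAction.stabilizer G y := by
        rw [Subgroup.zpowers_le]; exact h
      exact h2 hg
  obtain ⟨y, hy, hyx⟩ : ∃ y : OnePoint (ZMod p), w • y = y ∧ y ≠ x := by
    by_contra hcon
    push Not at hcon
    have h2 : MulAction.fixedPoints (Subgroup.zpowers w) (OnePoint (ZMod p)) = {x} := by
      ext y
      rw [hfix, Set.mem_singleton_iff]
      exact ⟨hcon y, fun h => by rw [h]; exact hx⟩
    rw [h2] at h1
    simp only [Nat.card_eq_fintype_card, Fintype.card_unique] at h1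
    have h3 := hp.out.eq_two_or_odd
    rw [Nat.ModEq] at h1
    omega
  obtain ⟨h, hh1, hh2⟩ := exists_move hF hyx
  rw [← hsm] at hh1 hh2
  have h2 : h⁻¹ * w * h ∈ MulAction.stabilizer G (∞ : OnePoint (ZMod p)) ⊓
      MulAction.stabilizer G ((0 : ZMod p) : OnePoint (ZMod p)) := by
    constructor
    · change (h⁻¹ * w * h) • (∞ : OnePoint (ZMod p)) = ∞
      rw [mul_smul, mul_smul, hh1, hy, ← hh1, inv_smul_smul]
    · change (h⁻¹ * w * h) • ((0 : ZMod p) : OnePoint (ZMod p)) = ((0 : ZMod p) : OnePoint (ZMod p))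
      rw [mul_smul, mul_smul, hh2, hsm w x, hx, ← hh2, inv_smul_smul]
  have h3 : orderOf (h⁻¹ * w * h) = 2 := by
    rw [← hw]
    have := (MulAut.conj h⁻¹).orderOf_eq w
    simpa using this
  have h4 : 2 ∣ Nat.card ↥(MulAction.stabilizer G (∞ : OnePoint (ZMod p)) ⊓
      MulAction.stabilizer G ((0 : ZMod p) : OnePoint (ZMod p))) := by
    rw [← h3, ← Subgroup.orderOf_mk _ h2]
    exact orderOf_dvd_natCard _
  exact (Nat.not_even_iff_odd.2 hodd) (even_iff_two_dvd.2 h4)

theorem main [IsSimpleGroup G] (hG : ¬ IsMulCommutative G) (hF : Frame p G π) (hp5 : 5 ≤ p) :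
    ∃ (F : Type) (_ : Field F) (_ : Fintype F), Fintype.card F = p ∧
      Nonempty (G ≃* Matrix.ProjectiveSpecialLinearGroup (Fin 2) F) := by
  classical
  let _ : MulAction G (OnePoint (ZMod p)) := act π
  let _ : Fintype (OnePoint (ZMod p)) := inferInstanceAs (Fintype (Option (ZMod p)))
  have hsm : ∀ (g : G) (x : OnePoint (ZMod p)), g • x = π g x := fun _ _ => rfl
  have hZ := zassenhaus hF hp5
  have hcardH := card_H hF
  have hcardO : Fintype.card (OnePoint (ZMod p)) = p + 1 := by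
    change Fintype.card (Option (ZMod p)) = p + 1
    rw [Fintype.card_option, ZMod.card]
  rcases Nat.even_or_odd (Nat.card ↥(MulAction.stabilizer G (∞ : OnePoint (ZMod p)) ⊓
      MulAction.stabilizer G ((0 : ZMod p) : OnePoint (ZMod p)))) with heven | hodd
  · obtain ⟨q, f, K, i1, i2, -, -, h1, h2, h3⟩ := H16.ZassPSL.main hZ (OnePoint.infty_ne_coe _) heven
      (by rw [hcardH, hcardO]; omega)
    refine ⟨K, i1, i2, ?_, h3⟩
    rw [h1]
    rw [hcardO] at h2
    omega
  · have hp2 : p ≠ 2 := by omega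
    have hnil : ∀ q : ℕ, q.Prime → q ∣ Nat.card ↥(MulAction.stabilizer G (∞ : OnePoint (ZMod p)) ⊓
        MulAction.stabilizer G ((0 : ZMod p) : OnePoint (ZMod p))) →
        ¬ ∃ N : Subgroup G, N.Normal ∧ N.index = q ^ (Nat.card G).factorization q := by
      rintro q hq hqd ⟨N, hN, hidx⟩
      have hqG : q ∣ Nat.card G := hqd.trans (Subgroup.card_subgroup_dvd_card _)
      have : Fact q.Prime := ⟨hq⟩
      rcases hN.eq_bot_or_eq_top with h0 | h0
      · rw [h0, Subgroup.index_bot] at hidx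
        exact H21.SylowTools.not_isPGroup hG q (IsPGroup.of_card hidx)
      · rw [h0, Subgroup.index_top] at hidx
        have h1 : (Nat.card G).factorization q ≠ 0 :=
          (hq.factorization_pos_of_dvd Nat.card_pos.ne' hqG).ne'
        have h2 := Nat.one_lt_pow h1 hq.one_lt
        omega
    obtain ⟨-, -, hinv⟩ := H19.Zass3.main hZ (OnePoint.infty_ne_coe _) hodd hnil
    obtain ⟨w, hw1, hw2⟩ := exists_swap hF
    obtain ⟨W, e, hW, hW0, he0, hesq, hWW, -, -⟩ := swap_props hF w hw1 hw2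
    obtain ⟨hm1, hm2⟩ := mult_stab hF
    have hmod : p % 4 = 3 := by
      obtain ⟨k, hk⟩ := hodd
      rw [hk] at hcardH
      omega
    have hneg : ¬ IsSquare (-1 : ZMod p) := by
      rw [ZMod.exists_sq_eq_neg_one_iff]
      omega
    have hsemi : ∀ a : ZMod p, a ≠ 0 → IsSquare a → ∀ x : ZMod p, x ≠ 0 → W (a * x) = a⁻¹ * W x := by
      intro a ha0 hasq x hx
      obtain ⟨h, hh1, hh2⟩ := hm2 a ha0 hasq
      have h1 := hinv w hw1 hw2 h ⟨hh1, by
        change π h ((0 : ZMod p) : OnePoint (ZMod p)) = _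
        rw [hh2, mul_zero]⟩
      have h2 : h * (w * h) = w := by
        rw [mul_inv_eq_iff_eq_mul] at h1
        rw [h1, mul_inv_cancel_left]
      have h3 : π h (π w (π h (x : OnePoint (ZMod p)))) = π w (x : OnePoint (ZMod p)) := by
        rw [← Equiv.Perm.mul_apply, ← Equiv.Perm.mul_apply, ← map_mul, ← map_mul, mul_assoc, h2]
      rw [hh2, (hW _ (mul_ne_zero ha0 hx)).2, hh2, (hW x hx).2] at h3
      have h4 := OnePoint.coe_injective h3
      rw [← h4, ← mul_assoc, inv_mul_cancel₀ ha0, one_mul]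
    -- `e = 1`
    have he1 : e = 1 := by
      have h1 : W (e * 1) = e⁻¹ * W 1 := hsemi e he0 hesq 1 one_ne_zero
      have h2 : W (e * 1) = e * W 1 := by
        rw [← hWW 1 one_ne_zero, hWW (W 1) (hW 1 one_ne_zero).1]
      have h3 : e⁻¹ = e := mul_right_cancel₀ (hW 1 one_ne_zero).1 (h1.symm.trans h2)
      have h4 : e * e = 1 := by
        nth_rw 1 [← h3]
        exact inv_mul_cancel₀ he0
      rcases mul_self_eq_one_iff.1 h4 with h5 | h5
      · exact h5
      · rw [h5] at hesq
        exact absurd hesq hneg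
    have hw2' : orderOf w = 2 := by
      rw [orderOf_eq_prime_iff]
      constructor
      · apply ext_π hF
        · rw [sq, map_mul, Equiv.Perm.mul_apply, hw1, hw2, map_one]; rfl
        · intro x
          rw [sq, map_mul, Equiv.Perm.mul_apply, map_one]
          change π w (π w (x : OnePoint (ZMod p))) = x
          by_cases hx : x = 0
          · rw [hx, hw2, hw1]
          · rw [(hW x hx).2, (hW _ (hW x hx).1).2, hWW x hx, he1, one_mul]
      · rintro rfl
        rw [map_one] at hw1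
        exact OnePoint.infty_ne_coe _ hw1
    have hnofix : ∀ x : ZMod p, x ≠ 0 → W x ≠ x := by
      intro x hx h
      apply no_fix hF hp2 hodd hw2' (x : OnePoint (ZMod p))
      rw [(hW x hx).2, h]
    have hc0 : W 1 ≠ 0 := (hW 1 one_ne_zero).1
    have hsqv : ∀ x : ZMod p, x ≠ 0 → IsSquare x → W x = W 1 * x⁻¹ := by
      intro x hx hxs
      have := hsemi x hx hxs 1 one_ne_zero
      rw [mul_one] at this
      rw [this, mul_comm]
    have hcns : ¬ IsSquare (W 1) := by
      rintro ⟨u, hu⟩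
      have hu0 : u ≠ 0 := by
        rintro rfl
        rw [mul_zero] at hu
        exact hc0 hu
      by_cases hus : IsSquare u
      · apply hnofix u hu0
        rw [hsqv u hu0 hus, hu, mul_assoc, mul_inv_cancel₀ hu0, mul_one]
      · have h1 : IsSquare (-u) := by
          have := isSquare_mul_of_not hneg hus
          rwa [neg_one_mul] at this
        have hu0' : -u ≠ 0 := neg_ne_zero.2 hu0
        apply hnofix (-u) hu0'
        rw [hsqv (-u) hu0' h1, hu]
        field_simp
    refine ⟨ZMod p, inferInstance, inferInstance, ZMod.card p, ?_⟩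
    apply iso_of_frame hp2 hF w hw1 hw2 (W 1) hc0 ?_ ?_ (ZMod.card p)
    · have := isSquare_mul_of_not hneg hcns
      rwa [neg_one_mul] at this
    · intro x hx
      rw [(hW x hx).2]
      congr 1
      by_cases hxs : IsSquare x
      · exact hsqv x hx hxs
      · have hxi : ¬ IsSquare x⁻¹ := by rwa [isSquare_inv]
        have h1 : IsSquare (W 1 * x⁻¹) := isSquare_mul_of_not hcns hxi
        have h10 : W 1 * x⁻¹ ≠ 0 := mul_ne_zero hc0 (inv_ne_zero hx)
        have h2 := hsqv _ h10 h1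
        have h3 : W 1 * (W 1 * x⁻¹)⁻¹ = x := by
          field_simp
        rw [h3] at h2
        have h4 := hWW _ h10
        rw [h2, he1, one_mul] at h4
        exact h4

/-- simple groups of order `p(p^2-1)/2` with `p+1` Sylow `p`-subgroups -/
theorem iso_of_card [IsSimpleGroup G] (hG : ¬ IsMulCommutative G) {m : ℕ}
    (hcard : Nat.card G = p * m) (hpm : ¬ p ∣ m) (hm : 2 * m = p ^ 2 - 1)
    (hn : Nat.card (Sylow p G) = p + 1) (hp5 : 5 ≤ p) :
    ∃ (F : Type) (_ : Field F) (_ : Fintype F), Fintype.card F = p ∧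
      Nonempty (G ≃* Matrix.ProjectiveSpecialLinearGroup (Fin 2) F) := by
  obtain ⟨π, hπ⟩ := H21.PSLSmall.exists_frame hcard hpm hm hn
  exact main hG hπ hp5

end H21.PSLZass
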