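import Cfsg.Agent.Lib.H21.PBlock2
import Cfsg.Agent.Lib.H21.FrobRes
import Cfsg.Agent.Lib.H78.Cong
import Cfsg.Agent.S0995

/-!
Simple groups with a self-centralizing subgroup of prime order: the character data.
-/

set_option autoImplicit false
set_option linter.unusedSectionVars false

namespace H21.SelfC

open Cfsg H18.CharBasic H18.CharOrtho H18.CharInd H21.PLat

universe u

/-- the character data -/
structure SC (G : Type u) [Group G] [Fintype G] [Fintype (IrrCharacter G)] (p : ℕ) [Fact p.Prime]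
    (x0 : G) (a : IrrCharacter G → ℤ) (Y : Finset (IrrCharacter G)) (ε : ℤ) (e n : ℕ) : Prop where
  hx0 : orderOf x0 = p
  hcen : Subgroup.centralizer ({x0} : Set G) = Subgroup.zpowers x0
  hidx : ¬ p ∣ (Subgroup.zpowers x0).index
  hε : ε = 1 ∨ ε = -1
  ha : ∀ χ, a χ = 0 ∨ a χ = 1 ∨ a χ = -1
  hYa : ∀ χ ∈ Y, a χ = 0
  hcardY : e * Y.card = p - 1
  hnorm : ∑ χ, a χ * a χ = e
  htriv : a (triv G) = 1
  hval : ∀ χ, a χ ≠ 0 → ∀ k : ZMod p, k ≠ 0 → (χ : G → ℂ) (pw x0 k) = a χ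
  hz : ∀ χ, a χ = 0 → χ ∉ Y → ∀ k : ZMod p, k ≠ 0 → (χ : G → ℂ) (pw x0 k) = 0
  hYsum : ∀ χ ∈ Y, ∑ k ∈ Finset.univ.erase (0 : ZMod p), (χ : G → ℂ) (pw x0 k) = -(ε * e)
  hrel : ∀ χ ∈ Y, ∀ y : G, ¬ p ∣ orderOf y → (ε : ℂ) * (χ : G → ℂ) y =
        ∑ ψ, (a ψ : ℂ) * (ψ : G → ℂ) y
  hcardN : Nat.card (Subgroup.normalizer (Subgroup.zpowers x0 : Set G)) = p * e
  hcard : Nat.card G = p * e * (1 + n * p)
  hsyl : Nat.card (Sylow p G) = 1 + n * p

variable {G : Type u} [Group G] [Fintype G] [Fintype (IrrCharacter G)] {p : ℕ} [hp : Fact p.Prime]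
  {x0 : G}

theorem CC_eq (hx0 : orderOf x0 = p)
    (hcen : Subgroup.centralizer ({x0} : Set G) = Subgroup.zpowers x0) :
    CC x0 = Subgroup.zpowers x0 := by
  have h := centralizer_pw (x0 := x0) hx0 (k := (1 : ZMod p)) one_ne_zero
  rw [pw_one hx0] at h
  rw [← hcen, h]

theorem centralizer_pw_eq (hx0 : orderOf x0 = p)
    (hcen : Subgroup.centralizer ({x0} : Set G) = Subgroup.zpowers x0) {k : ZMod p} (hk : k ≠ 0) :
    Subgroup.centralizer ({pw x0 k} : Set G) = Subgroup.zpowers x0 := by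
  rw [centralizer_pw hx0 hk]
  exact CC_eq hx0 hcen

theorem exists_SC (hx0 : orderOf x0 = p)
    (hcen : Subgroup.centralizer ({x0} : Set G) = Subgroup.zpowers x0) :
    ∃ a Y ε e n, SC G p x0 a Y ε e n := by
  classical
  obtain ⟨M, hM⟩ := H78.Cong.exists_isPModular hp.out
  have hpg : IsPGroup p (Subgroup.zpowers x0) := by
    rw [IsPGroup.iff_card]
    exact ⟨1, by rw [card_zp hx0, pow_one]⟩
  obtain ⟨Q, hQ⟩ := hpg.exists_le_sylow
  have hQz := Cfsg.Agent.S0995.sylow_of_self_centralizing p x0 hx0 hcen Q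
    (hQ (Subgroup.mem_zpowers x0))
  have hidx : ¬ p ∣ (Subgroup.zpowers x0).index := by
    rw [← hQz]; exact Q.not_dvd_index
  have hCC := CC_eq hx0 hcen
  obtain ⟨a, Y, ε, hε, ha, haB, hY, hBu, hcY, hnorm, ht, hval, hdeg, hdegY, hrel, hYs⟩ :=
    structure_thm2 hM hx0 hidx rfl
  have hVV : Nat.card (VV p x0) = 1 := by
    have h1 := (CC_mul hx0 hidx).2
    rw [hCC, card_zp hx0] at h1
    have h2 : p * 1 = p * Nat.card (VV p x0) := by rw [mul_one]; exact h1
    exact (Nat.eq_of_mul_eq_mul_left hp.out.pos h2).symm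
  have hN : Nat.card (Subgroup.normalizer (Subgroup.zpowers x0 : Set G)) =
      p * Nat.card (psi hx0).range := by
    rw [card_normalizer_eq hx0 hidx, hVV, mul_one]
  have hsyl1 : Nat.card (Sylow p G) ≡ 1 [MOD p] := card_sylow_modEq_one p G
  have hsyl2 : Nat.card (Sylow p G) = 1 + (Nat.card (Sylow p G) / p) * p := by
    have h1 : Nat.card (Sylow p G) % p = 1 := by
      have := hsyl1
      rw [Nat.ModEq, Nat.mod_eq_of_lt hp.out.one_lt] at this
      exact this
    have h2 := Nat.div_add_mod (Nat.card (Sylow p G)) p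
    rw [h1] at h2
    conv_lhs => rw [← h2]
    ring
  have hGcard : Nat.card G = p * Nat.card (psi hx0).range *
      (1 + (Nat.card (Sylow p G) / p) * p) := by
    rw [← hsyl2, ← hN, ← hQz]
    exact (H21.SylowTools.card_normalizer_mul_card_sylow Q).symm
  refine ⟨a, Y, ε, Nat.card (psi hx0).range, Nat.card (Sylow p G) / p, hx0, hcen, hidx, hε, ha,
    fun χ hχ => (hY χ hχ).2, hcY, hnorm, ht, hval, ?_, ?_, hrel, hN, hGcard, hsyl2⟩
  · -- characters outside the principal block vanish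
    intro χ hχa hχY k hk
    have hχB : χ ∉ principalBlock M G := by
      intro h
      rcases hBu χ h with h1 | h1
      · exact h1 hχa
      · exact hχY h1
    have h1 := gamma_self hM hx0 hidx hk
    have h2 := column_orthogonality (G := G) (pw x0 k) (pw x0 k)
    rw [if_pos (IsConj.refl _), centralizer_pw_eq hx0 hcen hk, card_zp hx0] at h2
    have h3 : ∑ ψ : IrrCharacter G, (if ψ ∈ principalBlock M G then (0 : ℝ) else
        ‖(ψ : G → ℂ) (pw x0 k)‖ ^ 2) = 0 := by
      have h4 : ((∑ ψ : IrrCharacter G, (if ψ ∈ principalBlock M G then (0 : ℝ) else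
        ‖(ψ : G → ℂ) (pw x0 k)‖ ^ 2) : ℝ) : ℂ) = 0 := by
        have h5 : ∀ ψ : IrrCharacter G, ((if ψ ∈ principalBlock M G then (0 : ℝ) else
            ‖(ψ : G → ℂ) (pw x0 k)‖ ^ 2 : ℝ) : ℂ) =
            (ψ : G → ℂ) (pw x0 k) * (starRingEnd ℂ) ((ψ : G → ℂ) (pw x0 k)) -
            (if ψ ∈ principalBlock M G then
              (ψ : G → ℂ) (pw x0 k) * (starRingEnd ℂ) ((ψ : G → ℂ) (pw x0 k)) else 0) := by
          intro ψ
          by_cases h : ψ ∈ principalBlock M G
          · rw [if_pos h, if_pos h, sub_self, Complex.ofReal_zero]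
          · rw [if_neg h, if_neg h, sub_zero, Complex.mul_conj', Complex.ofReal_pow]
        rw [Complex.ofReal_sum, Finset.sum_congr rfl (fun ψ _ => h5 ψ), Finset.sum_sub_distrib, h2,
          h1, sub_self]
      exact_mod_cast h4
    have h4 := (Finset.sum_eq_zero_iff_of_nonneg (fun ψ _ => by
      by_cases h : ψ ∈ principalBlock M G
      · rw [if_pos h]
      · rw [if_neg h]; positivity)).1 h3 χ (Finset.mem_univ χ)
    rw [if_neg hχB] at h4
    exact norm_eq_zero.1 (pow_eq_zero_iff (two_ne_zero) |>.1 h4)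
  · intro χ hχ
    rw [← sum_bb', hYs χ hχ]

end H21.SelfC
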