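import Cfsg.Agent.Lib.H21.SC9

/-!
Simple groups with a self-centralizing subgroup of prime order: the case of small exceptional
characters.
-/

set_option autoImplicit false
set_option linter.unusedSectionVars false

namespace H21.SelfC

open Cfsg H18.CharBasic H18.CharOrtho H18.CharInd H21.PLat

universe u

theorem char_eq_zero {N : Type u} [Group N] [Finite N] {f : N → ℂ} (hf : IsCharacter N f)
    (h : f 1 = 0) : f = 0 := by
  ext g
  have h1 := char_norm_le hf g
  rw [h, Complex.zero_re] at h1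
  simpa using h1

section rel

variable {N : Type u} [Group N] [Fintype N] (K : Subgroup N) [hK : K.Normal] [Fintype K]
  (hC : ∀ k ∈ K, k ≠ 1 → Subgroup.centralizer ({k} : Set N) ≤ K)
  (hab : ∀ a b : K, a * b = b * a)

include hC hab in
theorem irr_of_degree {χ : N → ℂ} (hχ : IsCharacter N χ) (h0 : ∑ k : K, χ k = 0)
    (h1 : χ 1 = K.index) : IsIrrCharacter N χ := by
  obtain ⟨S, hS, hSum⟩ := exists_multiset hχ
  have hidx : (K.index : ℂ) ≠ 0 := by exact_mod_cast K.index_ne_zero_of_finite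
  rcases Multiset.empty_or_exists_mem S with hS0 | ⟨ψ, hψ⟩
  · rw [hSum, hS0, Multiset.sum_zero, Pi.zero_apply] at h1
    exact absurd h1.symm hidx
  · obtain ⟨T, rfl⟩ := Multiset.exists_cons_of_mem hψ
    have hψ' := hS ψ hψ
    have hT : IsCharacter N T.sum := isCharacter_multiset_sum _ fun φ hφ =>
      isCharacter_of_isIrr (hS φ (Multiset.mem_cons_of_mem hφ))
    rw [Multiset.sum_cons] at hSum
    obtain ⟨f, hf1, hf2, hf3, -⟩ := H21.FrobRes.exists_fix K hC (isCharacter_of_isIrr hψ')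
    obtain ⟨f', hf1', hf2', hf3', -⟩ := H21.FrobRes.exists_fix K hC hT
    obtain ⟨d, hd⟩ := exists_degree hf1
    obtain ⟨d', hd'⟩ := exists_degree hf1'
    have h2 : (Nat.card K : ℂ) * (d + d' : ℕ) = 0 := by
      rw [← h0, hSum]
      simp only [Pi.add_apply]
      rw [Finset.sum_add_distrib, hf3, hf3', hd, hd']
      push_cast
      ring
    have h3 : d + d' = 0 := by
      rcases mul_eq_zero.1 h2 with h4 | h4
      · have h5 : Nat.card K = 0 := by exact_mod_cast h4
        exact absurd h5 Nat.card_pos.ne'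
      · exact_mod_cast h4
    have hker : ∃ k ∈ K, ψ k ≠ ψ 1 := by
      by_contra hcon
      push Not at hcon
      have h4 : ∑ k : K, ψ k = Nat.card K * ψ 1 := by
        rw [Finset.sum_congr rfl (fun (k : K) _ => hcon (k : N) k.2), Finset.sum_const,
          Finset.card_univ, nsmul_eq_mul, Nat.card_eq_fintype_card]
      rw [hf3, hd] at h4
      have h5 : d = 0 := by omega
      rw [h5, Nat.cast_zero, mul_zero] at h4
      rcases mul_eq_zero.1 h4.symm with h6 | h6
      · have h5 : Nat.card K = 0 := by exact_mod_cast h6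
        exact absurd h5 Nat.card_pos.ne'
      · exact irr_one_ne_zero hψ' h6
    have h4 := H21.BrauerDeg.degree_rel K hC hab hψ' hker
    have h5 : T.sum 1 = 0 := by
      have h6 := congrFun hSum 1
      rw [Pi.add_apply, h1, h4] at h6
      linear_combination -h6
    rw [hSum, char_eq_zero hT h5, add_zero]
    exact hψ'

end rel

theorem num_plus {e n s p q : ℕ} (hes : p = e * s + 1) (he : 2 ≤ e) (hn : 1 ≤ n) (hs : 2 ≤ s)
    (h1 : 1 + q * (n + 1) = e) (h2 : 1 + q * (1 + n * p) ≤ e ^ 2) : n = 1 ∧ s = 2 := by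
  have hq : 0 < q := by
    rcases Nat.eq_zero_or_pos q with h0 | h0
    · rw [h0, zero_mul] at h1; omega
    · exact h0
  have h3 : q * (1 + n * p) ≤ q * ((n + 1) * (e + 1)) := by
    have h4 : e ^ 2 = 1 + q * (n + 1) * (e + 1) := by
      obtain ⟨m, rfl⟩ : ∃ m, e = m + 1 := ⟨e - 1, by omega⟩
      have : q * (n + 1) = m := by omega
      rw [this]; ring
    have h5 : q * ((n + 1) * (e + 1)) = q * (n + 1) * (e + 1) := by ring
    omega
  have h4 : 1 + n * p ≤ (n + 1) * (e + 1) := Nat.le_of_mul_le_mul_left h3 hq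
  rw [hes] at h4
  have h5 : e * (n * s) ≤ e * (n + 1) := by nlinarith
  have h6 : n * s ≤ n + 1 := Nat.le_of_mul_le_mul_left h5 (by omega)
  have h7 : n * 2 ≤ n * s := Nat.mul_le_mul_left _ hs
  have h8 : n = 1 := by omega
  subst h8
  constructor
  · rfl
  · omega

variable {G : Type u} [Group G] [Fintype G] [Fintype (IrrCharacter G)] {p : ℕ} [hp : Fact p.Prime]
  {x0 : G} {a : IrrCharacter G → ℤ} {Y : Finset (IrrCharacter G)} {ε : ℤ} {e n s : ℕ}
  {w : IrrCharacter G → ℕ}

theorem Dat.plus (D : Dat G p x0 a Y ε e n s w) (hε : ε = 1) (hs : 2 ≤ s) : n = 1 ∧ s = 2 := by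
  classical
  let _ : Fintype (NN x0) := Fintype.ofFinite _
  let _ : Fintype ((Subgroup.zpowers x0).subgroupOf (NN x0)) := Fintype.ofFinite _
  have h := D.toSC
  have hcase : (∀ χ ∈ Y, charDegree (χ : G → ℂ) = e ∧ w χ = 0) ∧ (Ap a).card * (n + 1) + 1 = e := by
    rcases D.hcase with ⟨-, h1⟩ | ⟨h1, -⟩
    · exact h1
    · rw [hε] at h1; exact absurd h1 (by decide)
  have hYne : Y.Nonempty := by
    rw [← Finset.card_pos, D.hcY]; omega
  obtain ⟨θ, hθ⟩ := hYne
  have hθ1 : (θ : G → ℂ) 1 = e := by rw [← H82.Deg.coe_charDegree', (hcase.1 θ hθ).1]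
  have hθc := isCharacter_of_isIrr θ.2
  obtain ⟨f, hf1, hf2, hf3, hf4⟩ := exists_res h hθc
  rw [D.hw, (hcase.1 θ hθ).2, Nat.cast_zero] at hf3
  have hf0 := char_eq_zero hf1 hf3
  have hvan : ∀ x : NN x0, (x : G) ∉ Subgroup.zpowers x0 → (θ : G → ℂ) x = 0 := fun x hx => by
    rw [hf2 x hx, hf0]; rfl
  have hN : ((Subgroup.zpowers x0).subgroupOf (NN x0)).Normal := Subgroup.normal_in_normalizer
  have hle : Subgroup.zpowers x0 ≤ NN x0 := Subgroup.le_normalizer
  have hcardK : Nat.card ((Subgroup.zpowers x0).subgroupOf (NN x0)) = p := by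
    rw [Nat.card_congr (Subgroup.subgroupOfEquivOfLe hle).toEquiv, card_zp h.hx0]
  have hidx : ((Subgroup.zpowers x0).subgroupOf (NN x0)).index = e := by
    have h1 := ((Subgroup.zpowers x0).subgroupOf (NN x0)).card_mul_index
    rw [hcardK, h.hcardN] at h1
    exact Nat.eq_of_mul_eq_mul_left hp.out.pos h1
  have hirr : IsIrrCharacter (NN x0) (fun x : NN x0 => (θ : G → ℂ) x) := by
    have hab : ∀ a b : (Subgroup.zpowers x0).subgroupOf (NN x0), a * b = b * a := by
      intro a b
      obtain ⟨i, hi⟩ := Subgroup.mem_subgroupOf.1 a.2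
      obtain ⟨j, hj⟩ := Subgroup.mem_subgroupOf.1 b.2
      apply Subtype.ext
      apply Subtype.ext
      simp only at hi hj
      rw [Subgroup.coe_mul, Subgroup.coe_mul, Subgroup.coe_mul, Subgroup.coe_mul, ← hi, ← hj,
        ← zpow_add, ← zpow_add, add_comm]
    apply irr_of_degree ((Subgroup.zpowers x0).subgroupOf (NN x0)) (centralizer_le h.hx0 h.hcen)
      hab (isCharacter_restrict (NN x0) hθc)
    · have h1 : ∑ k : (Subgroup.zpowers x0).subgroupOf (NN x0), (θ : G → ℂ) ((k : NN x0) : G) =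
          ∑ j : ZMod p, (θ : G → ℂ) (pw x0 j) := by
        symm
        refine Finset.sum_bij (fun j _ => ⟨⟨pw x0 j, hle (pw_mem j)⟩, pw_mem j⟩)
          (fun j _ => Finset.mem_univ _) (fun i _ j _ hij => ?_) (fun k _ => ?_) (fun j _ => rfl)
        · have := congrArg Subtype.val (congrArg Subtype.val hij)
          exact pw_inj h.hx0 this
        · obtain ⟨j, hj⟩ := mem_zpowers_pw h.hx0 (Subgroup.mem_subgroupOf.1 k.2)
          exact ⟨j, Finset.mem_univ _, Subtype.ext (Subtype.ext hj)⟩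
      rw [h1]
      have h2 := D.hw θ
      rw [(hcase.1 θ hθ).2, Nat.cast_zero, mu] at h2
      simp only [zero_mul, neg_zero, AddChar.map_zero_eq_one, mul_one] at h2
      exact (mul_eq_zero.1 h2).resolve_left (inv_ne_zero pC)
    · rw [hidx]
      exact hθ1
  -- the product
  set Ψ : G → ℂ := (θ : G → ℂ) * (fun g => (starRingEnd ℂ) ((θ : G → ℂ) g)) with hΨ
  have hΨc : IsCharacter G Ψ := isCharacter_mul hθc (isCharacter_conj hθc)
  have hnat : ∀ χ : IrrCharacter G, ∃ m : ℕ, classInner Ψ (χ : G → ℂ) = m := fun χ =>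
    inner_char_natCast hΨc (isCharacter_of_isIrr χ.2)
  choose c hc using hnat
  have hexp : ∀ g : G, Ψ g = ∑ χ : IrrCharacter G, (c χ : ℂ) * (χ : G → ℂ) g := by
    intro g
    have h1 := mem_classFun_expand (isClassFunction_of_isCharacter hΨc)
    conv_lhs => rw [h1]
    rw [Finset.sum_apply]
    refine Finset.sum_congr rfl fun χ _ => ?_
    rw [Pi.smul_apply, smul_eq_mul, hc]
  have hΨN : classInner (fun x : NN x0 => Ψ x) (fun _ => 1) = 1 := by
    have h1 : classInner (fun x : NN x0 => Ψ x) (fun _ => 1) =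
        classInner (fun x : NN x0 => (θ : G → ℂ) x) (fun x : NN x0 => (θ : G → ℂ) x) := by
      rw [classInner, classInner]
      congr 1
      refine Finset.sum_congr rfl fun x _ => ?_
      rw [map_one, mul_one]
      rfl
    rw [h1]
    exact inner_irr_self hirr
  have hct : c (triv G) = 1 := by
    have h1 := hc (triv G)
    have h2 : classInner Ψ ((triv G : IrrCharacter G) : G → ℂ) =
        classInner (θ : G → ℂ) (θ : G → ℂ) := by
      rw [classInner, classInner]
      congr 1
      refine Finset.sum_congr rfl fun x _ => ?_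
      have : ((triv G : IrrCharacter G) : G → ℂ) x = 1 := by simp
      rw [this, map_one, mul_one]
      rfl
    rw [h2, inner_irr_self θ.2] at h1
    exact_mod_cast h1.symm
  obtain ⟨-, hr1, hr2, -⟩ := mult_data D
  -- multiplicities in the permutation character
  have hmult : (1 : ℂ) = ∑ χ : IrrCharacter G, (c χ : ℂ) *
      classInner (fun x : NN x0 => (χ : G → ℂ) x) (fun _ => 1) := by
    have h1 : (fun x : NN x0 => Ψ x) = ∑ χ : IrrCharacter G,
        (c χ : ℂ) • (fun x : NN x0 => (χ : G → ℂ) x) := by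
      ext x
      rw [Finset.sum_apply, hexp]
      rfl
    refine hΨN.symm.trans ?_
    rw [h1, H18.CharOrtho.inner_sum_left]
    refine Finset.sum_congr rfl fun χ _ => ?_
    rw [H18.CharOrtho.inner_smul_left]
  have hZ0 : ∀ χ ∈ Zs a Y, c χ = 0 := by
    rw [sum_split h.ha h.hYa h.htriv] at hmult
    have ht : classInner (fun x : NN x0 => ((triv G : IrrCharacter G) : G → ℂ) x) (fun _ => 1) = 1 := by
      have h2 : (fun x : NN x0 => ((triv G : IrrCharacter G) : G → ℂ) x) = fun _ => 1 := by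
        ext x; simp
      rw [h2, inner_irr_self isIrrCharacter_one]
    have e1 : ∑ χ ∈ Ap a, (c χ : ℂ) *
        classInner (fun x : NN x0 => (χ : G → ℂ) x) (fun _ => 1) = 0 :=
      Finset.sum_eq_zero fun χ hχ => by
        rw [hr2 χ (fun hz => by
          have := (mem_Zs.1 hz).1
          rw [(mem_Ap.1 hχ).1] at this
          exact one_ne_zero this) (mem_Ap.1 hχ).2, mul_zero]
    have e2 : ∑ χ ∈ Am a, (c χ : ℂ) *
        classInner (fun x : NN x0 => (χ : G → ℂ) x) (fun _ => 1) = 0 :=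
      Finset.sum_eq_zero fun χ hχ => by
        rw [hr2 χ (fun hz => by
          have := (mem_Zs.1 hz).1
          rw [mem_Am.1 hχ] at this
          exact absurd this (by decide)) (fun ht => by
            have := mem_Am.1 hχ
            rw [ht, h.htriv] at this
            exact absurd this (by decide)), mul_zero]
    have e3 : ∑ χ ∈ Y, (c χ : ℂ) *
        classInner (fun x : NN x0 => (χ : G → ℂ) x) (fun _ => 1) = 0 :=
      Finset.sum_eq_zero fun χ hχ => by
        rw [hr2 χ (fun hz => (mem_Zs.1 hz).2 hχ) (fun ht => by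
          have := h.hYa χ hχ
          rw [ht, h.htriv] at this
          exact one_ne_zero this), mul_zero]
    have e4 : ∑ χ ∈ Zs a Y, (c χ : ℂ) *
        classInner (fun x : NN x0 => (χ : G → ℂ) x) (fun _ => 1) =
        ((∑ χ ∈ Zs a Y, c χ * w χ : ℕ) : ℂ) := by
      rw [Nat.cast_sum]
      refine Finset.sum_congr rfl fun χ hχ => ?_
      rw [hr1 χ hχ, Nat.cast_mul]
    rw [hct, ht, e1, e2, e3, e4, Nat.cast_one, mul_one, add_zero, add_zero, add_zero,
      left_eq_add] at hmult
    have h5 : ∑ χ ∈ Zs a Y, c χ * w χ = 0 := by exact_mod_cast hmult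
    intro χ hχ
    have h6 := (Finset.sum_eq_zero_iff.1 h5) χ hχ
    rcases Nat.mul_eq_zero.1 h6 with h7 | h7
    · exact h7
    · exfalso
      have h4 := H82.Deg.charDegree_pos χ
      rw [D.hZs χ hχ, h7, mul_zero] at h4
      omega
  -- the fixed points
  have hmuΨ : ∑ j : ZMod p, Ψ (pw x0 j) = p * e := by
    have h1 := hΨN
    rw [classInner, h.hcardN] at h1
    simp only [map_one, mul_one] at h1
    rw [sum_NN h.hx0 Ψ] at h1
    have h2 : ∑ x : NN x0, (if (x : G) ∈ Subgroup.zpowers x0 then 0 else Ψ x) = 0 := by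
      apply Finset.sum_eq_zero
      intro x _
      split_ifs with hx
      · rfl
      · rw [hΨ, Pi.mul_apply, hvan x hx, zero_mul]
    rw [h2, add_zero] at h1
    have h3 : ((p * e : ℕ) : ℂ) ≠ 0 := by
      have := D.he2
      have := hp.out.pos
      exact_mod_cast (by positivity : p * e ≠ 0)
    rw [inv_mul_eq_iff_eq_mul₀ h3, mul_one] at h1
    rw [h1]
    push_cast
    rfl
  have hsumw : ∑ χ : IrrCharacter G, c χ * w χ = e := by
    have h1 : ∑ j : ZMod p, Ψ (pw x0 j) = ∑ χ : IrrCharacter G, (c χ : ℂ) * (p * w χ) := by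
      simp_rw [hexp]
      rw [Finset.sum_comm]
      refine Finset.sum_congr rfl fun χ _ => ?_
      rw [← Finset.mul_sum]
      congr 1
      have h2 := D.hw χ
      rw [mu] at h2
      simp only [zero_mul, neg_zero, AddChar.map_zero_eq_one, mul_one] at h2
      rw [← h2, ← mul_assoc, mul_inv_cancel₀ pC, one_mul]
    rw [hmuΨ] at h1
    have h2 : (p : ℂ) * (∑ χ : IrrCharacter G, c χ * w χ : ℕ) = p * e := by
      rw [h1, Nat.cast_sum, Finset.mul_sum]
      refine Finset.sum_congr rfl fun χ _ => ?_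
      push_cast
      ring
    have h3 := mul_left_cancel₀ pC h2
    exact_mod_cast h3
  have hsumD : ∑ χ : IrrCharacter G, c χ * charDegree (χ : G → ℂ) = e ^ 2 := by
    have h1 := hexp 1
    rw [hΨ, Pi.mul_apply, hθ1, Complex.conj_natCast] at h1
    have h2 : ((∑ χ : IrrCharacter G, c χ * charDegree (χ : G → ℂ) : ℕ) : ℂ) = ((e ^ 2 : ℕ) : ℂ) := by
      rw [Nat.cast_sum]
      push_cast
      rw [sq, h1]
      refine Finset.sum_congr rfl fun χ _ => ?_
      rw [H82.Deg.coe_charDegree']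
    exact_mod_cast h2
  have hdt : charDegree ((triv G : IrrCharacter G) : G → ℂ) = 1 := by
    apply H82.Deg.charDegree_eq_of
    simp
  rw [sum_split h.ha h.hYa h.htriv, hct, D.hwt] at hsumw
  rw [sum_split h.ha h.hYa h.htriv, hct, hdt] at hsumD
  have f1 : ∑ χ ∈ Ap a, c χ * w χ = (∑ χ ∈ Ap a, c χ) * (n + 1) := by
    rw [Finset.sum_mul]
    exact Finset.sum_congr rfl fun χ hχ => by rw [(D.hAp χ hχ).2]
  have f2 : ∑ χ ∈ Am a, c χ * w χ = 0 :=
    Finset.sum_eq_zero fun χ hχ => by rw [(D.hAm χ hχ).2.1, mul_zero]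
  have f3 : ∑ χ ∈ Y, c χ * w χ = 0 :=
    Finset.sum_eq_zero fun χ hχ => by rw [(hcase.1 χ hχ).2, mul_zero]
  have f4 : ∑ χ ∈ Zs a Y, c χ * w χ = 0 :=
    Finset.sum_eq_zero fun χ hχ => by rw [hZ0 χ hχ, zero_mul]
  have g1 : ∑ χ ∈ Ap a, c χ * charDegree (χ : G → ℂ) = (∑ χ ∈ Ap a, c χ) * (1 + n * p) := by
    rw [Finset.sum_mul]
    exact Finset.sum_congr rfl fun χ hχ => by rw [(D.hAp χ hχ).1]
  rw [f1, f2, f3, f4] at hsumw
  rw [g1] at hsumD
  exact num_plus D.hes D.he2 D.hn1 hs (by omega) (by omega)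

end H21.SelfC
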