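import Cfsg.Agent.Lib.H21.SC10
import Cfsg.Agent.Lib.H18.CharCentral

/-!
Simple groups with a self-centralizing subgroup of prime order: the case of large exceptional
characters.
-/

set_option autoImplicit false
set_option linter.unusedSectionVars false

namespace H21.SelfC

open Cfsg H18.CharBasic H18.CharOrtho H18.CharInd H21.PLat

universe u

/-- values of characters at involutions -/
theorem char_invol {N : Type u} [Group N] [Finite N] {χ : N → ℂ} (hχ : IsCharacter N χ) {t : N}
    (ht : t * t = 1) : ∃ (z : ℤ) (d : ℕ), χ t = z ∧ χ 1 = d ∧ |z| ≤ d ∧ (2 : ℤ) ∣ d - z := by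
  obtain ⟨S, hS⟩ := exists_eigen hχ t
  have h1 := hS 1
  have h2 := hS ⟨t, Subgroup.mem_zpowers t⟩
  simp only [Subgroup.coe_one] at h1
  simp only at h2
  rw [h1, h2]
  have hval : ∀ f : Subgroup.zpowers t →* ℂˣ,
      ((f ⟨t, Subgroup.mem_zpowers t⟩ : ℂˣ) : ℂ) = 1 ∨
      ((f ⟨t, Subgroup.mem_zpowers t⟩ : ℂˣ) : ℂ) = -1 := by
    intro f
    have h3 : (⟨t, Subgroup.mem_zpowers t⟩ : Subgroup.zpowers t) *
        ⟨t, Subgroup.mem_zpowers t⟩ = 1 := Subtype.ext ht
    have h4 := congrArg (fun x => ((f x : ℂˣ) : ℂ)) h3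
    simp only [map_mul, map_one, Units.val_mul, Units.val_one] at h4
    exact mul_self_eq_one_iff.1 h4
  clear hS h1 h2
  induction S using Multiset.induction_on with
  | empty => exact ⟨0, 0, by simp, by simp, by simp, by simp⟩
  | cons f S ih =>
    obtain ⟨z, d, h3, h4, h5, h6⟩ := ih
    rw [Multiset.map_cons, Multiset.sum_cons, Multiset.map_cons, Multiset.sum_cons, h3, h4]
    rcases hval f with h7 | h7
    · refine ⟨z + 1, d + 1, by rw [h7]; push_cast; ring, by simp [add_comm], ?_, ?_⟩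
      · push_cast
        rw [abs_le] at h5 ⊢
        constructor <;> linarith
      · push_cast
        have : (d : ℤ) + 1 - (z + 1) = d - z := by ring
        rw [this]; exact h6
    · refine ⟨z - 1, d + 1, by rw [h7]; push_cast; ring, by simp [add_comm], ?_, ?_⟩
      · push_cast
        rw [abs_le] at h5 ⊢
        constructor <;> linarith
      · push_cast
        have : (d : ℤ) + 1 - (z - 1) = d - z + 2 := by ring
        rw [this]; exact dvd_add h6 (dvd_refl _)

theorem num_minus {e n s p v α : ℕ} (hes : p = e * s + 1) (he : 2 ≤ e) (hs : 2 ≤ s)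
    (h1 : v * s = n + 1) (h2 : v * (α * s + 1) + 1 = e) (h3 : n + 1 ∣ p - 1) :
    v = 1 ∧ n + 1 = s ∧ e = α * s + 2 := by
  have h4 : v ∣ e := by
    rw [← h1] at h3
    have h5 : p - 1 = e * s := by omega
    rw [h5] at h3
    exact Nat.dvd_of_mul_dvd_mul_right (by omega) h3
  have h5 : v ∣ 1 := by
    have h6 : v ∣ v * (α * s + 1) := dvd_mul_right _ _
    rw [← h2] at h4
    exact (Nat.dvd_add_right h6).1 h4
  have h6 : v = 1 := Nat.dvd_one.1 h5
  subst h6
  refine ⟨rfl, by omega, by omega⟩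

variable {G : Type u} [Group G] [Fintype G] [Fintype (IrrCharacter G)] {p : ℕ} [hp : Fact p.Prime]
  {x0 : G} {a : IrrCharacter G → ℤ} {Y : Finset (IrrCharacter G)} {ε : ℤ} {e n s : ℕ}
  {w : IrrCharacter G → ℕ}

theorem Dat.five_le (D : Dat G p x0 a Y ε e n s w) (hs : 2 ≤ s) : 5 ≤ p := by
  have h1 := D.hes
  have h2 := D.he2
  have : 2 * 2 ≤ e * s := Nat.mul_le_mul h2 hs
  omega

/-- numerical data in the second case -/
theorem Dat.minus_num (D : Dat G p x0 a Y ε e n s w) (hε : ε = -1) (hs : 2 ≤ s) :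
    n + 1 = s ∧ e = (Ap a).card * s + 2 ∧ 2 ∣ e ∧
      (∀ χ ∈ Y, charDegree (χ : G → ℂ) + e = p ∧ w χ = 1) := by
  have hp5 := D.five_le hs
  rcases D.hcase with ⟨h1, -⟩ | ⟨-, v, h1, h2, h4⟩
  · rw [hε] at h1; exact absurd h1 (by decide)
  · have h3 := D.succ_dvd_pred (by
      have h5 : v + 1 ≤ e := by
        have : v * 1 ≤ v * ((Ap a).card * s + 1) := Nat.mul_le_mul_left _ (by omega)
        omega
      have h6 : (v + 1) * s ≤ e * s := Nat.mul_le_mul_right _ h5
      have h7 : (v + 1) * s = n + 1 + s := by rw [← h1]; ring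
      have := D.hes
      omega)
    obtain ⟨hv, hns, he⟩ := num_minus D.hes D.he2 hs h1 h2 h3
    refine ⟨hns, he, ?_, ?_⟩
    · have hpo : ¬ 2 ∣ p := by
        intro h5
        rcases (Nat.dvd_prime hp.out).1 h5 with h6 | h6 <;> omega
      have h6 : 2 ∣ e * s := by
        have := D.hes
        omega
      rcases (Nat.Prime.dvd_mul Nat.prime_two).1 h6 with h7 | h7
      · exact h7
      · rw [he]
        exact dvd_add (h7.mul_left _) (dvd_refl _)
    · intro χ hχ
      have := h4 χ hχ
      rw [hv, mul_one] at this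
      exact this

end H21.SelfC
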