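import Cfsg.Agent.Lib.H21.SC11

/-!
Simple groups with a self-centralizing subgroup of prime order: involutions.
-/

set_option autoImplicit false
set_option linter.unusedSectionVars false

namespace H21.SelfC

open Cfsg H18.CharBasic H18.CharOrtho H18.CharInd H21.PLat

universe u

variable {G : Type u} [Group G] [Fintype G] [Fintype (IrrCharacter G)] {p : ℕ} [hp : Fact p.Prime]
  {x0 : G} {a : IrrCharacter G → ℤ} {Y : Finset (IrrCharacter G)} {ε : ℤ} {e n s : ℕ}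
  {w : IrrCharacter G → ℕ}

/-- values at an involution -/
theorem Dat.invol_values (D : Dat G p x0 a Y ε e n s w) (hε : ε = -1) (hs : 2 ≤ s) {t : G}
    (ht : t ∈ NN x0) (htx : t ∉ Subgroup.zpowers x0) (ht2 : orderOf t = 2)
    (hcard : Nat.card (Subgroup.centralizer ({t} : Set G)) = e * s) :
    ∃ (z : IrrCharacter G → ℤ) (ν : ℤ), (∀ χ : IrrCharacter G, (χ : G → ℂ) t = z χ) ∧
      z (triv G) = 1 ∧
      (∀ χ ∈ Ap a, z χ ^ 2 = s ^ 2) ∧ (∀ χ ∈ Am a, z χ = 0) ∧ (∀ χ ∈ Y, z χ = ν) ∧ ν ^ 2 = 1 ∧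
      (∀ χ ∈ Zs a Y, z χ = w χ) ∧ 1 + ν + ∑ χ ∈ Ap a, z χ = 0 := by
  classical
  let _ : Fintype (NN x0) := Fintype.ofFinite _
  have h := D.toSC
  obtain ⟨hns, heα, he2, hY⟩ := D.minus_num hε hs
  have htt : t * t = 1 := by rw [← sq, ← ht2]; exact pow_orderOf_eq_one t
  have ht1 : t ≠ 1 := by rintro rfl; rw [orderOf_one] at ht2; omega
  have hz : ∀ χ : IrrCharacter G, ∃ z : ℤ, (χ : G → ℂ) t = z ∧ |z| ≤ w χ ∧ (2 : ℤ) ∣ w χ - z := by
    intro χ
    obtain ⟨f, h1, h2, h3, -⟩ := exists_res h (isCharacter_of_isIrr χ.2)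
    obtain ⟨z, d, h4, h5, h6, h7⟩ := char_invol h1 (t := ⟨t, ht⟩) (Subtype.ext htt)
    rw [D.hw, h5] at h3
    have hd : d = w χ := by exact_mod_cast h3
    refine ⟨z, ?_, by rw [← hd]; exact h6, by rw [← hd]; exact h7⟩
    rw [← h4]
    exact h2 ⟨t, ht⟩ htx
  choose z hz1 hz2 hz3 using hz
  have hzt : z (triv G) = 1 := by
    have := hz1 (triv G)
    have h1 : ((triv G : IrrCharacter G) : G → ℂ) t = 1 := by simp
    rw [h1] at this
    exact_mod_cast this.symm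
  have hzZ : ∀ χ ∈ Zs a Y, z χ = w χ := by
    intro χ hχ
    have h1 := (mult_data D).1 χ hχ t ht htx
    rw [hz1] at h1
    exact_mod_cast h1
  have hzAm : ∀ χ ∈ Am a, z χ = 0 := by
    intro χ hχ
    have h1 := hz2 χ
    rw [(D.hAm χ hχ).2.1] at h1
    exact abs_nonpos_iff.1 (by exact_mod_cast h1)
  have hε0 : (ε : ℂ) ≠ 0 := by rw [hε]; simp
  have hYne : Y.Nonempty := by
    rw [← Finset.card_pos, D.hcY]; omega
  obtain ⟨θ, hθ⟩ := hYne
  have hpreg := pregular h ht htx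
  have hzY : ∀ χ ∈ Y, z χ = z θ := by
    intro χ hχ
    have h1 : (χ : G → ℂ) t = (θ : G → ℂ) t := by
      apply mul_left_cancel₀ hε0
      rw [h.hrel χ hχ _ hpreg, h.hrel θ hθ _ hpreg]
    rw [hz1, hz1] at h1
    exact_mod_cast h1
  have hν : z θ ^ 2 = 1 := by
    have h1 := hz2 θ
    have h2 := hz3 θ
    rw [(hY θ hθ).2] at h1 h2
    rw [abs_le] at h1
    push_cast at h1 h2
    obtain ⟨b, hb⟩ := h2
    have h3 : z θ = 1 - 2 * b := by linarith
    rw [h3] at h1 ⊢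
    have : b = 0 ∨ b = 1 := by omega
    rcases this with rfl | rfl <;> norm_num
  have hApw : ∀ χ ∈ Ap a, z χ ^ 2 ≤ (s : ℤ) ^ 2 := by
    intro χ hχ
    have h1 := hz2 χ
    rw [(D.hAp χ hχ).2, hns] at h1
    exact sq_le_sq' (abs_le.1 h1).1 (abs_le.1 h1).2
  -- column orthogonality
  have hcol : ∑ χ : IrrCharacter G, z χ ^ 2 = e * s := by
    have h1 := column_orthogonality (G := G) t t
    rw [if_pos (IsConj.refl _), hcard] at h1
    have h2 : ((∑ χ : IrrCharacter G, z χ ^ 2 : ℤ) : ℂ) = ((e * s : ℤ) : ℂ) := by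
      push_cast
      push_cast at h1
      rw [← h1]
      refine Finset.sum_congr rfl fun χ _ => ?_
      rw [hz1, map_intCast, sq]
    exact_mod_cast h2
  rw [sum_split h.ha h.hYa h.htriv] at hcol
  have e1 : ∑ χ ∈ Am a, z χ ^ 2 = 0 := Finset.sum_eq_zero fun χ hχ => by rw [hzAm χ hχ]; norm_num
  have e2 : ∑ χ ∈ Y, z χ ^ 2 = s := by
    rw [Finset.sum_congr rfl (fun χ hχ => by rw [hzY χ hχ, hν]), Finset.sum_const, D.hcY]
    simp
  have e3 : ∑ χ ∈ Zs a Y, z χ ^ 2 = n := by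
    rw [Finset.sum_congr rfl (fun χ hχ => by rw [hzZ χ hχ])]
    have := D.hsq
    exact_mod_cast this
  rw [hzt, e1, e2, e3] at hcol
  have hApsum : ∑ χ ∈ Ap a, z χ ^ 2 = ∑ _χ ∈ Ap a, (s : ℤ) ^ 2 := by
    rw [Finset.sum_const, nsmul_eq_mul]
    have h1 : (s : ℤ) = n + 1 := by exact_mod_cast hns.symm
    have h2 : (e : ℤ) = (Ap a).card * s + 2 := by exact_mod_cast heα
    have h3 : (e : ℤ) * s = (Ap a).card * s ^ 2 + 2 * s := by rw [h2]; ring
    rw [h3] at hcol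
    linarith
  have hzAp := (Finset.sum_eq_sum_iff_of_le hApw).1 hApsum
  refine ⟨z, z θ, hz1, hzt, hzAp, hzAm, hzY, hν, hzZ, ?_⟩
  -- degree orthogonality
  have hdeg : ∑ χ : IrrCharacter G, (charDegree (χ : G → ℂ) : ℤ) * z χ = 0 := by
    have h1 := sum_degree_mul (G := G) ht1
    have h2 : ((∑ χ : IrrCharacter G, (charDegree (χ : G → ℂ) : ℤ) * z χ : ℤ) : ℂ) = 0 := by
      rw [← h1]
      push_cast
      refine Finset.sum_congr rfl fun χ _ => ?_
      rw [hz1, H82.Deg.coe_charDegree']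
    exact_mod_cast h2
  rw [sum_split h.ha h.hYa h.htriv] at hdeg
  have hdt : charDegree ((triv G : IrrCharacter G) : G → ℂ) = 1 := by
    apply H82.Deg.charDegree_eq_of
    simp
  have f0 : ∑ χ ∈ Ap a, (charDegree (χ : G → ℂ) : ℤ) * z χ = (1 + n * p) * ∑ χ ∈ Ap a, z χ := by
    rw [Finset.mul_sum]
    refine Finset.sum_congr rfl fun χ hχ => ?_
    rw [(D.hAp χ hχ).1]
    push_cast
    ring
  have f1 : ∑ χ ∈ Am a, (charDegree (χ : G → ℂ) : ℤ) * z χ = 0 :=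
    Finset.sum_eq_zero fun χ hχ => by rw [hzAm χ hχ, mul_zero]
  have f2 : ∑ χ ∈ Y, (charDegree (χ : G → ℂ) : ℤ) * z χ = s * ((p - e) * z θ) := by
    have h1 : ∀ χ ∈ Y, (charDegree (χ : G → ℂ) : ℤ) * z χ = (p - e) * z θ := by
      intro χ hχ
      rw [hzY χ hχ]
      have h2 := (hY χ hχ).1
      have h3 : (charDegree (χ : G → ℂ) : ℤ) = p - e := by
        have : ((charDegree (χ : G → ℂ) + e : ℕ) : ℤ) = p := by rw [h2]
        push_cast at this
        linarith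
      rw [h3]
    rw [Finset.sum_congr rfl h1, Finset.sum_const, D.hcY, nsmul_eq_mul]
  have f3 : ∑ χ ∈ Zs a Y, (charDegree (χ : G → ℂ) : ℤ) * z χ = p * n := by
    have h1 : (n : ℤ) = ∑ χ ∈ Zs a Y, (w χ : ℤ) ^ 2 := by exact_mod_cast D.hsq.symm
    rw [h1, Finset.mul_sum]
    refine Finset.sum_congr rfl fun χ hχ => ?_
    rw [hzZ χ hχ, D.hZs χ hχ]
    push_cast
    ring
  rw [hdt, hzt, f0, f1, f2, f3] at hdeg
  have hs1 : (s : ℤ) = n + 1 := by exact_mod_cast hns.symm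
  have hes : (p : ℤ) = e * s + 1 := by exact_mod_cast D.hes
  have h1 : (1 + (n : ℤ) * p) * (1 + z θ + ∑ χ ∈ Ap a, z χ) = 0 := by
    have h2 : (s : ℤ) * ((p - e) * z θ) = (1 + n * p) * z θ := by
      have : (s : ℤ) * (p - e) = 1 + n * p := by
        have : (s : ℤ) * e = p - 1 := by rw [hes]; ring
        rw [mul_sub, this, hs1]; ring
      rw [← mul_assoc, this]
    rw [h2] at hdeg
    push_cast at hdeg
    linarith
  have hX : (1 + (n : ℤ) * p) ≠ 0 := by positivity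
  exact (mul_eq_zero.1 h1).resolve_left hX

end H21.SelfC
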