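import Cfsg.Agent.Lib.H21.SC12

/-!
Simple groups with a self-centralizing subgroup of prime order: class multiplication.
-/

set_option autoImplicit false
set_option linter.unusedSectionVars false

namespace H21.SelfC

open Cfsg H18.CharBasic H18.CharOrtho H18.CharInd H21.PLat

universe u

variable {G : Type u} [Group G] [Fintype G] [Fintype (IrrCharacter G)] {p : ℕ} [hp : Fact p.Prime]
  {x0 : G} {a : IrrCharacter G → ℤ} {Y : Finset (IrrCharacter G)} {ε : ℤ} {e n s : ℕ}
  {w : IrrCharacter G → ℕ}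

/-- class multiplication for the involutions -/
theorem Dat.invol_mult (D : Dat G p x0 a Y ε e n s w) (hε : ε = -1) (hs : 2 ≤ s) {t : G}
    (ht : t ∈ NN x0) (htx : t ∉ Subgroup.zpowers x0) (ht2 : orderOf t = 2)
    (hcard : Nat.card (Subgroup.centralizer ({t} : Set G)) = e * s) :
    Nat.card {q : G × G // IsConj t q.1 ∧ IsConj t q.2 ∧ q.1 * q.2 = t} = n * e := by
  classical
  have h := D.toSC
  obtain ⟨hns, heα, he2, hY⟩ := D.minus_num hε hs
  obtain ⟨z, ν, hz, hzt, hzAp, hzAm, hzY, hν, hzZ, hsum⟩ := D.invol_values hε hs ht htx ht2 hcard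
  have hdt : charDegree ((triv G : IrrCharacter G) : G → ℂ) = 1 := by
    apply H82.Deg.charDegree_eq_of
    simp
  set X : ℂ := 1 + n * p with hX
  have hX0 : X ≠ 0 := by
    have : ((1 + n * p : ℕ) : ℂ) ≠ 0 := by exact_mod_cast (by positivity : 1 + n * p ≠ 0)
    rw [hX]; push_cast at this; exact this
  have hp0 : (p : ℂ) ≠ 0 := pC
  have he0 : (e : ℂ) ≠ 0 := by
    have := D.he2
    exact_mod_cast (by omega : e ≠ 0)
  have hs0 : (s : ℂ) ≠ 0 := by exact_mod_cast (by omega : s ≠ 0)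
  have hs1 : (s : ℂ) = n + 1 := by exact_mod_cast hns.symm
  have hes : (e : ℂ) * s = p - 1 := by
    have : (p : ℂ) = e * s + 1 := by exact_mod_cast D.hes
    rw [this]; ring
  have hspe : (s : ℂ) * (p - e) = X := by
    have : (s : ℂ) * (p - e) = s * p - e * s := by ring
    rw [this, hes, hX, hs1]; ring
  have hpe0 : (p : ℂ) - e ≠ 0 := by
    intro h0
    rw [h0, mul_zero] at hspe
    exact hX0 hspe.symm
  -- the character sum
  have hT : ∑ χ : IrrCharacter G, (χ : G → ℂ) t * (χ : G → ℂ) t * (starRingEnd ℂ) ((χ : G → ℂ) t) /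
      (χ : G → ℂ) 1 = ((p + n) * X - p * s ^ 2) / (p * X) := by
    have h1 : ∀ χ : IrrCharacter G, (χ : G → ℂ) t * (χ : G → ℂ) t *
        (starRingEnd ℂ) ((χ : G → ℂ) t) / (χ : G → ℂ) 1 =
        (z χ : ℂ) ^ 3 / charDegree (χ : G → ℂ) := by
      intro χ
      rw [hz, map_intCast, H82.Deg.coe_charDegree']
      ring
    simp_rw [h1]
    rw [sum_split h.ha h.hYa h.htriv, hzt, hdt]
    have f0 : ∑ χ ∈ Ap a, (z χ : ℂ) ^ 3 / charDegree (χ : G → ℂ) =
        s ^ 2 / X * ∑ χ ∈ Ap a, (z χ : ℂ) := by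
      rw [Finset.mul_sum]
      refine Finset.sum_congr rfl fun χ hχ => ?_
      have h2 : (z χ : ℂ) ^ 2 = s ^ 2 := by exact_mod_cast hzAp χ hχ
      rw [(D.hAp χ hχ).1, pow_succ, h2, hX]
      push_cast
      ring
    have f1 : ∑ χ ∈ Am a, (z χ : ℂ) ^ 3 / charDegree (χ : G → ℂ) = 0 :=
      Finset.sum_eq_zero fun χ hχ => by rw [hzAm χ hχ]; simp
    have f2 : ∑ χ ∈ Y, (z χ : ℂ) ^ 3 / charDegree (χ : G → ℂ) = s ^ 2 / X * ν := by
      have h3 : ∀ χ ∈ Y, (z χ : ℂ) ^ 3 / charDegree (χ : G → ℂ) = ν / (p - e) := by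
        intro χ hχ
        have h2 := (hY χ hχ).1
        have h4 : (charDegree (χ : G → ℂ) : ℂ) = p - e := by
          have : ((charDegree (χ : G → ℂ) + e : ℕ) : ℂ) = p := by rw [h2]
          push_cast at this
          rw [← this]; ring
        have h5 : (ν : ℂ) ^ 2 = 1 := by exact_mod_cast hν
        rw [h4, hzY χ hχ, pow_succ, h5, one_mul]
      rw [Finset.sum_congr rfl h3, Finset.sum_const, D.hcY, nsmul_eq_mul, ← hspe]
      field_simp
    have f3 : ∑ χ ∈ Zs a Y, (z χ : ℂ) ^ 3 / charDegree (χ : G → ℂ) = n / p := by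
      have h2 : (n : ℂ) = ∑ χ ∈ Zs a Y, (w χ : ℂ) ^ 2 := by exact_mod_cast D.hsq.symm
      rw [h2, Finset.sum_div]
      refine Finset.sum_congr rfl fun χ hχ => ?_
      rw [hzZ χ hχ, D.hZs χ hχ]
      have hw0 : (w χ : ℂ) ≠ 0 := by
        have h4 := H82.Deg.charDegree_pos χ
        rw [D.hZs χ hχ] at h4
        have := Nat.pos_of_mul_pos_left h4
        exact_mod_cast this.ne'
      push_cast
      field_simp
    rw [f0, f1, f2, f3]
    have hsum' : (1 : ℂ) + ν + ∑ χ ∈ Ap a, (z χ : ℂ) = 0 := by exact_mod_cast hsum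
    have h6 : ∑ χ ∈ Ap a, (z χ : ℂ) = -1 - ν := by linear_combination hsum'
    rw [h6]
    field_simp
    push_cast
    ring
  have hmain := H18.CharCentral.class_mult t t t
  rw [hT] at hmain
  have hcl : (Nat.card {x : G // IsConj t x} : ℂ) * s = p * X := by
    have h1 := card_isConj_mul_card_centralizer t
    rw [hcard, D.hcard] at h1
    have h2 : (Nat.card {x : G // IsConj t x} : ℂ) * (e * s) = p * e * X := by
      rw [hX]; exact_mod_cast h1
    have h3 : (e : ℂ) * ((Nat.card {x : G // IsConj t x} : ℂ) * s) = e * (p * X) := by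
      linear_combination h2
    exact mul_left_cancel₀ he0 h3
  have hcl' : (Nat.card {x : G // IsConj t x} : ℂ) = p * X / s := by
    rw [eq_div_iff hs0, hcl]
  have hG : (Nat.card G : ℂ) = p * e * X := by
    rw [D.hcard, hX]; push_cast; ring
  rw [hcl', hG] at hmain
  have hfin : (p * X / s * (p * X / s) / (p * e * X)) * (((p + n) * X - p * s ^ 2) / (p * X)) =
      (n * e : ℂ) := by
    field_simp
    have h7 : (p : ℂ) = e * s + 1 := by linear_combination -hes
    rw [hX, h7, hs1]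
    ring
  rw [hfin] at hmain
  exact_mod_cast hmain

theorem Dat.invol_conj (D : Dat G p x0 a Y ε e n s w) (hε : ε = -1) (hs : 2 ≤ s) :
    ∃ (Q R : Sylow p G) (_ : Q ≠ R) (t : G), t ∈ S2 Q R ∧ orderOf t = 2 ∧
      Nat.card (Subgroup.centralizer ({t} : Set G)) = e * s ∧
      ∀ m ∈ Subgroup.centralizer ({t} : Set G), m ∉ S2 Q R → IsConj t m := by
  classical
  have h := D.toSC
  obtain ⟨hns, heα, he2, hY⟩ := D.minus_num hε hs
  have F := D.fr
  obtain ⟨P0, hP⟩ := exists_P0 h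
  obtain ⟨R, hR⟩ : ∃ R : Sylow p G, P0 ≠ R := by
    obtain ⟨Q, R, hQR⟩ := F.exists_pair
    by_cases h0 : P0 = Q
    · exact ⟨R, by rw [h0]; exact hQR⟩
    · exact ⟨Q, h0⟩
  have h1 : 2 ∣ Nat.card (S2 P0 R) := by rw [F.card_S2 hR]; exact he2
  obtain ⟨⟨t, ht⟩, ht2'⟩ := exists_prime_orderOf_dvd_card' 2 h1
  have ht2 : orderOf t = 2 := by rw [Subgroup.orderOf_mk] at ht2'; exact ht2'
  have ht1 : t ≠ 1 := by rintro rfl; rw [orderOf_one] at ht2; omega
  have hcard : Nat.card (Subgroup.centralizer ({t} : Set G)) = e * s := by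
    rw [F.centralizer_eq_normalizer hR ht ht2, F.card_normalizer hR, hns]
  have htN : t ∈ NN x0 := by rw [← stab_P0 hP]; exact ht.1
  have htx : t ∉ Subgroup.zpowers x0 := by
    rw [← hP]
    intro h0
    exact ht1 (F.S2_disj hR t ht h0)
  have hmult := D.invol_mult hε hs htN htx ht2 hcard
  refine ⟨P0, R, hR, t, ht, ht2, hcard, ?_⟩
  have htt : ∀ x : G, IsConj t x → x * x = 1 := by
    intro x hx
    obtain ⟨c, hc⟩ := isConj_iff.1 hx
    have h3 : t * t = 1 := by rw [← sq, ← ht2]; exact pow_orderOf_eq_one t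
    rw [← hc]
    calc c * t * c⁻¹ * (c * t * c⁻¹) = c * (t * t) * c⁻¹ := by group
      _ = 1 := by rw [h3]; group
  have hne : ∀ x : G, IsConj t x → x ≠ 1 := by
    rintro x hx rfl
    rw [isConj_one_left] at hx
    exact ht1 hx
  set B : Set G := {m : G | m ∈ Subgroup.centralizer ({t} : Set G) ∧ m ∉ S2 P0 R} with hB
  have hcardB : Nat.card B = n * e := by
    have h2 : B = (Subgroup.centralizer ({t} : Set G) : Set G) \ (S2 P0 R : Set G) := rfl
    have h3 : (S2 P0 R : Set G) ⊆ (Subgroup.centralizer ({t} : Set G) : Set G) := by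
      intro x hx
      exact (Subgroup.mem_centralizer_singleton_iff).2 (F.S2_comm hR hx ht)
    rw [Nat.card_coe_set_eq, h2, Set.ncard_sdiff h3, ← Nat.card_coe_set_eq, ← Nat.card_coe_set_eq]
    have h4 : Nat.card ((Subgroup.centralizer ({t} : Set G) : Set G)) = e * s := hcard
    have h5 : Nat.card ((S2 P0 R : Set G)) = e := F.card_S2 hR
    rw [h4, h5, ← hns]
    have : e * (n + 1) = n * e + e := by ring
    omega
  have hmem : ∀ q : G × G, IsConj t q.1 → IsConj t q.2 → q.1 * q.2 = t → q.1 ∈ B := by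
    intro q hq1 hq2 hq3
    have h2 := htt _ hq1
    have h3 := htt _ hq2
    have h4 : q.1 * t = q.2 := by
      rw [← hq3, ← mul_assoc, h2, one_mul]
    have h5 : t * q.2 = q.1 := by
      rw [← hq3, mul_assoc, h3, mul_one]
    have h6 : t * t = 1 := by rw [← sq, ← ht2]; exact pow_orderOf_eq_one t
    have h7 : t * q.1 = q.2 := by
      rw [← h5, ← mul_assoc, h6, one_mul]
    refine ⟨Subgroup.mem_centralizer_singleton_iff.2 (by rw [h4, h7]), fun h8 => ?_⟩
    have ho : orderOf q.1 = 2 := by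
      rw [orderOf_eq_prime_iff]
      exact ⟨by rw [sq]; exact h2, hne _ hq1⟩
    have h9 := F.unique_invol hR ht h8 ht2 ho
    rw [h9] at h4
    rw [h6] at h4
    exact hne _ hq2 h4.symm
  let ι : {q : G × G // IsConj t q.1 ∧ IsConj t q.2 ∧ q.1 * q.2 = t} → B := fun q =>
    ⟨q.1.1, hmem q.1 q.2.1 q.2.2.1 q.2.2.2⟩
  have hι : Function.Injective ι := by
    intro q q' hqq
    have h2 : q.1.1 = q'.1.1 := congrArg Subtype.val hqq
    apply Subtype.ext
    apply Prod.ext h2
    have h3 : q.1.1 * q.1.2 = q'.1.1 * q'.1.2 := q.2.2.2.trans q'.2.2.2.symm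
    rw [h2] at h3
    exact mul_left_cancel h3
  have hb := hι.bijective_of_nat_card_le (by rw [hcardB, hmult])
  intro m hm hm'
  obtain ⟨q, hq⟩ := hb.2 ⟨m, hm, hm'⟩
  have h2 : q.1.1 = m := congrArg Subtype.val hq
  rw [← h2]
  exact q.2.1

end H21.SelfC
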