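import Cfsg.Agent.Lib.H21.SC13
import Cfsg.Agent.Lib.H21.PSLEven

/-!
Simple groups with a self-centralizing subgroup of prime order: recognition of `PSL(2,2^m)`.
-/

set_option autoImplicit false
set_option linter.unusedSectionVars false

namespace H21.SelfC

open Cfsg H18.CharBasic H18.CharOrtho H18.CharInd H21.PLat
open scoped Pointwise

universe u

theorem mem_smul_sylow {G : Type u} [Group G] {q : ℕ} (T : Sylow q G) (g x : G) :
    x ∈ g • T ↔ g⁻¹ * x * g ∈ T := by
  have h1 : x ∈ g • T ↔ x ∈ ((g • T : Sylow q G) : Subgroup G) := Iff.rfl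
  rw [h1, Sylow.coe_subgroup_smul, Subgroup.mem_pointwise_smul_iff_inv_smul_mem]
  have h2 : (MulAut.conj g)⁻¹ • x = g⁻¹ * x * g := by simp [MulAut.smul_def]
  rw [h2]
  rfl

/-- recognition of `PSL(2,2^m)`: one class of 2-elements -/
theorem psl_of_one_class {G : Type u} [Group G] [Finite G] [IsSimpleGroup G]
    (hG : ¬ IsMulCommutative G) {t : G} (ht2 : orderOf t = 2)
    (hodd : ¬ 2 ∣ (Subgroup.centralizer ({t} : Set G)).index)
    (hcard : 2 < Nat.card (Subgroup.centralizer ({t} : Set G)))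
    (hconj : ∀ m ∈ Subgroup.centralizer ({t} : Set G), m ≠ 1 → IsConj t m) :
    ∃ (m : ℕ) (F : Type) (_ : Field F) (_ : Fintype F), Fintype.card F = 2 ^ m ∧
      Nat.card (Subgroup.centralizer ({t} : Set G)) = 2 ^ m ∧
      Nonempty (G ≃* Matrix.ProjectiveSpecialLinearGroup (Fin 2) F) := by
  classical
  have htt : t * t = 1 := by rw [← sq, ← ht2]; exact pow_orderOf_eq_one t
  have hsq : ∀ x : G, IsConj t x → x * x = 1 := by
    intro x hx
    obtain ⟨c, hc⟩ := isConj_iff.1 hx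
    rw [← hc]
    calc c * t * c⁻¹ * (c * t * c⁻¹) = c * (t * t) * c⁻¹ := by group
      _ = 1 := by rw [htt]; group
  have hpg : IsPGroup 2 (Subgroup.centralizer ({t} : Set G)) := by
    rintro ⟨x, hx⟩
    refine ⟨1, Subtype.ext ?_⟩
    by_cases hx1 : x = 1
    · simp [hx1]
    · have := hsq x (hconj x hx hx1)
      simpa [sq] using this
  set T : Sylow 2 G := hpg.toSylow hodd with hT
  have hTC : (T : Subgroup G) = Subgroup.centralizer ({t} : Set G) := rfl
  have hall : ∀ g : G, g ≠ 1 → (∃ k, orderOf g = 2 ^ k) → IsConj t g := by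
    rintro g hg1 ⟨k, hk⟩
    have hpg' : IsPGroup 2 (Subgroup.zpowers g) := by
      rw [IsPGroup.iff_card]
      exact ⟨k, by rw [Nat.card_zpowers, hk]⟩
    obtain ⟨S, hS⟩ := hpg'.exists_le_sylow
    obtain ⟨c, hc⟩ := MulAction.exists_smul_eq G T S
    have hgS : g ∈ c • T := by rw [hc]; exact hS (Subgroup.mem_zpowers g)
    rw [mem_smul_sylow] at hgS
    have h1 : c⁻¹ * g * c ∈ Subgroup.centralizer ({t} : Set G) := hgS
    have h2 : c⁻¹ * g * c ≠ 1 := by
      intro h
      apply hg1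
      have : g = c * (c⁻¹ * g * c) * c⁻¹ := by group
      rw [this, h]; group
    have h3 := hconj _ h1 h2
    refine h3.trans ?_
    rw [isConj_iff]
    exact ⟨c, by group⟩
  have hclass := H21.PrimeCent.card_class_mul_card_centralizer t
  obtain ⟨m, hm⟩ := (IsPGroup.iff_card.1 hpg)
  have hyp : H25.ElemCent.Hyp T := by
    apply H21.PSLEven.hyp_of_count hG (q := Nat.card (Subgroup.centralizer ({t} : Set G)))
      (m := Nat.card {g : G // IsConj t g}) ?_ T rfl hcard
    · intro z hz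
      have hzc := hall z (by rintro rfl; rw [orderOf_one] at hz; omega) ⟨1, by rw [pow_one]; exact hz⟩
      obtain ⟨c, hc⟩ := isConj_iff.1 hzc
      rintro ⟨x, hx⟩
      have h1 : c⁻¹ * x * c ∈ Subgroup.centralizer ({t} : Set G) := by
        rw [Subgroup.mem_centralizer_singleton_iff]
        rw [Subgroup.mem_centralizer_singleton_iff, ← hc] at hx
        calc c⁻¹ * x * c * t = c⁻¹ * (x * (c * t * c⁻¹)) * c := by group
          _ = c⁻¹ * ((c * t * c⁻¹) * x) * c := by rw [hx]
          _ = t * (c⁻¹ * x * c) := by group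
      obtain ⟨k, hk⟩ := hpg ⟨_, h1⟩
      refine ⟨k, Subtype.ext ?_⟩
      have h2 : (c⁻¹ * x * c) ^ 2 ^ k = 1 := congrArg Subtype.val hk
      have h3 : (c⁻¹ * x * c) ^ 2 ^ k = c⁻¹ * x ^ 2 ^ k * c := by
        have := conj_pow (a := c⁻¹) (b := x) (i := 2 ^ k)
        rw [inv_inv] at this
        exact this
      rw [h3] at h2
      have h4 : x ^ 2 ^ k = c * (c⁻¹ * x ^ 2 ^ k * c) * c⁻¹ := by group
      change x ^ 2 ^ k = 1
      rw [h4, h2]; group
    · apply Nat.card_le_card_of_injective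
        (fun g : {g : G // g ≠ 1 ∧ ∃ k, orderOf g = 2 ^ k} =>
          (⟨g.1, hall g.1 g.2.1 g.2.2⟩ : {g : G // IsConj t g}))
      intro g g' hgg
      exact Subtype.ext (congrArg (fun x : {g : G // IsConj t g} => x.1) hgg)
    · rw [← hclass, mul_comm]
  obtain ⟨F, i1, i2, hF, hiso⟩ := H25.ElemCent.isPSL2 (T := T) hyp
  refine ⟨m, F, i1, i2, ?_, hm, hiso⟩
  rw [hF, ← hm]
  rfl

variable {G : Type u} [Group G] [Fintype G] [Fintype (IrrCharacter G)] {p : ℕ} [hp : Fact p.Prime]
  {x0 : G} {a : IrrCharacter G → ℤ} {Y : Finset (IrrCharacter G)} {ε : ℤ} {e n s : ℕ}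
  {w : IrrCharacter G → ℕ}

theorem Dat.minus_e_two (D : Dat G p x0 a Y ε e n s w) (hε : ε = -1) (hs : 3 ≤ s) :
    e = 2 ∧ n + 1 = s ∧ ∃ t : G, orderOf t = 2 ∧
      Nat.card (Subgroup.centralizer ({t} : Set G)) = e * s ∧
      ∀ m ∈ Subgroup.centralizer ({t} : Set G), m ≠ 1 → IsConj t m := by
  classical
  obtain ⟨hns, heα, he2, hY⟩ := D.minus_num hε (by omega)
  have F := D.fr
  obtain ⟨Q, R, hQR, t, ht, ht2, hcard, hconj⟩ := D.invol_conj hε (by omega)
  have htt : t * t = 1 := by rw [← sq, ← ht2]; exact pow_orderOf_eq_one t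
  have hsq : ∀ x : G, IsConj t x → x * x = 1 := by
    intro x hx
    obtain ⟨c, hc⟩ := isConj_iff.1 hx
    rw [← hc]
    calc c * t * c⁻¹ * (c * t * c⁻¹) = c * (t * t) * c⁻¹ := by group
      _ = 1 := by rw [htt]; group
  have hEM : S2 Q R ≤ Subgroup.centralizer ({t} : Set G) := by
    intro x hx
    exact (Subgroup.mem_centralizer_singleton_iff).2 (F.S2_comm hQR hx ht)
  have he := D.he2
  obtain ⟨m, hm, hmE⟩ : ∃ m ∈ Subgroup.centralizer ({t} : Set G), m ∉ S2 Q R := by
    by_contra hcon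
    push Not at hcon
    have h1 : Subgroup.centralizer ({t} : Set G) ≤ S2 Q R := fun x hx => hcon x hx
    have h2 := Subgroup.card_le_of_le h1
    rw [hcard, F.card_S2 hQR] at h2
    have : e * 3 ≤ e * s := Nat.mul_le_mul_left _ hs
    omega
  obtain ⟨m', hm', hmE', hmm⟩ : ∃ m' ∈ Subgroup.centralizer ({t} : Set G), m' ∉ S2 Q R ∧
      m * m' ∉ S2 Q R := by
    by_contra hcon
    push Not at hcon
    have h1 : (Subgroup.centralizer ({t} : Set G) : Set G) ⊆
        (S2 Q R : Set G) ∪ (fun x => m⁻¹ * x) '' (S2 Q R : Set G) := by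
      intro x hx
      by_cases hxE : x ∈ S2 Q R
      · exact Or.inl hxE
      · right
        exact ⟨m * x, hcon x hx hxE, by simp⟩
    have h2 := Set.ncard_le_ncard h1 (Set.toFinite _)
    have h3 := Set.ncard_union_le (S2 Q R : Set G) ((fun x => m⁻¹ * x) '' (S2 Q R : Set G))
    have h4 : ((fun x => m⁻¹ * x) '' (S2 Q R : Set G)).ncard ≤ (S2 Q R : Set G).ncard :=
      Set.ncard_image_le (Set.toFinite _)
    have h5 : (S2 Q R : Set G).ncard = e := by
      rw [← Nat.card_coe_set_eq]; exact F.card_S2 hQR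
    have h6 : (Subgroup.centralizer ({t} : Set G) : Set G).ncard = e * s := by
      rw [← Nat.card_coe_set_eq]; exact hcard
    have : e * 3 ≤ e * s := Nat.mul_le_mul_left _ hs
    omega
  have hinv : ∀ x ∈ Subgroup.centralizer ({t} : Set G), x ∉ S2 Q R → ∀ d ∈ S2 Q R,
      x * d * x = d⁻¹ ∧ x * x = 1 := by
    intro x hx hxE d hd
    have h1 := hsq x (hconj x hx hxE)
    have h2 : x * d ∉ S2 Q R := fun h => hxE (by
      have := mul_mem h (inv_mem hd)
      rwa [mul_assoc, mul_inv_cancel, mul_one] at this)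
    have h3 := hsq (x * d) (hconj _ (mul_mem hx (hEM hd)) h2)
    refine ⟨?_, h1⟩
    rw [eq_inv_iff_mul_eq_one]
    rw [← h3]
    group
  have hdd : ∀ d ∈ S2 Q R, d * d = 1 := by
    intro d hd
    obtain ⟨h1, h1'⟩ := hinv m hm hmE d hd
    obtain ⟨h2, h2'⟩ := hinv m' hm' hmE' d hd
    obtain ⟨h3, h3'⟩ := hinv (m * m') (mul_mem hm hm') hmm d hd
    obtain ⟨h4, -⟩ := hinv m hm hmE d⁻¹ (inv_mem hd)
    have h5 : m * m' = m' * m := by
      have h6 : m⁻¹ = m := inv_eq_of_mul_eq_one_left h1'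
      have h7 : m'⁻¹ = m' := inv_eq_of_mul_eq_one_left h2'
      have h8 : m * m' = (m * m')⁻¹ := (inv_eq_of_mul_eq_one_left h3').symm
      rw [mul_inv_rev, h6, h7] at h8
      exact h8
    have h6 : m * m' * d * (m * m') = d := by
      calc m * m' * d * (m * m') = m * m' * d * (m' * m) := by rw [h5]
        _ = m * (m' * d * m') * m := by group
        _ = m * d⁻¹ * m := by rw [h2]
        _ = d := by rw [h4, inv_inv]
    rw [h3] at h6
    calc d * d = d⁻¹ * d := by rw [h6]
      _ = 1 := inv_mul_cancel d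
  have hEt : ∀ d ∈ S2 Q R, d ≠ 1 → d = t := by
    intro d hd hd1
    apply F.unique_invol hQR ht hd ht2
    rw [orderOf_eq_prime_iff]
    exact ⟨by rw [sq]; exact hdd d hd, hd1⟩
  have he2' : e = 2 := by
    have h1 : (S2 Q R : Set G) ⊆ {1, t} := by
      intro x hx
      by_cases hx1 : x = 1
      · exact Or.inl hx1
      · exact Or.inr (hEt x hx hx1)
    have h2 := Set.ncard_le_ncard h1 (Set.toFinite _)
    have h3 := Set.ncard_insert_le (1 : G) {t}
    rw [Set.ncard_singleton] at h3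
    have h5 : (S2 Q R : Set G).ncard = e := by
      rw [← Nat.card_coe_set_eq]; exact F.card_S2 hQR
    omega
  refine ⟨he2', hns, t, ht2, hcard, ?_⟩
  intro x hx hx1
  by_cases hxE : x ∈ S2 Q R
  · rw [hEt x hxE hx1]
  · exact hconj x hx hxE

theorem Dat.minus (D : Dat G p x0 a Y ε e n s w) [IsSimpleGroup G] (hG : ¬ IsMulCommutative G)
    (hε : ε = -1) (hs : 2 ≤ s) : (n = 1 ∧ s = 2) ∨
    ∃ (m : ℕ) (F : Type) (_ : Field F) (_ : Fintype F), Fintype.card F = 2 ^ m ∧
      p = 2 ^ m + 1 ∧ Nonempty (G ≃* Matrix.ProjectiveSpecialLinearGroup (Fin 2) F) := by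
  classical
  rcases Nat.lt_or_ge 2 s with hs3 | hs3
  · right
    obtain ⟨he, hns, t, ht2, hcard, hconj⟩ := D.minus_e_two hε hs3
    have hes := D.hes
    rw [he] at hes hcard
    have hidx : (Subgroup.centralizer ({t} : Set G)).index = p * (p - 2) := by
      have h1 := (Subgroup.centralizer ({t} : Set G)).card_mul_index
      rw [hcard, D.hcard, he] at h1
      have h2 : p * 2 * (1 + n * p) = 2 * s * (p * (p - 2)) := by
        obtain ⟨k, hk⟩ : ∃ k, s = k + 1 := ⟨s - 1, by omega⟩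
        have hnk : n = k := by omega
        have hp2 : p - 2 = 2 * k + 1 := by omega
        rw [hp2, hk, hnk, hes, hk]
        ring
      rw [h2] at h1
      exact Nat.eq_of_mul_eq_mul_left (by omega) h1
    have hodd : ¬ 2 ∣ (Subgroup.centralizer ({t} : Set G)).index := by
      rw [hidx]
      intro h0
      rcases (Nat.Prime.dvd_mul Nat.prime_two).1 h0 with h1 | h1 <;> omega
    obtain ⟨m, F, i1, i2, h1, h2, h3⟩ := psl_of_one_class hG ht2 hodd (by rw [hcard]; omega) hconj
    refine ⟨m, F, i1, i2, h1, ?_, h3⟩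
    rw [← h2, hcard, hes]
  · left
    obtain ⟨hns, -⟩ := D.minus_num hε hs
    omega

end H21.SelfC
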