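import Cfsg.Agent.Lib.H21.SC14
import Cfsg.Agent.Lib.H21.PSLZass
import Cfsg.Agent.Lib.H5.IndexTwo

/-!
Simple groups with a self-centralizing subgroup of prime order and few Sylow subgroups.
-/

set_option autoImplicit false
set_option linter.unusedSectionVars false

namespace H21.SelfC

open Cfsg H18.CharBasic H18.CharOrtho H18.CharInd H21.PLat
open scoped Pointwise

universe u

/-- a simple nonabelian group has no cyclic subgroup of odd index and even order -/
theorem no_cyclic_odd_index {G : Type u} [Group G] [Finite G] [IsSimpleGroup G]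
    (hG : ¬ IsMulCommutative G) (E : Subgroup G) (hE : IsCyclic E) (hodd : ¬ 2 ∣ E.index)
    (heven : 2 ∣ Nat.card E) : False := by
  classical
  have : Fact (Nat.Prime 2) := ⟨Nat.prime_two⟩
  obtain ⟨S⟩ := (inferInstance : Nonempty (Sylow 2 E))
  have hpg : IsPGroup 2 ((S : Subgroup E).map E.subtype) := S.2.map _
  have hidx : ¬ 2 ∣ ((S : Subgroup E).map E.subtype).index := by
    rw [Subgroup.index_map_subtype]
    intro h0
    rcases (Nat.Prime.dvd_mul Nat.prime_two).1 h0 with h1 | h1
    · exact S.not_dvd_index h1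
    · exact hodd h1
  have hcyc : IsCyclic ((hpg.toSylow hidx : Sylow 2 G) : Subgroup G) := by
    have h1 : ((hpg.toSylow hidx : Sylow 2 G) : Subgroup G) = (S : Subgroup E).map E.subtype := rfl
    rw [h1]
    have h2 : (S : Subgroup E).map E.subtype ≤ E := Subgroup.map_subtype_le _
    exact isCyclic_of_injective (Subgroup.inclusion h2) (Subgroup.inclusion_injective h2)
  obtain ⟨H, hH⟩ := H5.IndexTwo.exists_index_two_of_cyclic_sylow
    (even_iff_two_dvd.2 (heven.trans (Subgroup.card_subgroup_dvd_card E))) _ hcyc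
  have hn : H.Normal := Subgroup.normal_of_index_eq_two hH
  rcases hn.eq_bot_or_eq_top with h0 | h0
  · rw [h0, Subgroup.index_bot] at hH
    apply hG
    have := isCyclic_of_prime_card hH
    infer_instance
  · rw [h0, Subgroup.index_top] at hH
    omega

/-- the case of index one -/
theorem Fr.not_s_one {G : Type u} [Group G] [Finite G] [IsSimpleGroup G]
    (hG : ¬ IsMulCommutative G) {p : ℕ} [hp : Fact p.Prime] {e n : ℕ} (F : Fr G p e n)
    (he : e = p - 1) (hn : 2 ∣ n) : False := by
  classical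
  have he2 := F.he
  have hp2 : p ≠ 2 := by omega
  have hpodd : p % 2 = 1 := by
    rcases hp.out.eq_two_or_odd with h | h
    · exact absurd h hp2
    · exact h
  obtain ⟨Q, R, hQR⟩ := F.exists_pair
  have hcyc := F.cyclic_S2 hQR
  have hcE := F.card_S2 hQR
  have hidx : (S2 Q R).index = p * (1 + n * p) := by
    have h1 := (S2 Q R).card_mul_index
    rw [hcE, F.card_G] at h1
    have h2 : p * e * (1 + n * p) = e * (p * (1 + n * p)) := by ring
    rw [h2] at h1
    exact Nat.eq_of_mul_eq_mul_left (by omega) h1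
  have hodd : ¬ 2 ∣ (S2 Q R).index := by
    rw [hidx]
    intro h0
    rcases (Nat.Prime.dvd_mul Nat.prime_two).1 h0 with h1 | h1
    · omega
    · have h2 : 2 ∣ n * p := hn.mul_right _
      omega
  exact no_cyclic_odd_index hG _ hcyc hodd (by rw [hcE]; omega)

theorem simple_case_NF {G : Type u} [Group G] [Finite G] [IsSimpleGroup G]
    (hG : ¬ IsMulCommutative G) {p : ℕ} [hp : Fact p.Prime] {x0 : G} (hx0 : orderOf x0 = p)
    (hcen : Subgroup.centralizer ({x0} : Set G) = Subgroup.zpowers x0)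
    (hn : ∀ n : ℕ, Nat.card (Sylow p G) = 1 + n * p → H21.SCNum.NF p n) :
    (∃ (F : Type) (_ : Field F) (_ : Fintype F), Fintype.card F = p ∧ 3 < p ∧
      Nonempty (G ≃* Matrix.ProjectiveSpecialLinearGroup (Fin 2) F)) ∨
    (∃ (m : ℕ) (F : Type) (_ : Field F) (_ : Fintype F), Fintype.card F = 2 ^ m ∧
      p = 2 ^ m + 1 ∧ 3 < p ∧ Nonempty (G ≃* Matrix.ProjectiveSpecialLinearGroup (Fin 2) F)) := by
  classical
  let _ : Fintype G := Fintype.ofFinite G
  let _ : Fintype (IrrCharacter G) := Fintype.ofFinite _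
  obtain ⟨a, Y, ε, e, n, h⟩ := exists_SC hx0 hcen
  have hn2 := hn n h.hsyl
  obtain ⟨s, w, D⟩ := exists_dat h hG hn2
  have he2 := D.he2
  have hes := D.hes
  rcases Nat.lt_or_ge s 2 with hs | hs
  · -- `s = 1`
    exfalso
    have hs1 : s = 1 := by
      have := D.hs1
      omega
    have he : e = p - 1 := by rw [hes, hs1, mul_one, Nat.add_sub_cancel]
    have hpodd : p % 2 = 1 := by
      rcases hp.out.eq_two_or_odd with h | h
      · omega
      · exact h
    have hdvd : n + 1 ∣ p - 2 := by
      rcases D.hcase with ⟨-, -, h1⟩ | ⟨-, v, h1, h2, -⟩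
      · exact ⟨(Ap a).card, by rw [mul_comm]; omega⟩
      · rw [hs1, mul_one] at h1 h2
        exact ⟨(Ap a).card + 1, by rw [← h1]; omega⟩
    have hn : 2 ∣ n := by
      obtain ⟨k, hk⟩ := hdvd
      by_contra hcon
      have h1 : 2 ∣ n + 1 := by omega
      have h2 : 2 ∣ p - 2 := by rw [hk]; exact h1.mul_right _
      omega
    exact D.fr.not_s_one hG he hn
  · have hp5 := D.five_le hs
    -- the case `n = 1`
    have hone : n = 1 ∧ s = 2 → ∃ (F : Type) (_ : Field F) (_ : Fintype F), Fintype.card F = p ∧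
        3 < p ∧ Nonempty (G ≃* Matrix.ProjectiveSpecialLinearGroup (Fin 2) F) := by
      rintro ⟨hn1, hs2⟩
      have hcard := D.hcard
      have hsyl := D.hsyl
      rw [hn1, one_mul] at hcard hsyl
      rw [hs2] at hes
      have hm : 2 * (e * (1 + p)) = p ^ 2 - 1 := by
        have h1 : p ^ 2 = 2 * (e * (1 + p)) + 1 := by
          rw [hes]; ring
        omega
      have hpm : ¬ p ∣ e * (1 + p) := by
        intro h0
        rcases (Nat.Prime.dvd_mul hp.out).1 h0 with h1 | h1
        · have := Nat.le_of_dvd (by omega) h1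
          omega
        · have h2 : p ∣ 1 := (Nat.dvd_add_left (dvd_refl p)).1 h1
          have := Nat.le_of_dvd (by omega) h2
          omega
      obtain ⟨F, i1, i2, h1, h2⟩ := H21.PSLZass.iso_of_card hG (p := p) (m := e * (1 + p))
        (by rw [hcard, mul_assoc]) hpm hm (by rw [hsyl]; ring) hp5
      exact ⟨F, i1, i2, h1, by omega, h2⟩
    rcases h.hε with hε | hε
    · exact Or.inl (hone (D.plus hε hs))
    · rcases D.minus hG hε hs with h1 | ⟨m, F, i1, i2, h1, h2, h3⟩
      · exact Or.inl (hone h1)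
      · exact Or.inr ⟨m, F, i1, i2, h1, h2, by omega, h3⟩

theorem simple_case {G : Type u} [Group G] [Finite G] [IsSimpleGroup G]
    (hG : ¬ IsMulCommutative G) {p : ℕ} [hp : Fact p.Prime] {x0 : G} (hx0 : orderOf x0 = p)
    (hcen : Subgroup.centralizer ({x0} : Set G) = Subgroup.zpowers x0)
    (hn : 2 * Nat.card (Sylow p G) < (p + 1) * (p + 2)) :
    (∃ (F : Type) (_ : Field F) (_ : Fintype F), Fintype.card F = p ∧ 3 < p ∧
      Nonempty (G ≃* Matrix.ProjectiveSpecialLinearGroup (Fin 2) F)) ∨
    (∃ (m : ℕ) (F : Type) (_ : Field F) (_ : Fintype F), Fintype.card F = 2 ^ m ∧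
      p = 2 ^ m + 1 ∧ 3 < p ∧ Nonempty (G ≃* Matrix.ProjectiveSpecialLinearGroup (Fin 2) F)) := by
  apply simple_case_NF hG hx0 hcen
  intro n hsyl
  have hn2 : 2 * n ≤ p + 2 := by
    rw [hsyl] at hn
    have hpp := hp.out.pos
    have h1 : 2 * (1 + n * p) = 2 + (2 * n) * p := by ring
    have h2 : (p + 1) * (p + 2) = 2 + (p + 3) * p := by ring
    rw [h1, h2] at hn
    have h3 : (2 * n) * p < (p + 3) * p := by omega
    have := Nat.lt_of_mul_lt_mul_right h3
    omega
  exact H21.SCNum.NF_of_le (by exact_mod_cast hp.out.one_lt) (by exact_mod_cast hn2)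

end H21.SelfC
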