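import Mathlib

/-!
Arithmetic of character degrees in a group of order `p e (1 + n p)`, where `n` is not of the form
`(h u p + u^2 + u + h) / (u + 1)`.
-/

set_option autoImplicit false
set_option linter.unusedVariables false

namespace H21.SCNum

/-- `n` is not of Brauer's form -/
def NF (p n : ℤ) : Prop := ∀ h u : ℤ, 1 ≤ h → 1 ≤ u → (n - u) * (u + 1) ≠ h * (1 + u * p)

theorem NF_of_le {p n : ℤ} (hp : 1 < p) (hn : 2 * n ≤ p + 2) : NF p n := by
  intro h u hh hu heq
  have h1 : 1 + u * p ≤ (n - u) * (u + 1) := by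
    rw [heq]
    have : 0 < 1 + u * p := by positivity
    nlinarith
  nlinarith

theorem keyA {e s n u p h : ℤ} (hp : p = e * s + 1) (he : 1 ≤ e) (hs : 1 ≤ s) (hu : 1 ≤ u)
    (hn : NF p n) (hh : 1 ≤ h) (heq : h * (1 + u * p) = e * (n - u)) : False := by
  have hp1 : 1 < p := by nlinarith
  have h1 : h * (1 + u) = e * (n - u - h * u * s) := by
    have : h * (1 + u * p) = h * (1 + u) + h * u * (e * s) := by rw [hp]; ring
    linear_combination heq - this
  have ha : 1 ≤ n - u - h * u * s := by
    have h2 : 0 < e * (n - u - h * u * s) := by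
      rw [← h1]
      have : 0 < h * (1 + u) := by positivity
      exact this
    by_contra hc
    push Not at hc
    have := mul_nonpos_of_nonneg_of_nonpos (by omega : (0 : ℤ) ≤ e)
      (by omega : n - u - h * u * s ≤ 0)
    omega
  have h3 : (n - u) * (1 + u) = (n - u - h * u * s) * (1 + u * p) := by
    have he0 : e ≠ 0 := by omega
    apply mul_left_cancel₀ he0
    have : e * ((n - u) * (1 + u)) = h * (1 + u * p) * (1 + u) := by rw [heq]; ring
    rw [this]
    linear_combination (1 + u * p) * h1
  exact hn _ u ha hu (by rw [add_comm u 1]; exact h3)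

theorem numA {e s n u k p : ℤ} (hp : p = e * s + 1) (he : 1 ≤ e) (hs : 1 ≤ s) (hu : 1 ≤ u)
    (hn : NF p n) (hk0 : 0 < k) (hk : (1 + u * p) * k = e * (1 + n * p)) : u = n := by
  have hep : e < p := by nlinarith
  obtain ⟨h, hh⟩ : ∃ h, k = e + h * p := ⟨e * n - u * k, by linear_combination hk⟩
  have hh0 : 0 ≤ h := by
    by_contra hcon
    push Not at hcon
    nlinarith
  have heq : h * (1 + u * p) = e * (n - u) := by
    have hp0 : p ≠ 0 := by omega
    apply mul_left_cancel₀ hp0
    rw [hh] at hk
    linear_combination hk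
  rcases eq_or_lt_of_le hh0 with h0 | h0
  · rw [← h0, zero_mul] at heq
    have := (mul_eq_zero.1 heq.symm).resolve_left (by omega : e ≠ 0)
    omega
  · exact absurd (keyA hp he hs hu hn (by omega) heq) id

theorem keyM {e s n u p h : ℤ} (hp : p = e * s + 1) (he : 1 ≤ e) (hs : 1 ≤ s) (hu : 2 ≤ u)
    (hn : NF p n) (hh : 2 ≤ h * s) (heq : h * (u * p - 1) = e * (n + u)) (hh0 : 1 ≤ h) :
    False := by
  have hp1 : 1 < p := by nlinarith
  have h1 : h * (u - 1) = e * (n + u - h * u * s) := by
    have : h * (u * p - 1) = h * (u - 1) + h * u * (e * s) := by rw [hp]; ring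
    linear_combination heq - this
  have ha : 1 ≤ n + u - h * u * s := by
    have h2 : 0 < e * (n + u - h * u * s) := by
      rw [← h1]
      have h3 : 0 < u - 1 := by omega
      positivity
    by_contra hc
    push Not at hc
    have := mul_nonpos_of_nonneg_of_nonpos (by omega : (0 : ℤ) ≤ e)
      (by omega : n + u - h * u * s ≤ 0)
    omega
  set a := n + u - h * u * s with hadef
  have h5 : a * (p - 1) = h * s * (u - 1) := by
    rw [hp]
    linear_combination (-s) * h1
  have h6 : n = a + h * s * u - u := by rw [hadef]; ring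
  set H := h * s
  have h7 : (u - 1) * (n + u) = (u - 1) * (a * p + H) := by
    have he0 : e ≠ 0 := by omega
    apply mul_left_cancel₀ he0
    have h8 : e * ((u - 1) * (n + u)) = h * (u * p - 1) * (u - 1) := by rw [heq]; ring
    rw [h8]
    have h9 : h * (u * p - 1) * (u - 1) = e * a * (u * p - 1) := by
      rw [← h1]; ring
    rw [h9]
    linear_combination e * h5
  have h8 : n + u = a * p + H := mul_left_cancel₀ (by omega : u - 1 ≠ 0) h7
  refine hn a (H - 1) ha (by omega) ?_
  have h9 : n = a * p + H - u := by omega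
  rw [h9]
  linear_combination h5

theorem numAm {e s n u k p : ℤ} (hp : p = e * s + 1) (he : 1 ≤ e) (hs : 1 ≤ s) (hu : 1 ≤ u)
    (hn : NF p n) (hk0 : 0 < k) (hk : (u * p - 1) * k = e * (1 + n * p))
    (hlt : u * p - 1 < p * k) : u = 1 ∧ s ∣ n + 1 := by
  have hep : e < p := by nlinarith
  obtain ⟨h, hh⟩ : ∃ h, k = h * p - e := ⟨u * k - e * n, by linear_combination -hk⟩
  have hh0 : 1 ≤ h := by
    by_contra hcon
    push Not at hcon
    nlinarith
  have heq : h * (u * p - 1) = e * (n + u) := by
    have hp0 : p ≠ 0 := by omega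
    apply mul_left_cancel₀ hp0
    rw [hh] at hk
    linear_combination hk
  rcases eq_or_lt_of_le hu with h1 | h1
  · refine ⟨h1.symm, h, ?_⟩
    have he0 : e ≠ 0 := by omega
    apply mul_left_cancel₀ he0
    rw [← h1, hp] at heq
    linear_combination -heq
  · exfalso
    by_cases h2 : 2 ≤ h * s
    · exact keyM hp he hs (by omega) hn h2 heq hh0
    · have h3 : h = 1 := by nlinarith
      have h4 : s = 1 := by rw [h3] at h2; omega
      rw [h3, one_mul] at hh
      rw [h4, mul_one] at hp
      have h5 : k = 1 := by omega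
      rw [h5, mul_one] at hlt
      nlinarith

theorem numYp {e s n u k p : ℤ} (hp : p = e * s + 1) (he : 1 ≤ e) (hs : 1 ≤ s) (hu : 0 ≤ u)
    (hn : NF p n) (hk0 : 0 < k) (hk : (e + u * p) * k = e * (1 + n * p))
    (hlt : e + u * p < p * k) : u = 0 := by
  have hep : e < p := by nlinarith
  obtain ⟨h, hh⟩ : ∃ h, k = 1 + h * p := ⟨k - 1 - s * (e * n - u * k), by
    rw [hp] at hk ⊢
    linear_combination (-s) * hk⟩
  have hh0 : 0 ≤ h := by
    by_contra hcon
    push Not at hcon
    nlinarith
  have heq : u * (1 + h * p) = e * (n - h) := by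
    have hp0 : p ≠ 0 := by omega
    apply mul_left_cancel₀ hp0
    rw [hh] at hk
    linear_combination hk
  by_contra hu0
  have hu1 : 1 ≤ u := by omega
  rcases eq_or_lt_of_le hh0 with h0 | h0
  · rw [← h0, zero_mul, add_zero] at hh
    rw [hh, mul_one] at hlt
    nlinarith
  · exact keyA hp he hs (by omega : 1 ≤ h) hn hu1 heq

theorem numYm {e s n u k p : ℤ} (hp : p = e * s + 1) (he : 1 ≤ e) (hs : 2 ≤ s) (hu : 1 ≤ u)
    (hn : NF p n) (hk0 : 0 < k) (hk : (u * p - e) * k = e * (1 + n * p)) : u * s = n + 1 := by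
  have hep : e < p := by nlinarith
  obtain ⟨h, hh⟩ : ∃ h, k = h * p - 1 := ⟨k + 1 - s * (u * k - e * n), by
    rw [hp] at hk ⊢
    linear_combination s * hk⟩
  have hh0 : 1 ≤ h := by
    by_contra hcon
    push Not at hcon
    nlinarith
  have heq : u * (h * p - 1) = e * (n + h) := by
    have hp0 : p ≠ 0 := by omega
    apply mul_left_cancel₀ hp0
    rw [hh] at hk
    linear_combination hk
  rcases eq_or_lt_of_le hh0 with h1 | h1
  · have he0 : e ≠ 0 := by omega
    apply mul_left_cancel₀ he0
    rw [← h1, hp] at heq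
    linear_combination heq
  · exfalso
    exact keyM hp he (by omega) (by omega : 2 ≤ h) hn (by nlinarith) heq hu

end H21.SCNum
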