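import Cfsg.Agent.Lib.H21.SC1
import Cfsg.Agent.Lib.H21.SCNum
import Cfsg.Agent.Lib.H21.BrauerSimple

/-!
Simple groups with a self-centralizing subgroup of prime order: degrees.
-/

set_option autoImplicit false
set_option linter.unusedSectionVars false

namespace H21.SelfC

open Cfsg H18.CharBasic H18.CharOrtho H18.CharInd H21.PLat

universe u

variable {G : Type u} [Group G] [Fintype G] [Fintype (IrrCharacter G)] {p : ℕ} [hp : Fact p.Prime]
  {x0 : G} {a : IrrCharacter G → ℤ} {Y : Finset (IrrCharacter G)} {ε : ℤ} {e n : ℕ}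

theorem e_two (h : SC G p x0 a Y ε e n) [IsSimpleGroup G] (hG : ¬ IsMulCommutative G) : 2 ≤ e := by
  have hpg : IsPGroup p (Subgroup.zpowers x0) := by
    rw [IsPGroup.iff_card]
    exact ⟨1, by rw [card_zp h.hx0, pow_one]⟩
  obtain ⟨Q, hQ⟩ := hpg.exists_le_sylow
  have hQz := Cfsg.Agent.S0995.sylow_of_self_centralizing p x0 h.hx0 h.hcen Q
    (hQ (Subgroup.mem_zpowers x0))
  have hdvd : p ∣ Nat.card G := by
    rw [h.hcard, mul_assoc]; exact dvd_mul_right _ _
  have h1 := H21.SylowTools.burnside_not_le hG hdvd Q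
  rw [hQz] at h1
  by_contra hcon
  apply h1
  have he : e = 0 ∨ e = 1 := by omega
  have hNpos : 0 < Nat.card (Subgroup.normalizer (Subgroup.zpowers x0 : Set G)) := Nat.card_pos
  rw [h.hcardN] at hNpos
  have he1 : e = 1 := by
    rcases he with h0 | h0
    · rw [h0] at hNpos; omega
    · exact h0
  have h2 := h.hcardN
  rw [he1, mul_one] at h2
  have h3 : Subgroup.zpowers x0 = Subgroup.normalizer (Subgroup.zpowers x0 : Set G) := by
    apply Subgroup.eq_of_le_of_card_ge Subgroup.le_normalizer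
    rw [h2, card_zp h.hx0]
  rw [← h3]
  exact zp_le_CC h.hx0

theorem n_pos (h : SC G p x0 a Y ε e n) [IsSimpleGroup G] (hG : ¬ IsMulCommutative G) : 1 ≤ n := by
  by_contra hcon
  have hn : n = 0 := by omega
  have hdvd : p ∣ Nat.card G := by
    rw [h.hcard, mul_assoc]; exact dvd_mul_right _ _
  apply H21.SylowTools.card_sylow_ne_one hG hdvd
  rw [h.hsyl, hn]
  ring

/-- degrees and dimensions of fixed points -/
theorem exists_w (h : SC G p x0 a Y ε e n) [IsSimpleGroup G] (hG : ¬ IsMulCommutative G) {s : ℕ}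
    (hes : p = e * s + 1) (hnZ : H21.SCNum.NF p n) :
    ∃ w : IrrCharacter G → ℕ, (∀ χ : IrrCharacter G, mu p x0 (χ : G → ℂ) 0 = w χ) ∧ w (triv G) = 1 ∧
      (∀ χ, a χ = 1 → χ ≠ triv G → charDegree (χ : G → ℂ) = 1 + n * p ∧ w χ = n + 1) ∧
      (∀ χ, a χ = -1 → charDegree (χ : G → ℂ) = p - 1 ∧ w χ = 0 ∧ s ∣ n + 1) ∧
      (∀ χ ∈ Y, ε = 1 → charDegree (χ : G → ℂ) = e ∧ w χ = 0) ∧
      (∀ χ ∈ Y, ε = -1 → w χ * s = n + 1 ∧ charDegree (χ : G → ℂ) + e = p * w χ) ∧
      (∀ χ, a χ = 0 → χ ∉ Y → charDegree (χ : G → ℂ) = p * w χ) := by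
  classical
  have hp1 := hp.out.one_lt
  have he2 := e_two h hG
  have hn1 := n_pos h hG
  have hnat : ∀ χ : IrrCharacter G, ∃ m : ℕ, mu p x0 (χ : G → ℂ) 0 = m := fun χ =>
    mu_nat h.hx0 (isCharacter_of_isIrr χ.2) 0
  choose w hw using hnat
  have hs1 : 1 ≤ s := by
    rcases Nat.eq_zero_or_pos s with h0 | h0
    · rw [h0, mul_zero] at hes; omega
    · exact h0
  -- the basic relation
  have hbase : ∀ χ : IrrCharacter G, ∀ S : ℤ,
      ∑ k ∈ Finset.univ.erase (0 : ZMod p), (χ : G → ℂ) (pw x0 k) = S →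
      (p : ℤ) * w χ = charDegree (χ : G → ℂ) + S := by
    intro χ S hS
    have h1 := sum_bb (p := p) (x0 := x0) (χ : G → ℂ)
    rw [sum_bb', hS, hw, ← H82.Deg.coe_charDegree'] at h1
    have h2 : ((p : ℤ) * w χ : ℂ) = charDegree (χ : G → ℂ) + S := by
      push_cast
      linear_combination -h1
    exact_mod_cast h2
  have hconst : ∀ χ : IrrCharacter G, ∀ c : ℤ, (∀ k : ZMod p, k ≠ 0 → (χ : G → ℂ) (pw x0 k) = c) →
      (p : ℤ) * w χ = charDegree (χ : G → ℂ) + (p - 1) * c := by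
    intro χ c hc
    apply hbase
    rw [Finset.sum_congr rfl (fun k hk => hc k (Finset.ne_of_mem_erase hk)), Finset.sum_const,
      Finset.card_erase_of_mem (Finset.mem_univ _), Finset.card_univ, ZMod.card, nsmul_eq_mul,
      Nat.cast_sub hp1.le]
    push_cast
    ring
  have hA : ∀ χ, a χ ≠ 0 → (p : ℤ) * w χ = charDegree (χ : G → ℂ) + (p - 1) * a χ := fun χ hχ =>
    hconst χ (a χ) (h.hval χ hχ)
  have hZ : ∀ χ, a χ = 0 → χ ∉ Y → (p : ℤ) * w χ = charDegree (χ : G → ℂ) := fun χ hχ hY => by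
    have := hconst χ 0 (fun k hk => by rw [h.hz χ hχ hY k hk, Int.cast_zero])
    rw [mul_zero, add_zero] at this
    exact this
  have hYw : ∀ χ ∈ Y, (p : ℤ) * w χ = charDegree (χ : G → ℂ) - ε * e := fun χ hχ => by
    have := hbase χ (-(ε * e)) (by rw [h.hYsum χ hχ]; push_cast; ring)
    rw [this]; ring
  -- degree divisibility
  have hD1 : ∀ χ : IrrCharacter G, χ ≠ triv G → 1 < charDegree (χ : G → ℂ) := by
    intro χ hχ
    obtain ⟨d, hd, hd', -⟩ := H21.BrauerSimple.degree_gt_one hG χ hχ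
    rw [H82.Deg.charDegree_eq_of hd']
    exact hd
  have hDk : ∀ χ : IrrCharacter G, ¬ p ∣ charDegree (χ : G → ℂ) → χ ≠ triv G → ∃ k : ℤ, 0 < k ∧
      (charDegree (χ : G → ℂ) : ℤ) * k = e * (1 + n * p) ∧
      (charDegree (χ : G → ℂ) : ℤ) < p * k := by
    intro χ hχ hχt
    have h1 := H82.Deg.degree_dvd_card χ
    rw [h.hcard, mul_assoc] at h1
    have h2 : charDegree (χ : G → ℂ) ∣ e * (1 + n * p) :=
      Nat.Coprime.dvd_of_dvd_mul_left ((Nat.Prime.coprime_iff_not_dvd hp.out).2 hχ).symm h1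
    obtain ⟨k, hk⟩ := h2
    have hpos : 0 < e * (1 + n * p) := by positivity
    have hk0 : 0 < k := by
      rcases Nat.eq_zero_or_pos k with h0 | h0
      · rw [h0, mul_zero] at hk; omega
      · exact h0
    have h3 : charDegree (χ : G → ℂ) ^ 2 < Nat.card G := by
      have h4 := H21.BrauerSimple.sum_sq_le (G := G) {χ, triv G}
        (fun χ => charDegree (χ : G → ℂ)) (fun χ => (H82.Deg.coe_charDegree' χ).symm)
      rw [Finset.sum_pair hχt] at h4
      have h5 : charDegree ((triv G : IrrCharacter G) : G → ℂ) = 1 := by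
        apply H82.Deg.charDegree_eq_of
        simp
      rw [h5] at h4
      omega
    refine ⟨k, by exact_mod_cast hk0, by exact_mod_cast hk.symm, ?_⟩
    rw [h.hcard, mul_assoc, hk, sq] at h3
    have h6 : charDegree (χ : G → ℂ) * charDegree (χ : G → ℂ) <
        charDegree (χ : G → ℂ) * (p * k) := by
      calc _ < _ := h3
        _ = _ := by ring
    exact_mod_cast (Nat.lt_of_mul_lt_mul_left h6)
  have hpZ : (p : ℤ) = e * s + 1 := by exact_mod_cast hes
  have heZ : (1 : ℤ) ≤ e := by omega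
  have hsZ : (1 : ℤ) ≤ s := by omega
  have hpe : ¬ (p : ℤ) ∣ e := by
    intro hd
    have h1 : (p : ℤ) ≤ e := Int.le_of_dvd (by omega) hd
    nlinarith
  have hp1Z : (1 : ℤ) < p := by exact_mod_cast hp1
  have hndvd : ∀ χ : IrrCharacter G, ∀ c : ℤ, (p : ℤ) ∣ charDegree (χ : G → ℂ) - c → ¬ (p : ℤ) ∣ c →
      ¬ p ∣ charDegree (χ : G → ℂ) := by
    intro χ c h1 h2 h3
    apply h2
    have h4 : (p : ℤ) ∣ charDegree (χ : G → ℂ) := by exact_mod_cast h3
    have := dvd_sub h4 h1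
    simpa using this
  have hp_one : ¬ (p : ℤ) ∣ 1 := by
    intro hd
    have := Int.le_of_dvd one_pos hd
    omega
  have hYt : ∀ χ ∈ Y, χ ≠ triv G := by
    intro χ hχ h0
    have h1 := h.hYa χ hχ
    rw [h0, h.htriv] at h1
    exact one_ne_zero h1
  refine ⟨w, hw, ?_, ?_, ?_, ?_, ?_, ?_⟩
  · have h1 := hA (triv G) (by rw [h.htriv]; exact one_ne_zero)
    have h5 : charDegree ((triv G : IrrCharacter G) : G → ℂ) = 1 := by
      apply H82.Deg.charDegree_eq_of
      simp
    rw [h.htriv, h5] at h1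
    have h2 : (p : ℤ) * w (triv G) = p * 1 := by rw [h1]; push_cast; ring
    exact_mod_cast mul_left_cancel₀ (by omega : (p : ℤ) ≠ 0) h2
  · intro χ hχ hχt
    have h1 := hA χ (by rw [hχ]; exact one_ne_zero)
    rw [hχ, mul_one] at h1
    obtain ⟨k, hk0, hk, hlt⟩ := hDk χ (hndvd χ 1 ⟨w χ - 1, by linear_combination -h1⟩ hp_one) hχt
    have hD := hD1 χ hχt
    have h2 : (charDegree (χ : G → ℂ) : ℤ) = 1 + (w χ - 1) * p := by linear_combination -h1
    rw [h2] at hk
    have hu : 1 ≤ (w χ : ℤ) - 1 := by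
      by_contra hcon
      push Not at hcon
      have h3 : (1 : ℤ) < charDegree (χ : G → ℂ) := by exact_mod_cast hD
      nlinarith
    have h3 := H21.SCNum.numA hpZ heZ hsZ hu hnZ hk0 hk
    constructor
    · have : (charDegree (χ : G → ℂ) : ℤ) = 1 + n * p := by rw [h2, h3]
      exact_mod_cast this
    · omega
  · intro χ hχ
    have hχt : χ ≠ triv G := by
      intro h0
      rw [h0, h.htriv] at hχ
      omega
    have h1 := hA χ (by rw [hχ]; omega)
    rw [hχ] at h1
    obtain ⟨k, hk0, hk, hlt⟩ := hDk χ (hndvd χ (-1) ⟨w χ + 1, by linear_combination -h1⟩ (by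
      rw [Int.dvd_neg]; exact hp_one)) hχt
    have h2 : (charDegree (χ : G → ℂ) : ℤ) = (w χ + 1) * p - 1 := by linear_combination -h1
    rw [h2] at hk hlt
    obtain ⟨h3, h4⟩ := H21.SCNum.numAm hpZ heZ hsZ (by omega : (1 : ℤ) ≤ w χ + 1) hnZ hk0 hk hlt
    refine ⟨?_, by omega, by exact_mod_cast h4⟩
    rw [h3, one_mul] at h2
    omega
  · intro χ hχ hε1
    have h1 := hYw χ hχ
    rw [hε1, one_mul] at h1
    obtain ⟨k, hk0, hk, hlt⟩ := hDk χ (hndvd χ e ⟨w χ, by linear_combination -h1⟩ hpe) (hYt χ hχ)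
    have h2 : (charDegree (χ : G → ℂ) : ℤ) = e + w χ * p := by linear_combination -h1
    rw [h2] at hk hlt
    have h3 := H21.SCNum.numYp hpZ heZ hsZ (by omega : (0 : ℤ) ≤ w χ) hnZ hk0 hk hlt
    rw [h3, zero_mul, add_zero] at h2
    exact ⟨by exact_mod_cast h2, by exact_mod_cast h3⟩
  · intro χ hχ hε1
    have h1 := hYw χ hχ
    rw [hε1] at h1
    obtain ⟨k, hk0, hk, hlt⟩ := hDk χ (hndvd χ (-e) ⟨w χ, by linear_combination -h1⟩ (by
      rw [Int.dvd_neg]; exact hpe)) (hYt χ hχ)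
    have h2 : (charDegree (χ : G → ℂ) : ℤ) = w χ * p - e := by linear_combination -h1
    have h5 : (charDegree (χ : G → ℂ) : ℤ) + e = p * w χ := by rw [h2]; ring
    refine ⟨?_, by exact_mod_cast h5⟩
    have hD := H82.Deg.charDegree_pos χ
    have hw1 : 1 ≤ (w χ : ℤ) := by
      by_contra hcon
      push Not at hcon
      have h0 : (w χ : ℤ) = 0 := by omega
      rw [h0, zero_mul] at h2
      omega
    rcases eq_or_lt_of_le hs1 with hs | hs
    · have hD1' := hD1 χ (hYt χ hχ)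
      rw [← hs] at hpZ ⊢
      rw [mul_one]
      push_cast at hpZ
      have h6 : (charDegree (χ : G → ℂ) : ℤ) = 1 + (w χ - 1) * p := by
        rw [h2]; linear_combination hpZ
      rw [h6] at hk
      have hu : 1 ≤ (w χ : ℤ) - 1 := by
        by_contra hcon
        push Not at hcon
        have h3 : (1 : ℤ) < charDegree (χ : G → ℂ) := by exact_mod_cast hD1'
        nlinarith
      have h7 := H21.SCNum.numA (s := 1) (by rw [hpZ]) heZ (by norm_num) hu hnZ hk0 hk
      omega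
    · rw [h2] at hk
      have h7 := H21.SCNum.numYm hpZ heZ (by omega : (2 : ℤ) ≤ s) hw1 hnZ hk0 hk
      exact_mod_cast h7
  · intro χ hχ hχY
    have := hZ χ hχ hχY
    exact_mod_cast this.symm

end H21.SelfC
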