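import Cfsg.Agent.Lib.H21.SC2

/-!
Simple groups with a self-centralizing subgroup of prime order: counting characters.
-/

set_option autoImplicit false
set_option linter.unusedSectionVars false

namespace H21.SelfC

open Cfsg H18.CharBasic H18.CharOrtho H18.CharInd H21.PLat

universe u

section split

variable {G : Type u} [Group G] [Fintype (IrrCharacter G)]

open Classical in
/-- positive nonexceptional nonprincipal characters -/
noncomputable def Ap (a : IrrCharacter G → ℤ) : Finset (IrrCharacter G) :=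
  Finset.univ.filter fun χ => a χ = 1 ∧ χ ≠ triv G

open Classical in
/-- negative nonexceptional characters -/
noncomputable def Am (a : IrrCharacter G → ℤ) : Finset (IrrCharacter G) :=
  Finset.univ.filter fun χ => a χ = -1

open Classical in
/-- the remaining characters -/
noncomputable def Zs (a : IrrCharacter G → ℤ) (Y : Finset (IrrCharacter G)) :
    Finset (IrrCharacter G) := Finset.univ.filter fun χ => a χ = 0 ∧ χ ∉ Y

theorem mem_Ap {a : IrrCharacter G → ℤ} {χ : IrrCharacter G} :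
    χ ∈ Ap a ↔ a χ = 1 ∧ χ ≠ triv G := by
  classical
  rw [Ap, Finset.mem_filter]
  exact ⟨fun h => h.2, fun h => ⟨Finset.mem_univ _, h⟩⟩

theorem mem_Am {a : IrrCharacter G → ℤ} {χ : IrrCharacter G} : χ ∈ Am a ↔ a χ = -1 := by
  classical
  rw [Am, Finset.mem_filter]
  exact ⟨fun h => h.2, fun h => ⟨Finset.mem_univ _, h⟩⟩

theorem mem_Zs {a : IrrCharacter G → ℤ} {Y : Finset (IrrCharacter G)} {χ : IrrCharacter G} :
    χ ∈ Zs a Y ↔ a χ = 0 ∧ χ ∉ Y := by
  classical
  rw [Zs, Finset.mem_filter]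
  exact ⟨fun h => h.2, fun h => ⟨Finset.mem_univ _, h⟩⟩

theorem sum_split {R : Type*} [AddCommMonoid R] {a : IrrCharacter G → ℤ}
    {Y : Finset (IrrCharacter G)} (ha : ∀ χ, a χ = 0 ∨ a χ = 1 ∨ a χ = -1)
    (hY : ∀ χ ∈ Y, a χ = 0) (ht : a (triv G) = 1) (F : IrrCharacter G → R) :
    ∑ χ, F χ = F (triv G) + ∑ χ ∈ Ap a, F χ + ∑ χ ∈ Am a, F χ + ∑ χ ∈ Y, F χ +
      ∑ χ ∈ Zs a Y, F χ := by
  classical
  have h1 : ∀ χ : IrrCharacter G, F χ = (if χ = triv G then F χ else 0) +
      (if χ ∈ Ap a then F χ else 0) + (if χ ∈ Am a then F χ else 0) +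
      (if χ ∈ Y then F χ else 0) + (if χ ∈ Zs a Y then F χ else 0) := by
    intro χ
    simp only [mem_Ap, mem_Am, mem_Zs]
    by_cases hχt : χ = triv G
    · have hnY : χ ∉ Y := fun h => by
        have := hY χ h
        rw [hχt, ht] at this
        exact one_ne_zero this
      rw [if_pos hχt, if_neg (fun h => h.2 hχt), if_neg (by rw [hχt, ht]; decide), if_neg hnY,
        if_neg (fun h => by rw [hχt, ht] at h; exact one_ne_zero h.1)]
      simp
    · rw [if_neg hχt]
      rcases ha χ with h0 | h0 | h0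
      · by_cases hχY : χ ∈ Y
        · rw [if_neg (fun h => by rw [h0] at h; exact zero_ne_one h.1), if_neg (by rw [h0]; decide),
            if_pos hχY, if_neg (fun h => h.2 hχY)]
          simp
        · rw [if_neg (fun h => by rw [h0] at h; exact zero_ne_one h.1), if_neg (by rw [h0]; decide),
            if_neg hχY, if_pos ⟨h0, hχY⟩]
          simp
      · have hnY : χ ∉ Y := fun h => by
          have := hY χ h
          rw [h0] at this
          exact one_ne_zero this
        rw [if_pos ⟨h0, hχt⟩, if_neg (by rw [h0]; decide), if_neg hnY,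
          if_neg (fun h => by rw [h0] at h; exact one_ne_zero h.1)]
        simp
      · have hnY : χ ∉ Y := fun h => by
          have := hY χ h
          rw [h0] at this
          exact absurd this (by decide)
        rw [if_neg (fun h => by rw [h0] at h; exact absurd h.1 (by decide)), if_pos h0, if_neg hnY,
          if_neg (fun h => by rw [h0] at h; exact absurd h.1 (by decide))]
        simp
  rw [Finset.sum_congr rfl (fun χ _ => h1 χ), Finset.sum_add_distrib, Finset.sum_add_distrib,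
    Finset.sum_add_distrib, Finset.sum_add_distrib]
  simp only [Finset.sum_ite_mem, Finset.univ_inter, Finset.sum_ite_eq', Finset.mem_univ, if_true]

end split

variable {G : Type u} [Group G] [Fintype G] [Fintype (IrrCharacter G)] {p : ℕ} [hp : Fact p.Prime]
  {x0 : G} {a : IrrCharacter G → ℤ} {Y : Finset (IrrCharacter G)} {ε : ℤ} {e n : ℕ}

/-- full numerical data -/
theorem exists_data (h : SC G p x0 a Y ε e n) [IsSimpleGroup G] (hG : ¬ IsMulCommutative G) {s : ℕ}
    (hes : p = e * s + 1) (hn2 : H21.SCNum.NF p n) :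
    ∃ w : IrrCharacter G → ℕ, (∀ χ : IrrCharacter G, mu p x0 (χ : G → ℂ) 0 = w χ) ∧
      w (triv G) = 1 ∧ Y.card = s ∧ 1 + (Ap a).card + (Am a).card = e ∧
      (∀ χ ∈ Ap a, charDegree (χ : G → ℂ) = 1 + n * p ∧ w χ = n + 1) ∧
      (∀ χ ∈ Am a, charDegree (χ : G → ℂ) = p - 1 ∧ w χ = 0 ∧ s ∣ n + 1) ∧
      (∀ χ ∈ Zs a Y, charDegree (χ : G → ℂ) = p * w χ) ∧
      ∑ χ ∈ Zs a Y, w χ ^ 2 = n ∧
      ((ε = 1 ∧ (∀ χ ∈ Y, charDegree (χ : G → ℂ) = e ∧ w χ = 0) ∧ (Ap a).card * (n + 1) + 1 = e) ∨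
       (ε = -1 ∧ ∃ v, v * s = n + 1 ∧ v * ((Ap a).card * s + 1) + 1 = e ∧
        (∀ χ ∈ Y, charDegree (χ : G → ℂ) + e = p * v ∧ w χ = v))) := by
  classical
  obtain ⟨w, hw, hwt, hA, hM, hYp, hYm, hZ⟩ := exists_w h hG hes hn2
  have hp1 := hp.out.one_lt
  have he2 := e_two h hG
  have hs1 : 1 ≤ s := by
    rcases Nat.eq_zero_or_pos s with h0 | h0
    · rw [h0, mul_zero] at hes; omega
    · exact h0
  have hcY : Y.card = s := by
    have h1 := h.hcardY
    have h2 : p - 1 = e * s := by omega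
    rw [h2] at h1
    exact Nat.eq_of_mul_eq_mul_left (by omega) h1
  have hsplit := fun F : IrrCharacter G → ℤ => sum_split h.ha h.hYa h.htriv F
  have hAp : ∀ χ ∈ Ap a, charDegree (χ : G → ℂ) = 1 + n * p ∧ w χ = n + 1 := fun χ hχ =>
    hA χ (mem_Ap.1 hχ).1 (mem_Ap.1 hχ).2
  have hAm : ∀ χ ∈ Am a, charDegree (χ : G → ℂ) = p - 1 ∧ w χ = 0 ∧ s ∣ n + 1 := fun χ hχ =>
    hM χ (mem_Am.1 hχ)
  have hZs : ∀ χ ∈ Zs a Y, charDegree (χ : G → ℂ) = p * w χ := fun χ hχ =>
    hZ χ (mem_Zs.1 hχ).1 (mem_Zs.1 hχ).2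
  have hdt : charDegree ((triv G : IrrCharacter G) : G → ℂ) = 1 := by
    apply H82.Deg.charDegree_eq_of
    simp
  have hcount : 1 + (Ap a).card + (Am a).card = e := by
    have h1 := hsplit (fun χ => a χ * a χ)
    rw [h.hnorm] at h1
    have h2 : ∑ χ ∈ Ap a, a χ * a χ = (Ap a).card := by
      rw [Finset.sum_congr rfl (fun χ hχ => by rw [(mem_Ap.1 hχ).1])]
      simp
    have h3 : ∑ χ ∈ Am a, a χ * a χ = (Am a).card := by
      rw [Finset.sum_congr rfl (fun χ hχ => by rw [mem_Am.1 hχ])]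
      simp
    have h4 : ∑ χ ∈ Y, a χ * a χ = 0 :=
      Finset.sum_eq_zero fun χ hχ => by rw [h.hYa χ hχ, mul_zero]
    have h5 : ∑ χ ∈ Zs a Y, a χ * a χ = 0 :=
      Finset.sum_eq_zero fun χ hχ => by rw [(mem_Zs.1 hχ).1, mul_zero]
    rw [h2, h3, h4, h5, h.htriv] at h1
    omega
  -- degree relation
  have hrel : ∀ χ ∈ Y, ε * charDegree (χ : G → ℂ) =
      1 + (Ap a).card * (1 + n * p) - (Am a).card * (p - 1) := by
    intro χ hχ
    have h1 := h.hrel χ hχ 1 (by rw [orderOf_one]; exact hp1.ne' ∘ Nat.dvd_one.1)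
    have h2 : ε * (charDegree (χ : G → ℂ) : ℤ) = ∑ ψ, a ψ * charDegree (ψ : G → ℂ) := by
      have : ((ε * (charDegree (χ : G → ℂ) : ℤ) : ℤ) : ℂ) =
          ((∑ ψ, a ψ * charDegree (ψ : G → ℂ) : ℤ) : ℂ) := by
        push_cast
        rw [H82.Deg.coe_charDegree', h1]
        exact Finset.sum_congr rfl fun ψ _ => by rw [H82.Deg.coe_charDegree']
      exact_mod_cast this
    rw [h2, hsplit]
    have h3 : ∑ χ ∈ Ap a, a χ * (charDegree (χ : G → ℂ) : ℤ) = (Ap a).card * (1 + n * p) := by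
      rw [Finset.sum_congr rfl (fun χ hχ => by rw [(mem_Ap.1 hχ).1, (hAp χ hχ).1, one_mul])]
      rw [Finset.sum_const, nsmul_eq_mul]
      push_cast
      ring
    have h4 : ∑ χ ∈ Am a, a χ * (charDegree (χ : G → ℂ) : ℤ) = -((Am a).card * (p - 1)) := by
      rw [Finset.sum_congr rfl (fun χ hχ => by rw [mem_Am.1 hχ, (hAm χ hχ).1])]
      rw [Finset.sum_const, nsmul_eq_mul, Nat.cast_sub hp1.le]
      push_cast
      ring
    have h5 : ∑ χ ∈ Y, a χ * (charDegree (χ : G → ℂ) : ℤ) = 0 :=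
      Finset.sum_eq_zero fun χ hχ => by rw [h.hYa χ hχ, zero_mul]
    have h6 : ∑ χ ∈ Zs a Y, a χ * (charDegree (χ : G → ℂ) : ℤ) = 0 :=
      Finset.sum_eq_zero fun χ hχ => by rw [(mem_Zs.1 hχ).1, zero_mul]
    rw [h3, h4, h5, h6, h.htriv, hdt]
    push_cast
    ring
  -- sum of squares
  have hsq : (1 : ℤ) + (Ap a).card * (1 + n * p) ^ 2 + (Am a).card * (p - 1) ^ 2 +
      ∑ χ ∈ Y, (charDegree (χ : G → ℂ) : ℤ) ^ 2 + p ^ 2 * ∑ χ ∈ Zs a Y, (w χ : ℤ) ^ 2 =
      p * e * (1 + n * p) := by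
    have h1 := sum_degree_sq (G := G)
    have h2 : ∑ χ : IrrCharacter G, (charDegree (χ : G → ℂ) : ℤ) ^ 2 = p * e * (1 + n * p) := by
      have : ((∑ χ : IrrCharacter G, (charDegree (χ : G → ℂ) : ℤ) ^ 2 : ℤ) : ℂ) =
          ((p * e * (1 + n * p) : ℕ) : ℂ) := by
        rw [← h.hcard, ← h1]
        push_cast
        exact Finset.sum_congr rfl fun ψ _ => by rw [H82.Deg.coe_charDegree']
      exact_mod_cast this
    rw [← h2, hsplit, hdt]
    have h3 : ∑ χ ∈ Ap a, (charDegree (χ : G → ℂ) : ℤ) ^ 2 = (Ap a).card * (1 + n * p) ^ 2 := by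
      rw [Finset.sum_congr rfl (fun χ hχ => by rw [(hAp χ hχ).1])]
      rw [Finset.sum_const, nsmul_eq_mul]
      push_cast
      ring
    have h4 : ∑ χ ∈ Am a, (charDegree (χ : G → ℂ) : ℤ) ^ 2 = (Am a).card * (p - 1) ^ 2 := by
      rw [Finset.sum_congr rfl (fun χ hχ => by rw [(hAm χ hχ).1])]
      rw [Finset.sum_const, nsmul_eq_mul, Nat.cast_sub hp1.le]
      push_cast
      ring
    have h6 : ∑ χ ∈ Zs a Y, (charDegree (χ : G → ℂ) : ℤ) ^ 2 =
        p ^ 2 * ∑ χ ∈ Zs a Y, (w χ : ℤ) ^ 2 := by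
      rw [Finset.mul_sum]
      refine Finset.sum_congr rfl fun χ hχ => ?_
      rw [hZs χ hχ]
      push_cast
      ring
    rw [h3, h4, h6]
    push_cast
    ring
  have hpZ : (p : ℤ) = e * s + 1 := by exact_mod_cast hes
  have hYne : Y.Nonempty := by
    rw [← Finset.card_pos, hcY]
    exact hs1
  obtain ⟨θ, hθ⟩ := hYne
  have hcountZ : (1 : ℤ) + (Ap a).card + (Am a).card = e := by exact_mod_cast hcount
  have hp0 : (p : ℤ) ≠ 0 := by
    have := hp.out.ne_zero
    exact_mod_cast this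
  have heZ : (2 : ℤ) ≤ e := by exact_mod_cast he2
  have hsZ : (1 : ℤ) ≤ s := by exact_mod_cast hs1
  refine ⟨w, hw, hwt, hcY, hcount, hAp, hAm, hZs, ?_, ?_⟩
  · -- sum of squares equals n
    have hgoal : ∑ χ ∈ Zs a Y, (w χ : ℤ) ^ 2 = n := by
      apply mul_left_cancel₀ (pow_ne_zero 2 hp0)
      rcases h.hε with h1 | h1
      · have h2 := hrel θ hθ
        rw [h1, (hYp θ hθ h1).1, one_mul] at h2
        have h3 : ∑ χ ∈ Y, (charDegree (χ : G → ℂ) : ℤ) ^ 2 = s * (e : ℤ) ^ 2 := by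
          rw [Finset.sum_congr rfl (fun χ hχ => by rw [(hYp χ hχ h1).1]), Finset.sum_const,
            nsmul_eq_mul, hcY]
        rw [h3] at hsq
        have hb : ((Am a).card : ℤ) = e - 1 - (Ap a).card := by linarith
        rw [hb] at h2 hsq
        have h4 : ((Ap a).card : ℤ) * (n + 1) = e - 1 := by
          apply mul_left_cancel₀ hp0
          linear_combination -h2
        have h5 : (s : ℤ) * e ^ 2 = e * (p - 1) := by rw [hpZ]; ring
        rw [h5] at hsq
        linear_combination hsq - (p * (n * p + 2 - p)) * h4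
      · obtain ⟨h2, h2'⟩ := hYm θ hθ h1
        have hx : ∀ χ ∈ Y, (charDegree (χ : G → ℂ) : ℤ) = p * w θ - e := by
          intro χ hχ
          obtain ⟨h3, h3'⟩ := hYm χ hχ h1
          have h4 : w χ = w θ := Nat.eq_of_mul_eq_mul_right (by omega) (h3.trans h2.symm)
          rw [h4] at h3'
          have h5 : (charDegree (χ : G → ℂ) : ℤ) + e = p * w θ := by exact_mod_cast h3'
          linarith
        have h3 := hrel θ hθ
        rw [h1, hx θ hθ] at h3
        have h4 : ∑ χ ∈ Y, (charDegree (χ : G → ℂ) : ℤ) ^ 2 = s * ((p : ℤ) * w θ - e) ^ 2 := by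
          rw [Finset.sum_congr rfl (fun χ hχ => by rw [hx χ hχ]), Finset.sum_const,
            nsmul_eq_mul, hcY]
        rw [h4] at hsq
        have hb : ((Am a).card : ℤ) = e - 1 - (Ap a).card := by linarith
        rw [hb] at h3 hsq
        have hv : (w θ : ℤ) * s = n + 1 := by exact_mod_cast h2
        -- `α (n + 1) = e - 1 - v`
        have h5 : ((Ap a).card : ℤ) * (n + 1) = e - 1 - w θ := by
          apply mul_left_cancel₀ hp0
          linear_combination -h3
        have h6 : (s : ℤ) * (p * w θ - e) ^ 2 =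
            (n + 1) * w θ * p ^ 2 - 2 * (n + 1) * p * e + e * (p - 1) := by
          rw [← hv, hpZ]; ring
        rw [h6] at hsq
        have h7 : (w θ : ℤ) * (p - 1) = (n + 1) * e := by rw [← hv, hpZ]; ring
        linear_combination hsq - (p * (n * p + 2 - p)) * h5 - 2 * p * h7
    exact_mod_cast hgoal
  · rcases h.hε with h1 | h1
    · left
      refine ⟨h1, fun χ hχ => hYp χ hχ h1, ?_⟩
      have h2 := hrel θ hθ
      rw [h1, (hYp θ hθ h1).1, one_mul] at h2
      have hb : ((Am a).card : ℤ) = e - 1 - (Ap a).card := by linarith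
      rw [hb] at h2
      have h4 : ((Ap a).card : ℤ) * (n + 1) = e - 1 := by
        apply mul_left_cancel₀ hp0
        linear_combination -h2
      have h5 : ((Ap a).card : ℤ) * (n + 1) + 1 = e := by linarith
      exact_mod_cast h5
    · right
      obtain ⟨h2, h2'⟩ := hYm θ hθ h1
      refine ⟨h1, w θ, h2, ?_, ?_⟩
      · have h3 := hrel θ hθ
        have h5 : (charDegree (θ : G → ℂ) : ℤ) = p * w θ - e := by
          have h5 : (charDegree (θ : G → ℂ) : ℤ) + e = p * w θ := by exact_mod_cast h2'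
          linarith
        rw [h1, h5] at h3
        have hb : ((Am a).card : ℤ) = e - 1 - (Ap a).card := by linarith
        rw [hb] at h3
        have hv : (w θ : ℤ) * s = n + 1 := by exact_mod_cast h2
        have h5 : ((Ap a).card : ℤ) * (n + 1) = e - 1 - w θ := by
          apply mul_left_cancel₀ hp0
          linear_combination -h3
        have h6 : (w θ : ℤ) * ((Ap a).card * s + 1) + 1 = e := by
          rw [← hv] at h5
          linear_combination h5
        exact_mod_cast h6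
      · intro χ hχ
        obtain ⟨h3, h3'⟩ := hYm χ hχ h1
        have h4 : w χ = w θ := Nat.eq_of_mul_eq_mul_right (by omega) (h3.trans h2.symm)
        rw [h4] at h3'
        exact ⟨h3', h4⟩

end H21.SelfC
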