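import Cfsg.Agent.Lib.H21.SC3
import Cfsg.Agent.Lib.H18.CharPerm

/-!
Simple groups with a self-centralizing subgroup of prime order: the permutation character on the
Sylow subgroups.
-/

set_option autoImplicit false
set_option linter.unusedSectionVars false

namespace H21.SelfC

open Cfsg H18.CharBasic H18.CharOrtho H18.CharInd H21.PLat

universe u

/-- the full numerical data -/
structure Dat (G : Type u) [Group G] [Fintype G] [Fintype (IrrCharacter G)] (p : ℕ) [Fact p.Prime]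
    (x0 : G) (a : IrrCharacter G → ℤ) (Y : Finset (IrrCharacter G)) (ε : ℤ) (e n s : ℕ)
    (w : IrrCharacter G → ℕ) : Prop extends SC G p x0 a Y ε e n where
  hes : p = e * s + 1
  he2 : 2 ≤ e
  hn1 : 1 ≤ n
  hs1 : 1 ≤ s
  hw : ∀ χ : IrrCharacter G, mu p x0 (χ : G → ℂ) 0 = w χ
  hwt : w (triv G) = 1
  hcY : Y.card = s
  hcnt : 1 + (Ap a).card + (Am a).card = e
  hAp : ∀ χ ∈ Ap a, charDegree (χ : G → ℂ) = 1 + n * p ∧ w χ = n + 1
  hAm : ∀ χ ∈ Am a, charDegree (χ : G → ℂ) = p - 1 ∧ w χ = 0 ∧ s ∣ n + 1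
  hZs : ∀ χ ∈ Zs a Y, charDegree (χ : G → ℂ) = p * w χ
  hsq : ∑ χ ∈ Zs a Y, w χ ^ 2 = n
  hcase : (ε = 1 ∧ (∀ χ ∈ Y, charDegree (χ : G → ℂ) = e ∧ w χ = 0) ∧ (Ap a).card * (n + 1) + 1 = e) ∨
       (ε = -1 ∧ ∃ v, v * s = n + 1 ∧ v * ((Ap a).card * s + 1) + 1 = e ∧
        (∀ χ ∈ Y, charDegree (χ : G → ℂ) + e = p * v ∧ w χ = v))

variable {G : Type u} [Group G] [Fintype G] [Fintype (IrrCharacter G)] {p : ℕ} [hp : Fact p.Prime]
  {x0 : G} {a : IrrCharacter G → ℤ} {Y : Finset (IrrCharacter G)} {ε : ℤ} {e n s : ℕ}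
  {w : IrrCharacter G → ℕ}

theorem exists_dat (h : SC G p x0 a Y ε e n) [IsSimpleGroup G] (hG : ¬ IsMulCommutative G)
    (hn2 : H21.SCNum.NF p n) : ∃ s w, Dat G p x0 a Y ε e n s w := by
  have hes : p = e * Y.card + 1 := by
    have := h.hcardY
    have h2 := hp.out.one_lt
    omega
  obtain ⟨w, h1, h2, h3, h4, h5, h6, h7, h8, h9⟩ := exists_data h hG hes hn2
  refine ⟨Y.card, w, h, hes, e_two h hG, n_pos h hG, ?_, h1, h2, h3, h4, h5, h6, h7, h8, h9⟩
  rcases Nat.eq_zero_or_pos Y.card with h0 | h0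
  · rw [h0, mul_zero] at hes
    have := hp.out.one_lt
    omega
  · exact h0

/-- the normalizer -/
abbrev NN (x0 : G) : Subgroup G := Subgroup.normalizer (Subgroup.zpowers x0 : Set G)

theorem centralizer_le (hx0 : orderOf x0 = p)
    (hcen : Subgroup.centralizer ({x0} : Set G) = Subgroup.zpowers x0)
    (k : NN x0) (hk : k ∈ (Subgroup.zpowers x0).subgroupOf (NN x0)) (hk1 : k ≠ 1) :
    Subgroup.centralizer ({k} : Set (NN x0)) ≤ (Subgroup.zpowers x0).subgroupOf (NN x0) := by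
  intro y hy
  rw [Subgroup.mem_subgroupOf] at hk ⊢
  obtain ⟨j, hj⟩ := mem_zpowers_pw hx0 hk
  have hj0 : j ≠ 0 := by
    rintro rfl
    apply hk1
    rw [pw_zero] at hj
    exact Subtype.ext hj.symm
  rw [← centralizer_pw_eq hx0 hcen hj0, Subgroup.mem_centralizer_singleton_iff, hj]
  rw [Subgroup.mem_centralizer_singleton_iff] at hy
  have := congrArg Subtype.val hy
  simpa using this

theorem exists_res (h : SC G p x0 a Y ε e n) [Fintype (NN x0)] {χ : G → ℂ}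
    (hχ : IsCharacter G χ) :
    ∃ f : NN x0 → ℂ, IsCharacter (NN x0) f ∧
      (∀ x : NN x0, (x : G) ∉ Subgroup.zpowers x0 → χ x = f x) ∧
      f 1 = mu p x0 χ 0 ∧
      classInner f (fun _ => 1) = classInner (fun x : NN x0 => χ x) (fun _ => 1) := by
  classical
  have hN : ((Subgroup.zpowers x0).subgroupOf (NN x0)).Normal := by
    exact Subgroup.normal_in_normalizer
  obtain ⟨f, hf1, hf2, hf3, hf4⟩ := H21.FrobRes.exists_fix ((Subgroup.zpowers x0).subgroupOf (NN x0))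
    (centralizer_le h.hx0 h.hcen) (isCharacter_restrict (NN x0) hχ)
  refine ⟨f, hf1, fun x hx => hf2 x (by rwa [Subgroup.mem_subgroupOf]), ?_, hf4⟩
  have hle : Subgroup.zpowers x0 ≤ NN x0 := Subgroup.le_normalizer
  have h1 : ∑ k : (Subgroup.zpowers x0).subgroupOf (NN x0), χ ((k : NN x0) : G) =
      ∑ j : ZMod p, χ (pw x0 j) := by
    symm
    refine Finset.sum_bij (fun j _ => ⟨⟨pw x0 j, hle (pw_mem j)⟩, pw_mem j⟩)
      (fun j _ => Finset.mem_univ _) (fun i _ j _ hij => ?_) (fun k _ => ?_) (fun j _ => rfl)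
    · have := congrArg Subtype.val (congrArg Subtype.val hij)
      exact pw_inj h.hx0 this
    · obtain ⟨j, hj⟩ := mem_zpowers_pw h.hx0 (Subgroup.mem_subgroupOf.1 k.2)
      exact ⟨j, Finset.mem_univ _, Subtype.ext (Subtype.ext hj)⟩
  have h2 : Nat.card ((Subgroup.zpowers x0).subgroupOf (NN x0)) = p := by
    rw [Nat.card_congr (Subgroup.subgroupOfEquivOfLe hle).toEquiv, card_zp h.hx0]
  rw [h1, h2] at hf3
  rw [mu]
  simp only [zero_mul, neg_zero, AddChar.map_zero_eq_one, mul_one]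
  rw [hf3, ← mul_assoc, inv_mul_cancel₀ pC, one_mul]

end H21.SelfC
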