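import Cfsg.Agent.Lib.H21.SC4

/-!
Simple groups with a self-centralizing subgroup of prime order: multiplicities in the permutation
character on the Sylow subgroups.
-/

set_option autoImplicit false
set_option linter.unusedSectionVars false

namespace H21.SelfC

open Cfsg H18.CharBasic H18.CharOrtho H18.CharInd H21.PLat

universe u

theorem inner_one_le {N : Type u} [Group N] [Fintype N] {f : N → ℂ} (hf : IsCharacter N f)
    {r d : ℕ} (hr : classInner f (fun _ => 1) = r) (hd : f 1 = d) : r ≤ d := by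
  have h1 : ‖classInner f (fun _ => 1)‖ ≤ (f 1).re := by
    rw [classInner]
    have hN : (0 : ℝ) < Nat.card N := by exact_mod_cast Nat.card_pos
    rw [norm_mul, norm_inv, Complex.norm_natCast, inv_mul_le_iff₀ hN]
    calc ‖∑ g : N, f g * (starRingEnd ℂ) ((fun _ => (1 : ℂ)) g)‖
        ≤ ∑ g : N, ‖f g * (starRingEnd ℂ) ((fun _ => (1 : ℂ)) g)‖ := norm_sum_le _ _
      _ ≤ ∑ _g : N, (f 1).re := by
        refine Finset.sum_le_sum fun g _ => ?_
        rw [map_one, mul_one]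
        exact char_norm_le hf g
      _ = Nat.card N * (f 1).re := by
        rw [Finset.sum_const, Finset.card_univ, nsmul_eq_mul, Nat.card_eq_fintype_card]
  rw [hr, hd, Complex.norm_natCast, Complex.natCast_re] at h1
  exact_mod_cast h1

variable {G : Type u} [Group G] [Fintype G] [Fintype (IrrCharacter G)] {p : ℕ} [hp : Fact p.Prime]
  {x0 : G} {a : IrrCharacter G → ℤ} {Y : Finset (IrrCharacter G)} {ε : ℤ} {e n s : ℕ}
  {w : IrrCharacter G → ℕ}

open Classical in
theorem sum_NN (hx0 : orderOf x0 = p) [Fintype (NN x0)] (F : G → ℂ) :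
    ∑ x : NN x0, F x = ∑ j : ZMod p, F (pw x0 j) +
      ∑ x : NN x0, (if (x : G) ∈ Subgroup.zpowers x0 then 0 else F x) := by
  have hle : Subgroup.zpowers x0 ≤ NN x0 := Subgroup.le_normalizer
  have h1 : ∑ j : ZMod p, F (pw x0 j) =
      ∑ x : NN x0, (if (x : G) ∈ Subgroup.zpowers x0 then F x else 0) := by
    rw [← Finset.sum_filter]
    refine Finset.sum_bij (fun j _ => ⟨pw x0 j, hle (pw_mem j)⟩)
      (fun j _ => by
        rw [Finset.mem_filter]
        exact ⟨Finset.mem_univ _, pw_mem j⟩) (fun i _ j _ hij => ?_) (fun k hk => ?_)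
      (fun j _ => rfl)
    · exact pw_inj hx0 (congrArg Subtype.val hij)
    · rw [Finset.mem_filter] at hk
      obtain ⟨j, hj⟩ := mem_zpowers_pw hx0 hk.2
      exact ⟨j, Finset.mem_univ _, Subtype.ext hj⟩
  rw [h1, ← Finset.sum_add_distrib]
  refine Finset.sum_congr rfl fun x _ => ?_
  split_ifs <;> simp

/-- elements of `N` outside `⟨x0⟩` have order prime to `p` -/
theorem pregular (h : SC G p x0 a Y ε e n) {y : G} (hy : y ∈ NN x0)
    (hyp : y ∉ Subgroup.zpowers x0) : ¬ p ∣ orderOf y := by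
  intro hdvd
  obtain ⟨m, hm⟩ := hdvd
  have hfin : 0 < orderOf y := orderOf_pos y
  have hm0 : m ≠ 0 := by rintro rfl; rw [mul_zero] at hm; omega
  have ho : orderOf (y ^ m) = p := by
    rw [orderOf_pow_of_dvd hm0 ⟨p, by rw [hm, mul_comm]⟩, hm,
      Nat.mul_div_cancel _ (Nat.pos_of_ne_zero hm0)]
  -- `y ^ m` lies in the Sylow subgroup
  have hN : ((Subgroup.zpowers x0).subgroupOf (NN x0)).Normal := by
    exact Subgroup.normal_in_normalizer
  have hle : Subgroup.zpowers x0 ≤ NN x0 := Subgroup.le_normalizer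
  have hidx : ¬ p ∣ ((Subgroup.zpowers x0).subgroupOf (NN x0)).index := by
    intro hd
    apply h.hidx
    exact hd.trans (Subgroup.relIndex_dvd_index_of_le hle)
  have hmem : y ^ m ∈ Subgroup.zpowers x0 := by
    set q : NN x0 ⧸ (Subgroup.zpowers x0).subgroupOf (NN x0) :=
      QuotientGroup.mk (⟨y ^ m, (NN x0).pow_mem hy m⟩ : NN x0) with hq
    have h1 : orderOf q ∣ p := by
      rw [← ho]
      apply orderOf_dvd_of_pow_eq_one
      rw [hq, ← QuotientGroup.mk_pow]
      have : (⟨y ^ m, (NN x0).pow_mem hy m⟩ : NN x0) ^ orderOf (y ^ m) = 1 := by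
        apply Subtype.ext
        simpa using pow_orderOf_eq_one (y ^ m)
      rw [this]
      rfl
    have h2 : orderOf q ∣ ((Subgroup.zpowers x0).subgroupOf (NN x0)).index := by
      rw [Subgroup.index_eq_card]
      exact orderOf_dvd_natCard q
    have h3 : orderOf q = 1 := by
      rcases (Nat.dvd_prime hp.out).1 h1 with h3 | h3
      · exact h3
      · rw [h3] at h2; exact absurd h2 hidx
    rw [orderOf_eq_one_iff, hq, QuotientGroup.eq_one_iff, Subgroup.mem_subgroupOf] at h3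
    exact h3
  obtain ⟨j, hj⟩ := mem_zpowers_pw h.hx0 hmem
  have hj0 : j ≠ 0 := by
    rintro rfl
    rw [pw_zero] at hj
    rw [← hj, orderOf_one] at ho
    exact hp.out.one_lt.ne ho
  apply hyp
  rw [← centralizer_pw_eq h.hx0 h.hcen hj0, Subgroup.mem_centralizer_singleton_iff, hj]
  exact (Commute.refl y).pow_right m

theorem index_NN (h : SC G p x0 a Y ε e n) : (NN x0).index = 1 + n * p := by
  have h1 := (NN x0).card_mul_index
  rw [h.hcardN, h.hcard] at h1
  have h2 : 0 < p * e := by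
    rw [← h.hcardN]
    exact Nat.card_pos
  exact Nat.eq_of_mul_eq_mul_left h2 h1

theorem r_Y_const (h : SC G p x0 a Y ε e n) [Fintype (NN x0)] {χ θ : IrrCharacter G} (hχ : χ ∈ Y)
    (hθ : θ ∈ Y) (h1 : (χ : G → ℂ) 1 = (θ : G → ℂ) 1) :
    classInner (fun x : NN x0 => (χ : G → ℂ) x) (fun _ => 1) =
      classInner (fun x : NN x0 => (θ : G → ℂ) x) (fun _ => 1) := by
  classical
  have hε0 : (ε : ℂ) ≠ 0 := by
    rcases h.hε with h0 | h0 <;> rw [h0] <;> simp
  rw [classInner, classInner]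
  congr 1
  simp only [map_one, mul_one]
  rw [sum_NN h.hx0 (χ : G → ℂ), sum_NN h.hx0 (θ : G → ℂ)]
  congr 1
  · rw [← Finset.add_sum_erase _ _ (Finset.mem_univ (0 : ZMod p)),
      ← Finset.add_sum_erase _ _ (Finset.mem_univ (0 : ZMod p)), h.hYsum χ hχ, h.hYsum θ hθ,
      pw_zero, h1]
  · refine Finset.sum_congr rfl fun x _ => ?_
    by_cases hx : (x : G) ∈ Subgroup.zpowers x0
    · rw [if_pos hx, if_pos hx]
    · rw [if_neg hx, if_neg hx]
      apply mul_left_cancel₀ hε0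
      rw [h.hrel χ hχ _ (pregular h x.2 hx), h.hrel θ hθ _ (pregular h x.2 hx)]

theorem mult_data (D : Dat G p x0 a Y ε e n s w) [Fintype (NN x0)] :
    (∀ χ ∈ Zs a Y, ∀ d ∈ NN x0, d ∉ Subgroup.zpowers x0 → (χ : G → ℂ) d = w χ) ∧
    (∀ χ ∈ Zs a Y, classInner (fun x : NN x0 => (χ : G → ℂ) x) (fun _ => 1) = w χ) ∧
    (∀ χ ∉ Zs a Y, χ ≠ triv G →
      classInner (fun x : NN x0 => (χ : G → ℂ) x) (fun _ => 1) = 0) ∧
    (∀ d ∈ NN x0, d ∉ Subgroup.zpowers x0 → indFun (NN x0) (fun _ => 1) d = n + 1) := by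
  classical
  have h := D.toSC
  have hp1 := hp.out.one_lt
  have hnat : ∀ χ : IrrCharacter G, ∃ m : ℕ,
      classInner (fun x : NN x0 => (χ : G → ℂ) x) (fun _ => 1) = m := fun χ =>
    inner_char_natCast (isCharacter_restrict _ (isCharacter_of_isIrr χ.2)) isCharacter_one
  choose r hr using hnat
  have hf : ∀ χ : IrrCharacter G, ∃ f : NN x0 → ℂ, IsCharacter (NN x0) f ∧
      (∀ x : NN x0, (x : G) ∉ Subgroup.zpowers x0 → (χ : G → ℂ) x = f x) ∧
      f 1 = w χ ∧ classInner f (fun _ => 1) = r χ := by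
    intro χ
    obtain ⟨f, h1, h2, h3, h4⟩ := exists_res h (isCharacter_of_isIrr χ.2)
    exact ⟨f, h1, h2, h3.trans (D.hw χ), h4.trans (hr χ)⟩
  choose f hf1 hf2 hf3 hf4 using hf
  have hle : ∀ χ, r χ ≤ w χ := fun χ => inner_one_le (hf1 χ) (hf4 χ) (hf3 χ)
  have hrt : r (triv G) = 1 := by
    have h1 := hr (triv G)
    have h2 : (fun x : NN x0 => ((triv G : IrrCharacter G) : G → ℂ) x) = fun _ => 1 := by
      ext x; simp
    rw [h2, inner_irr_self isIrrCharacter_one] at h1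
    exact_mod_cast h1.symm
  -- expansion
  have hexp : ∀ g : G, indFun (NN x0) (fun _ => 1) g = ∑ χ : IrrCharacter G, (r χ : ℂ) * (χ : G → ℂ) g := by
    intro g
    have h1 := mem_classFun_expand (isClassFunction_indFun (NN x0) (fun _ => (1 : ℂ)))
    conv_lhs => rw [h1]
    rw [Finset.sum_apply]
    refine Finset.sum_congr rfl fun χ _ => ?_
    rw [Pi.smul_apply, smul_eq_mul]
    congr 1
    rw [← H18.CharOrtho.inner_conj_symm, frobenius' (NN x0) _ (isClassFunction_of_isIrr χ.2), hr,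
      Complex.conj_natCast]
  have hdt : charDegree ((triv G : IrrCharacter G) : G → ℂ) = 1 := by
    apply H82.Deg.charDegree_eq_of
    simp
  have hdeg : 1 + n * p = ∑ χ : IrrCharacter G, r χ * charDegree (χ : G → ℂ) := by
    have h1 := hexp 1
    rw [indFun_one, index_NN h, mul_one] at h1
    have h2 : ((1 + n * p : ℕ) : ℂ) = ((∑ χ : IrrCharacter G, r χ * charDegree (χ : G → ℂ) : ℕ) : ℂ) := by
      rw [h1, Nat.cast_sum]
      refine Finset.sum_congr rfl fun χ _ => ?_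
      rw [Nat.cast_mul, H82.Deg.coe_charDegree']
    exact_mod_cast h2
  rw [sum_split h.ha h.hYa h.htriv, hrt, hdt] at hdeg
  -- positive characters
  have hAp : ∀ χ ∈ Ap a, r χ = 0 := by
    intro χ hχ
    by_contra hcon
    have h1 : r χ * charDegree (χ : G → ℂ) ≤ ∑ χ ∈ Ap a, r χ * charDegree (χ : G → ℂ) :=
      Finset.single_le_sum (f := fun χ : IrrCharacter G => r χ * charDegree (χ : G → ℂ))
        (fun _ _ => Nat.zero_le _) hχ
    rw [(D.hAp χ hχ).1] at h1
    have h2 : 1 * (1 + n * p) ≤ r χ * (1 + n * p) := Nat.mul_le_mul_right _ (by omega)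
    omega
  have hAm : ∀ χ ∈ Am a, r χ = 0 := by
    intro χ hχ
    have := hle χ
    rw [(D.hAm χ hχ).2.1] at this
    omega
  have hY : ∀ χ ∈ Y, r χ = 0 := by
    rcases D.hcase with ⟨-, h1, -⟩ | ⟨-, v, h1, h2, h3⟩
    · intro χ hχ
      have := hle χ
      rw [(h1 χ hχ).2] at this
      omega
    · intro χ hχ
      have h4 : ∀ θ ∈ Y, r θ = r χ := by
        intro θ hθ
        have h5 := r_Y_const h hθ hχ (by
          rw [← H82.Deg.coe_charDegree', ← H82.Deg.coe_charDegree']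
          have h6 := (h3 θ hθ).1
          have h7 := (h3 χ hχ).1
          have : charDegree (θ : G → ℂ) = charDegree (χ : G → ℂ) := by omega
          rw [this])
        rw [hr, hr] at h5
        exact_mod_cast h5
      have h5 : ∑ θ ∈ Y, r θ * charDegree (θ : G → ℂ) = s * (r χ * charDegree (χ : G → ℂ)) := by
        rw [← D.hcY, ← smul_eq_mul, ← Finset.sum_const]
        refine Finset.sum_congr rfl fun θ hθ => ?_
        have h6 := (h3 θ hθ).1
        have h7 := (h3 χ hχ).1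
        have : charDegree (θ : G → ℂ) = charDegree (χ : G → ℂ) := by omega
        rw [this, h4 θ hθ]
      have h6 : s * charDegree (χ : G → ℂ) = n * p + 1 := by
        have h7 := (h3 χ hχ).1
        have h8 := D.hes
        have h9 : s * charDegree (χ : G → ℂ) + e * s = p * (v * s) := by
          calc _ = s * (charDegree (χ : G → ℂ) + e) := by ring
            _ = _ := by rw [h7]; ring
        rw [h1] at h9
        have h10 : p * (n + 1) = n * p + p := by ring
        omega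
      by_contra hcon
      have h7 : s * (r χ * charDegree (χ : G → ℂ)) = r χ * (n * p + 1) := by
        rw [← h6]; ring
      have h8 : 1 * (n * p + 1) ≤ r χ * (n * p + 1) := Nat.mul_le_mul_right _ (by omega)
      rw [h5, h7] at hdeg
      omega
  have e1 : ∑ χ ∈ Ap a, r χ * charDegree (χ : G → ℂ) = 0 :=
    Finset.sum_eq_zero fun χ hχ => by rw [hAp χ hχ, zero_mul]
  have e2 : ∑ χ ∈ Am a, r χ * charDegree (χ : G → ℂ) = 0 :=
    Finset.sum_eq_zero fun χ hχ => by rw [hAm χ hχ, zero_mul]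
  have e3 : ∑ χ ∈ Y, r χ * charDegree (χ : G → ℂ) = 0 :=
    Finset.sum_eq_zero fun χ hχ => by rw [hY χ hχ, zero_mul]
  have e4 : ∑ χ ∈ Zs a Y, r χ * charDegree (χ : G → ℂ) = p * ∑ χ ∈ Zs a Y, r χ * w χ := by
    rw [Finset.mul_sum]
    refine Finset.sum_congr rfl fun χ hχ => ?_
    rw [D.hZs χ hχ]
    ring
  rw [e1, e2, e3, e4] at hdeg
  have e5 : ∑ χ ∈ Zs a Y, r χ * w χ = ∑ χ ∈ Zs a Y, w χ ^ 2 := by
    rw [D.hsq]
    have : p * ∑ χ ∈ Zs a Y, r χ * w χ = p * n := by
      rw [mul_comm p n]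
      omega
    exact Nat.eq_of_mul_eq_mul_left hp.out.pos this
  have hZ : ∀ χ ∈ Zs a Y, r χ = w χ := by
    have h1 := (Finset.sum_eq_sum_iff_of_le (fun χ (_ : χ ∈ Zs a Y) => by
      have := hle χ
      rw [sq]
      exact Nat.mul_le_mul_right _ this)).1 e5
    intro χ hχ
    have h2 := h1 χ hχ
    have h3 : 0 < w χ := by
      have h4 := H82.Deg.charDegree_pos χ
      rw [D.hZs χ hχ] at h4
      exact Nat.pos_of_mul_pos_left h4
    rw [sq] at h2
    exact Nat.eq_of_mul_eq_mul_right h3 h2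
  have hZd : ∀ χ ∈ Zs a Y, ∀ d ∈ NN x0, d ∉ Subgroup.zpowers x0 → (χ : G → ℂ) d = w χ := by
    intro χ hχ d hd hdx
    have h1 := H21.FrobRes.const_of_inner (hf1 χ) (by rw [hf4, hf3, hZ χ hχ]) ⟨d, hd⟩
    have h2 := hf2 χ ⟨d, hd⟩ hdx
    rw [h1, hf3] at h2
    exact h2
  have hother : ∀ χ ∉ Zs a Y, χ ≠ triv G → r χ = 0 := by
    intro χ hχ hχt
    rcases h.ha χ with h0 | h0 | h0
    · by_cases hχY : χ ∈ Y
      · exact hY χ hχY
      · exact absurd (mem_Zs.2 ⟨h0, hχY⟩) hχ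
    · exact hAp χ (mem_Ap.2 ⟨h0, hχt⟩)
    · exact hAm χ (mem_Am.2 h0)
  refine ⟨hZd, fun χ hχ => by rw [hr, hZ χ hχ], fun χ hχ hχt => by
    rw [hr, hother χ hχ hχt, Nat.cast_zero], ?_⟩
  intro d hd hdx
  rw [hexp, sum_split h.ha h.hYa h.htriv, hrt]
  have f1 : ∑ χ ∈ Ap a, (r χ : ℂ) * (χ : G → ℂ) d = 0 :=
    Finset.sum_eq_zero fun χ hχ => by rw [hAp χ hχ, Nat.cast_zero, zero_mul]
  have f2 : ∑ χ ∈ Am a, (r χ : ℂ) * (χ : G → ℂ) d = 0 :=
    Finset.sum_eq_zero fun χ hχ => by rw [hAm χ hχ, Nat.cast_zero, zero_mul]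
  have f3 : ∑ χ ∈ Y, (r χ : ℂ) * (χ : G → ℂ) d = 0 :=
    Finset.sum_eq_zero fun χ hχ => by rw [hY χ hχ, Nat.cast_zero, zero_mul]
  have f4 : ∑ χ ∈ Zs a Y, (r χ : ℂ) * (χ : G → ℂ) d = n := by
    have h1 : (n : ℂ) = ((∑ χ ∈ Zs a Y, w χ ^ 2 : ℕ) : ℂ) := by rw [D.hsq]
    rw [h1, Nat.cast_sum]
    refine Finset.sum_congr rfl fun χ hχ => ?_
    rw [hZd χ hχ d hd hdx, hZ χ hχ]
    push_cast
    ring
  have f5 : ((triv G : IrrCharacter G) : G → ℂ) d = 1 := by simp
  rw [f1, f2, f3, f4, f5]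
  push_cast
  ring

end H21.SelfC
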