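import Cfsg.Agent.Lib.H21.SC5
import Cfsg.Agent.Lib.H21.PrimeCent
import Cfsg.Agent.Lib.H1.SZ

/-!
Simple groups with a self-centralizing subgroup of prime order: the action on the Sylow subgroups.
-/

set_option autoImplicit false
set_option linter.unusedSectionVars false

namespace H21.SelfC

open Cfsg H18.CharBasic H18.CharOrtho H18.CharInd H21.PLat

universe u

/-- group theoretic data -/
structure Fr (G : Type u) [Group G] (p : ℕ) [Fact p.Prime] (e n : ℕ) : Prop where
  he : 2 ≤ e
  hn : 1 ≤ n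
  card_G : Nat.card G = p * e * (1 + n * p)
  card_syl : Nat.card (Sylow p G) = 1 + n * p
  card_P : ∀ Q : Sylow p G, Nat.card Q = p
  cen : ∀ Q : Sylow p G, ∀ x ∈ Q, x ≠ 1 → Subgroup.centralizer {x} ≤ (Q : Subgroup G)
  card_N : ∀ Q : Sylow p G, Nat.card (MulAction.stabilizer G Q) = p * e
  fix : ∀ Q : Sylow p G, ∀ d ∈ MulAction.stabilizer G Q, d ∉ Q →
    Nat.card {R : Sylow p G // d • R = R} = n + 1

variable {G : Type u} [Group G]  {p : ℕ} [hp : Fact p.Prime] {e n : ℕ}

/-- two-point stabilizer -/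
abbrev S2 (Q R : Sylow p G) : Subgroup G := MulAction.stabilizer G Q ⊓ MulAction.stabilizer G R

theorem le_stab (Q : Sylow p G) : (Q : Subgroup G) ≤ MulAction.stabilizer G Q := by
  rw [Sylow.stabilizer_eq_normalizer]
  exact Subgroup.le_normalizer

theorem cardSum [Fintype G] (H : Subgroup G) [DecidablePred (· ∈ H)] :
    (Nat.card H : ℤ) = ∑ g : G, if g ∈ H then 1 else 0 := by
  rw [Finset.sum_boole, ← Fintype.card_subtype, Nat.card_eq_fintype_card]

section pure

variable [Finite G] (F : Fr G p e n)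

include F

theorem Fr.zpowers_eq {Q : Sylow p G} {x : G} (hx : x ∈ Q) (hx1 : x ≠ 1) :
    Subgroup.zpowers x = (Q : Subgroup G) := by
  have hle : Subgroup.zpowers x ≤ (Q : Subgroup G) := (Subgroup.zpowers_le).2 hx
  apply Subgroup.eq_of_le_of_card_ge hle
  have h1 : orderOf x ∣ p := by
    have h2 := Subgroup.card_dvd_of_le hle
    rw [Nat.card_zpowers] at h2
    have h3 := F.card_P Q
    rwa [h3] at h2
  have h2 : orderOf x = p := by
    rcases (Nat.dvd_prime hp.out).1 h1 with h2 | h2
    · rw [orderOf_eq_one_iff] at h2; exact absurd h2 hx1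
    · exact h2
  rw [Nat.card_zpowers, h2]
  exact (F.card_P Q).le

/-- an element of order `p` fixes only one Sylow subgroup -/
theorem Fr.eq_of_smul {Q R : Sylow p G} {x : G} (hx : x ∈ Q) (hx1 : x ≠ 1) (hR : x • R = R) :
    R = Q := by
  have hpg : IsPGroup p (Subgroup.zpowers x) := by
    rw [F.zpowers_eq hx hx1]
    exact Q.isPGroup'
  have h1 := hpg.inf_normalizer_sylow R
  have h2 : x ∈ Subgroup.zpowers x ⊓ Subgroup.normalizer (R : Set G) := by
    refine ⟨Subgroup.mem_zpowers x, ?_⟩
    have : x ∈ MulAction.stabilizer G R := hR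
    rw [Sylow.stabilizer_eq_normalizer] at this
    exact this
  rw [h1] at h2
  have h3 := F.zpowers_eq h2.2 hx1
  rw [F.zpowers_eq hx hx1] at h3
  exact Sylow.ext h3.symm

theorem Fr.card_le_of_disj {Q : Sylow p G} {H : Subgroup G} (hH : H ≤ MulAction.stabilizer G Q)
    (hd : ∀ x ∈ H, x ∈ Q → x = 1) : Nat.card H ≤ e := by
  have hdis : Disjoint H (Q : Subgroup G) := by
    rw [Subgroup.disjoint_def]
    intro x hx hx'
    exact hd x hx hx'
  have hinj := Subgroup.mul_injective_of_disjoint hdis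
  let f : H × (Q : Subgroup G) → MulAction.stabilizer G Q := fun g =>
    ⟨g.1 * g.2, mul_mem (hH g.1.2) (le_stab Q g.2.2)⟩
  have hf : Function.Injective f := by
    intro a b hab
    exact hinj (congrArg Subtype.val hab)
  have h1 := Nat.card_le_card_of_injective f hf
  rw [Nat.card_prod, F.card_N] at h1
  have h2 := F.card_P Q
  rw [h2, mul_comm] at h1
  exact Nat.le_of_mul_le_mul_left h1 hp.out.pos

theorem Fr.S2_disj {Q R : Sylow p G} (hQR : Q ≠ R) : ∀ x ∈ S2 Q R, x ∈ Q → x = 1 := by
  intro x hx hxQ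
  by_contra hx1
  exact hQR (F.eq_of_smul hxQ hx1 hx.2).symm

theorem Fr.card_S2_le {Q R : Sylow p G} (hQR : Q ≠ R) : Nat.card (S2 Q R) ≤ e :=
  F.card_le_of_disj inf_le_left (F.S2_disj hQR)

theorem Fr.card_S2 {Q R : Sylow p G} (hQR : Q ≠ R) : Nat.card (S2 Q R) = e := by
  classical
  let _ : Fintype G := Fintype.ofFinite G
  let _ : Fintype (Sylow p G) := Fintype.ofFinite _
  -- pointwise formula
  have key : ∀ g : G, (∑ R' : Sylow p G, if g ∈ S2 Q R' then (1 : ℤ) else 0) =
      (n + 1) * (if g ∈ MulAction.stabilizer G Q then 1 else 0) -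
        n * (if g ∈ (Q : Subgroup G) then 1 else 0) + n * p * (if g ∈ (⊥ : Subgroup G) then 1 else 0) := by
    intro g
    by_cases hg : g ∈ MulAction.stabilizer G Q
    · have h1 : (∑ R' : Sylow p G, if g ∈ S2 Q R' then (1 : ℤ) else 0) =
          Nat.card {R' : Sylow p G // g • R' = R'} := by
        rw [Finset.sum_boole, Nat.card_eq_fintype_card, Fintype.card_subtype]
        congr 2
        ext R'
        simp only [Finset.mem_filter, Finset.mem_univ, true_and, Subgroup.mem_inf]
        exact ⟨fun h => h.2, fun h => ⟨hg, h⟩⟩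
      rw [h1, if_pos hg]
      by_cases hgQ : g ∈ (Q : Subgroup G)
      · rw [if_pos hgQ]
        by_cases hg1 : g = 1
        · rw [if_pos (by rw [Subgroup.mem_bot]; exact hg1)]
          have h2 : Nat.card {R' : Sylow p G // g • R' = R'} = 1 + n * p := by
            rw [← F.card_syl]
            refine Nat.card_congr (Equiv.subtypeUnivEquiv fun R' => ?_)
            rw [hg1, one_smul]
          rw [h2]
          push_cast
          ring
        · rw [if_neg (by rw [Subgroup.mem_bot]; exact hg1)]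
          have h2 : Nat.card {R' : Sylow p G // g • R' = R'} = 1 := by
            rw [Nat.card_eq_one_iff_unique]
            refine ⟨⟨fun a b => ?_⟩, ⟨⟨Q, hg⟩⟩⟩
            apply Subtype.ext
            rw [F.eq_of_smul hgQ hg1 a.2, F.eq_of_smul hgQ hg1 b.2]
          rw [h2]
          push_cast
          ring
      · rw [if_neg hgQ, if_neg (by rw [Subgroup.mem_bot]; rintro rfl; exact hgQ (one_mem _)),
          F.fix Q g hg hgQ]
        push_cast
        ring
    · rw [if_neg hg, if_neg (fun h => hg (le_stab Q h)),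
        if_neg (by rw [Subgroup.mem_bot]; rintro rfl; exact hg (one_mem _))]
      rw [Finset.sum_eq_zero]
      · ring
      · intro R' _
        rw [if_neg (fun h => hg h.1)]
  have hsum : ∑ R' : Sylow p G, (Nat.card (S2 Q R') : ℤ) = (n + 1) * (p * e) := by
    simp_rw [cardSum]
    rw [Finset.sum_comm]
    simp_rw [key]
    rw [Finset.sum_add_distrib, Finset.sum_sub_distrib, ← Finset.mul_sum, ← Finset.mul_sum,
      ← Finset.mul_sum, ← cardSum, ← cardSum, ← cardSum, F.card_N]
    have h1 : Nat.card (Q : Subgroup G) = p := F.card_P Q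
    rw [h1, Subgroup.card_bot]
    push_cast
    ring
  have hQQ : Nat.card (S2 Q Q) = p * e := by
    rw [← F.card_N Q]
    congr 1
    simp [S2]
  rw [← Finset.add_sum_erase _ _ (Finset.mem_univ Q), hQQ] at hsum
  have hcardE : (Finset.univ.erase Q).card = n * p := by
    rw [Finset.card_erase_of_mem (Finset.mem_univ _), Finset.card_univ, ← Nat.card_eq_fintype_card,
      F.card_syl]
    omega
  have hsum2 : ∑ R' ∈ Finset.univ.erase Q, Nat.card (S2 Q R') =
      ∑ _R' ∈ Finset.univ.erase Q, e := by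
    rw [Finset.sum_const, hcardE, smul_eq_mul]
    have h2 : ((∑ R' ∈ Finset.univ.erase Q, Nat.card (S2 Q R') : ℕ) : ℤ) = ((n * p * e : ℕ) : ℤ) := by
      push_cast
      push_cast at hsum
      linarith
    exact_mod_cast h2
  have h3 := (Finset.sum_eq_sum_iff_of_le (fun R' hR' =>
    F.card_S2_le (Finset.ne_of_mem_erase hR').symm)).1 hsum2
  exact h3 R (Finset.mem_erase.2 ⟨hQR.symm, Finset.mem_univ _⟩)

theorem Fr.exists_gen (Q : Sylow p G) : ∃ x : G, orderOf x = p ∧ Subgroup.zpowers x = (Q : Subgroup G) := by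
  have h1 : 1 < Nat.card (Q : Subgroup G) := by
    have : Nat.card (Q : Subgroup G) = p := F.card_P Q
    rw [this]; exact hp.out.one_lt
  obtain ⟨x, hx1⟩ := (Subgroup.ne_bot_iff_exists_ne_one).1 ((Subgroup.one_lt_card_iff_ne_bot _).1 h1)
  have h2 := F.zpowers_eq x.2 (fun h => hx1 (Subtype.ext h))
  refine ⟨x, ?_, h2⟩
  rw [← Nat.card_zpowers, h2]
  exact F.card_P Q

end pure

end H21.SelfC
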