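import Cfsg.Agent.Lib.H21.SC6

/-!
Simple groups with a self-centralizing subgroup of prime order: two-point stabilizers.
-/

set_option autoImplicit false
set_option linter.unusedSectionVars false

namespace H21.SelfC

open Cfsg H21.PLat
open scoped Pointwise

universe u

variable {G : Type u} [Group G]  {p : ℕ} [hp : Fact p.Prime] {e n : ℕ} [Finite G]

theorem smul_S2 (g : G) (Q R : Sylow p G) : MulAut.conj g • S2 Q R = S2 (g • Q) (g • R) := by
  rw [Subgroup.smul_inf]
  congr 1
  · rw [MulAction.stabilizer_smul_eq_stabilizer_map_conj]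
    rfl
  · rw [MulAction.stabilizer_smul_eq_stabilizer_map_conj]
    rfl

variable (F : Fr G p e n)

include F

theorem Fr.cyclic_S2 {Q R : Sylow p G} (hQR : Q ≠ R) : IsCyclic (S2 Q R) := by
  obtain ⟨x, hx, hxQ⟩ := F.exists_gen Q
  have hle : S2 Q R ≤ Subgroup.normalizer (Subgroup.zpowers x : Set G) := by
    rw [hxQ]
    exact inf_le_left.trans (Sylow.stabilizer_eq_normalizer Q).le
  let f : S2 Q R →* (ZMod p)ˣ := (psi hx).comp (Subgroup.inclusion hle)
  have hf : Function.Injective f := by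
    rw [injective_iff_map_eq_one]
    intro d hd
    have h1 : Subgroup.inclusion hle d ∈ (psi hx).ker := hd
    rw [psi_ker, Subgroup.mem_subgroupOf] at h1
    have h2 : (d : G) ∈ Subgroup.centralizer ({x} : Set G) := by
      rw [Subgroup.mem_centralizer_iff] at h1
      rw [Subgroup.mem_centralizer_singleton_iff]
      exact (h1 x (Subgroup.mem_zpowers x)).symm
    have hxm : x ∈ Q := by
      have : x ∈ (Q : Subgroup G) := by rw [← hxQ]; exact Subgroup.mem_zpowers x
      exact this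
    have hx1 : x ≠ 1 := by
      rintro rfl
      rw [orderOf_one] at hx
      exact hp.out.one_lt.ne hx
    have h3 := F.cen Q x hxm hx1 h2
    exact Subtype.ext (F.S2_disj hQR d d.2 h3)
  exact isCyclic_of_injective f hf

theorem Fr.S2_comm {Q R : Sylow p G} (hQR : Q ≠ R) {a b : G} (ha : a ∈ S2 Q R) (hb : b ∈ S2 Q R) :
    a * b = b * a := by
  have h := F.cyclic_S2 hQR
  obtain ⟨g, hg⟩ := h.exists_generator
  have h1 : (⟨a, ha⟩ : S2 Q R) * ⟨b, hb⟩ = ⟨b, hb⟩ * ⟨a, ha⟩ := by
    obtain ⟨i, hi⟩ := hg ⟨a, ha⟩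
    obtain ⟨j, hj⟩ := hg ⟨b, hb⟩
    simp only at hi hj
    rw [← hi, ← hj, ← zpow_add, ← zpow_add, add_comm]
  exact congrArg Subtype.val h1

theorem Fr.S2_eq_cen {Q R : Sylow p G} (hQR : Q ≠ R) {d : G} (hd : d ∈ S2 Q R) (hd1 : d ≠ 1) :
    S2 Q R = MulAction.stabilizer G Q ⊓ Subgroup.centralizer {d} := by
  have hle : S2 Q R ≤ MulAction.stabilizer G Q ⊓ Subgroup.centralizer {d} := by
    intro x hx
    refine ⟨hx.1, ?_⟩
    exact Subgroup.mem_centralizer_singleton_iff.2 (F.S2_comm hQR hx hd)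
  apply Subgroup.eq_of_le_of_card_ge hle
  rw [F.card_S2 hQR]
  apply F.card_le_of_disj inf_le_left
  intro x hx hxQ
  by_contra hx1
  apply hd1
  apply F.S2_disj hQR d hd
  apply F.cen Q x hxQ hx1
  rw [Subgroup.mem_centralizer_singleton_iff]
  exact ((Subgroup.mem_centralizer_singleton_iff).1 hx.2).symm

theorem Fr.S2_eq_of_mem {Q R R' : Sylow p G} (hQR : Q ≠ R) (hQR' : Q ≠ R') {d : G}
    (hd : d ∈ S2 Q R) (hd1 : d ≠ 1) (hd' : d • R' = R') : S2 Q R' = S2 Q R := by
  rw [F.S2_eq_cen hQR hd hd1, F.S2_eq_cen hQR' ⟨hd.1, hd'⟩ hd1]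

/-- elements of the two-point stabilizer fix the same points as the whole two-point stabilizer -/
theorem Fr.le_stab_of_fix {Q R R' : Sylow p G} (hQR : Q ≠ R) {d : G}
    (hd : d ∈ S2 Q R) (hd1 : d ≠ 1) (hd' : d • R' = R') : S2 Q R ≤ MulAction.stabilizer G R' := by
  by_cases h : Q = R'
  · rw [← h]; exact inf_le_left
  · rw [← F.S2_eq_of_mem hQR h hd hd1 hd']
    exact inf_le_right

theorem Fr.S2_eq_of_le {Q R Q' R' : Sylow p G} (hQR : Q ≠ R) (hQR' : Q' ≠ R')
    (h : S2 Q R ≤ S2 Q' R') : S2 Q R = S2 Q' R' := by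
  apply Subgroup.eq_of_le_of_card_ge h
  rw [F.card_S2 hQR, F.card_S2 hQR']

theorem Fr.exists_ne_one {Q R : Sylow p G} (hQR : Q ≠ R) : ∃ d ∈ S2 Q R, d ≠ 1 := by
  have h1 : 1 < Nat.card (S2 Q R) := by
    rw [F.card_S2 hQR]
    have := F.he
    omega
  obtain ⟨x, hx1⟩ := (Subgroup.ne_bot_iff_exists_ne_one).1 ((Subgroup.one_lt_card_iff_ne_bot _).1 h1)
  exact ⟨x, x.2, fun h => hx1 (Subtype.ext h)⟩

/-- number of fixed points of the two-point stabilizer -/
theorem Fr.card_fix {Q R : Sylow p G} (hQR : Q ≠ R) :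
    Nat.card {R' : Sylow p G // S2 Q R ≤ MulAction.stabilizer G R'} = n + 1 := by
  obtain ⟨d, hd, hd1⟩ := F.exists_ne_one hQR
  rw [← F.fix Q d hd.1 (fun h => hd1 (F.S2_disj hQR d hd h))]
  refine Nat.card_congr (Equiv.subtypeEquivRight fun R' => ?_)
  exact ⟨fun h => h hd, fun h => F.le_stab_of_fix hQR hd hd1 h⟩

theorem Fr.isComplement {Q R : Sylow p G} (hQR : Q ≠ R) :
    Subgroup.IsComplement' ((Q : Subgroup G).subgroupOf (MulAction.stabilizer G Q))
      ((S2 Q R).subgroupOf (MulAction.stabilizer G Q)) := by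
  apply Subgroup.isComplement'_of_card_mul_and_disjoint
  · rw [Nat.card_congr (Subgroup.subgroupOfEquivOfLe (le_stab Q)).toEquiv,
      Nat.card_congr (Subgroup.subgroupOfEquivOfLe (inf_le_left : S2 Q R ≤ _)).toEquiv,
      F.card_S2 hQR, F.card_N]
    have h1 : Nat.card (Q : Subgroup G) = p := F.card_P Q
    rw [h1]
  · rw [Subgroup.disjoint_def]
    intro x hx hx'
    exact Subtype.ext (F.S2_disj hQR x hx' hx)

/-- two-point stabilizers inside a point stabilizer are conjugate -/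
theorem Fr.conj_S2 {Q R R' : Sylow p G} (hQR : Q ≠ R) (hQR' : Q ≠ R') :
    ∃ g ∈ (Q : Subgroup G), MulAut.conj g • S2 Q R = S2 Q R' := by
  have hN : ((Q : Subgroup G).subgroupOf (MulAction.stabilizer G Q)).Normal := by
    rw [Sylow.stabilizer_eq_normalizer]
    exact Subgroup.normal_in_normalizer
  have hcard : Nat.card ((Q : Subgroup G).subgroupOf (MulAction.stabilizer G Q)) = p := by
    rw [Nat.card_congr (Subgroup.subgroupOfEquivOfLe (le_stab Q)).toEquiv]
    exact F.card_P Q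
  have hcomm : IsMulCommutative ((Q : Subgroup G).subgroupOf (MulAction.stabilizer G Q)) := by
    have := isCyclic_of_prime_card hcard
    infer_instance
  have hcop : (Nat.card ((Q : Subgroup G).subgroupOf (MulAction.stabilizer G Q))).Coprime
      ((Q : Subgroup G).subgroupOf (MulAction.stabilizer G Q)).index := by
    rw [hcard, Nat.Prime.coprime_iff_not_dvd hp.out]
    intro h
    have h1 := Q.not_dvd_index
    exact h1 (h.trans (Subgroup.relIndex_dvd_index_of_le (le_stab Q)))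
  obtain ⟨a, ha, hconj⟩ := H1.SZ.conj_abelian _ hcop _ _ (F.isComplement hQR) (F.isComplement hQR')
  refine ⟨a, Subgroup.mem_subgroupOf.1 ha, ?_⟩
  ext x
  constructor
  · intro hx
    rw [Subgroup.mem_pointwise_smul_iff_inv_smul_mem] at hx
    have hxN : x ∈ MulAction.stabilizer G Q := by
      have h1 := hx.1
      have h2 : (a : G) * ((MulAut.conj (a : G))⁻¹ • x) * (a : G)⁻¹ = x := by
        simp [MulAut.smul_def, mul_assoc]
      rw [← h2]
      exact mul_mem (mul_mem a.2 h1) (inv_mem a.2)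
    have h3 : (⟨x, hxN⟩ : MulAction.stabilizer G Q) ∈ (S2 Q R').subgroupOf (MulAction.stabilizer G Q) := by
      rw [← hconj, Subgroup.mem_pointwise_smul_iff_inv_smul_mem, Subgroup.mem_subgroupOf]
      exact hx
    exact Subgroup.mem_subgroupOf.1 h3
  · intro hx
    have h3 : (⟨x, hx.1⟩ : MulAction.stabilizer G Q) ∈ (S2 Q R').subgroupOf (MulAction.stabilizer G Q) :=
      Subgroup.mem_subgroupOf.2 hx
    rw [← hconj, Subgroup.mem_pointwise_smul_iff_inv_smul_mem, Subgroup.mem_subgroupOf] at h3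
    rw [Subgroup.mem_pointwise_smul_iff_inv_smul_mem]
    exact h3

/-- the fixed points of a two-point stabilizer -/
abbrev FixE (E : Subgroup G) : Type u := {R' : Sylow p G // E ≤ MulAction.stabilizer G R'}

end H21.SelfC
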