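import Cfsg.Agent.Lib.H21.SC7

/-!
Simple groups with a self-centralizing subgroup of prime order: normalizers of two-point
stabilizers.
-/

set_option autoImplicit false
set_option linter.unusedSectionVars false

namespace H21.SelfC

open Cfsg H21.PLat
open scoped Pointwise

universe u

variable {G : Type u} [Group G]  {p : ℕ} [hp : Fact p.Prime] {e n : ℕ}

theorem mem_normalizer_of_smul {E : Subgroup G} {m : G} (h : MulAut.conj m • E = E) :
    m ∈ Subgroup.normalizer (E : Set G) := by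
  rw [Subgroup.mem_normalizer_iff]
  intro x
  have h1 := Subgroup.smul_mem_pointwise_smul_iff (a := MulAut.conj m) (S := E) (x := x)
  rw [h] at h1
  exact h1.symm

theorem smul_of_mem_normalizer {E : Subgroup G} {m : G} (h : m ∈ Subgroup.normalizer (E : Set G)) :
    MulAut.conj m • E = E := by
  ext x
  rw [Subgroup.mem_pointwise_smul_iff_inv_smul_mem]
  have h1 := (Subgroup.mem_normalizer_iff.1 h ((MulAut.conj m)⁻¹ • x))
  rw [h1]
  have h2 : m * ((MulAut.conj m)⁻¹ • x) * m⁻¹ = x := by simp [MulAut.smul_def, mul_assoc]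
  rw [h2]

theorem smul_stab (g : G) (R : Sylow p G) :
    MulAut.conj g • MulAction.stabilizer G R = MulAction.stabilizer G (g • R) := by
  rw [MulAction.stabilizer_smul_eq_stabilizer_map_conj]
  rfl

variable [Finite G] (F : Fr G p e n)

include F

theorem Fr.exists_other {Q R : Sylow p G} (hQR : Q ≠ R) {R1 : Sylow p G}
    (h1 : S2 Q R ≤ MulAction.stabilizer G R1) : ∃ R2, R1 ≠ R2 ∧ S2 R1 R2 = S2 Q R := by
  by_cases h : R1 = Q
  · exact ⟨R, by rw [h]; exact hQR, by rw [h]⟩
  · exact ⟨Q, h, (F.S2_eq_of_le hQR h (le_inf h1 inf_le_left)).symm⟩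

theorem Fr.transitive {Q R : Sylow p G} (hQR : Q ≠ R) {R1 R2 : Sylow p G}
    (h1 : S2 Q R ≤ MulAction.stabilizer G R1) (h2 : S2 Q R ≤ MulAction.stabilizer G R2) :
    ∃ m ∈ Subgroup.normalizer (S2 Q R : Set G), m • R1 = R2 := by
  obtain ⟨g, hg⟩ := MulAction.exists_smul_eq G R1 R2
  obtain ⟨R3, h3, h3'⟩ := F.exists_other hQR h1
  obtain ⟨R4, h4, h4'⟩ := F.exists_other hQR h2
  have h5 : R2 ≠ g • R3 := by
    rw [← hg]
    intro h
    exact h3 (smul_left_cancel g h)
  obtain ⟨a, ha, hconj⟩ := F.conj_S2 h5 h4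
  refine ⟨a * g, mem_normalizer_of_smul ?_, ?_⟩
  · rw [← h3', map_mul, mul_smul, smul_S2, hg, hconj, h4', h3']
  · rw [mul_smul, hg]
    exact le_stab R2 ha

theorem Fr.card_normalizer_inf {Q R : Sylow p G} (hQR : Q ≠ R) {R1 : Sylow p G}
    (h1 : S2 Q R ≤ MulAction.stabilizer G R1) :
    MulAction.stabilizer G R1 ⊓ Subgroup.normalizer (S2 Q R : Set G) = S2 Q R := by
  symm
  apply Subgroup.eq_of_le_of_card_ge (le_inf h1 Subgroup.le_normalizer)
  rw [F.card_S2 hQR]
  apply F.card_le_of_disj (inf_le_left)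
  intro x hx hxR
  by_contra hx1
  obtain ⟨d, hd, hd1⟩ := F.exists_ne_one hQR
  obtain ⟨R3, h3, h3'⟩ := F.exists_other hQR h1
  have hxd : x * d * x⁻¹ ∈ S2 Q R := (Subgroup.mem_normalizer_iff.1 hx.2 d).1 hd
  have hc1 : x * d * x⁻¹ * d⁻¹ ∈ S2 Q R := mul_mem hxd (inv_mem hd)
  have hc2 : x * d * x⁻¹ * d⁻¹ ∈ (R1 : Subgroup G) := by
    have h4 : d ∈ MulAction.stabilizer G R1 := h1 hd
    rw [Sylow.stabilizer_eq_normalizer] at h4
    have h5 : d * x⁻¹ * d⁻¹ ∈ (R1 : Subgroup G) :=
      (Subgroup.mem_normalizer_iff.1 h4 x⁻¹).1 (inv_mem hxR)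
    have h6 : x * d * x⁻¹ * d⁻¹ = x * (d * x⁻¹ * d⁻¹) := by group
    rw [h6]
    exact mul_mem hxR h5
  rw [← h3'] at hc1
  have h7 := F.S2_disj h3 _ hc1 hc2
  have h8 : x * d = d * x := by
    rw [mul_inv_eq_one, mul_inv_eq_iff_eq_mul] at h7
    exact h7
  have h9 : d ∈ (R1 : Subgroup G) := F.cen R1 x hxR hx1
    (Subgroup.mem_centralizer_singleton_iff.2 h8.symm)
  rw [← h3'] at hd
  exact hd1 (F.S2_disj h3 d hd h9)

theorem Fr.card_normalizer {Q R : Sylow p G} (hQR : Q ≠ R) :
    Nat.card (Subgroup.normalizer (S2 Q R : Set G)) = e * (n + 1) := by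
  set M := Subgroup.normalizer (S2 Q R : Set G) with hM
  have h1 := (MulAction.stabilizer M Q).card_mul_index
  have h2 : MulAction.stabilizer M Q = (MulAction.stabilizer G Q).subgroupOf M := by
    ext x; rfl
  have h3 : Nat.card (MulAction.stabilizer M Q) = e := by
    rw [h2, ← F.card_S2 hQR, ← F.card_normalizer_inf hQR (inf_le_left : S2 Q R ≤ _)]
    rw [← Subgroup.inf_subgroupOf_right]
    exact Nat.card_congr (Subgroup.subgroupOfEquivOfLe (inf_le_right)).toEquiv
  have h4 : (MulAction.stabilizer M Q).index = n + 1 := by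
    rw [MulAction.index_stabilizer, ← F.card_fix hQR]
    have h5 : MulAction.orbit M Q = {R' : Sylow p G | S2 Q R ≤ MulAction.stabilizer G R'} := by
      ext R'
      constructor
      · rintro ⟨m, rfl⟩
        change S2 Q R ≤ MulAction.stabilizer G ((m : G) • Q)
        rw [← smul_stab, ← smul_of_mem_normalizer m.2]
        exact Subgroup.pointwise_smul_le_pointwise_smul_iff.2 inf_le_left
      · intro hR'
        obtain ⟨m, hm, hm'⟩ := F.transitive hQR (inf_le_left : S2 Q R ≤ _) hR'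
        exact ⟨⟨m, hm⟩, hm'⟩
    rw [h5]
    rfl
  rw [h3, h4] at h1
  exact h1.symm

theorem Fr.succ_dvd : n + 1 ∣ p * (1 + n * p) := by
  have hcard : 1 < Nat.card (Sylow p G) := by
    rw [F.card_syl]
    have := F.hn
    have := hp.out.pos
    have : 0 < n * p := by positivity
    omega
  have : Nontrivial (Sylow p G) := Finite.one_lt_card_iff_nontrivial.1 hcard
  obtain ⟨Q, R, hQR⟩ := exists_pair_ne (Sylow p G)
  have h1 := Subgroup.card_subgroup_dvd_card (Subgroup.normalizer (S2 Q R : Set G))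
  rw [F.card_normalizer hQR, F.card_G] at h1
  have h2 : p * e * (1 + n * p) = e * (p * (1 + n * p)) := by ring
  rw [h2] at h1
  have he := F.he
  exact Nat.dvd_of_mul_dvd_mul_left (by omega) h1

/-- `n + 1` divides `p - 1` -/
theorem Fr.succ_dvd_pred (h : n + 1 < p) : n + 1 ∣ p - 1 := by
  have h1 := F.succ_dvd
  have hcop : (n + 1).Coprime p := by
    rw [Nat.coprime_comm, Nat.Prime.coprime_iff_not_dvd hp.out]
    intro hd
    have := Nat.le_of_dvd (by omega) hd
    omega
  have h2 : n + 1 ∣ 1 + n * p := hcop.dvd_of_dvd_mul_left h1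
  have h3 : (n + 1) * p = (1 + n * p) + (p - 1) := by
    have := hp.out.pos
    have : (n + 1) * p = n * p + p := by ring
    omega
  have h4 : n + 1 ∣ (1 + n * p) + (p - 1) := by
    rw [← h3]; exact dvd_mul_right _ _
  exact (Nat.dvd_add_right h2).1 h4

theorem Fr.unique_invol {Q R : Sylow p G} (hQR : Q ≠ R) {t u : G} (ht : t ∈ S2 Q R)
    (hu : u ∈ S2 Q R) (ht2 : orderOf t = 2) (hu2 : orderOf u = 2) : u = t := by
  classical
  have hcyc := F.cyclic_S2 hQR
  let _ : Fintype (S2 Q R) := Fintype.ofFinite _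
  by_contra hne
  have h1 := IsCyclic.card_pow_eq_one_le (α := S2 Q R) (n := 2) (by norm_num)
  have h2 : ({1, ⟨t, ht⟩, ⟨u, hu⟩} : Finset (S2 Q R)) ⊆
      Finset.univ.filter (fun a : S2 Q R => a ^ 2 = 1) := by
    intro x hx
    rw [Finset.mem_filter]
    refine ⟨Finset.mem_univ _, ?_⟩
    simp only [Finset.mem_insert, Finset.mem_singleton] at hx
    rcases hx with rfl | rfl | rfl
    · simp
    · apply Subtype.ext
      have := pow_orderOf_eq_one t
      rw [ht2] at this
      simpa using this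
    · apply Subtype.ext
      have := pow_orderOf_eq_one u
      rw [hu2] at this
      simpa using this
  have ht1 : t ≠ 1 := by rintro rfl; rw [orderOf_one] at ht2; omega
  have hu1 : u ≠ 1 := by rintro rfl; rw [orderOf_one] at hu2; omega
  have h3 : ({1, ⟨t, ht⟩, ⟨u, hu⟩} : Finset (S2 Q R)).card = 3 := by
    rw [Finset.card_insert_of_notMem, Finset.card_insert_of_notMem, Finset.card_singleton]
    · rw [Finset.mem_singleton]
      intro h
      exact hne (congrArg Subtype.val h).symm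
    · simp only [Finset.mem_insert, Finset.mem_singleton, not_or]
      exact ⟨fun h => ht1 (congrArg Subtype.val h).symm, fun h => hu1 (congrArg Subtype.val h).symm⟩
  have h4 := Finset.card_le_card h2
  omega

theorem Fr.centralizer_le_normalizer {Q R : Sylow p G} (hQR : Q ≠ R) {t : G} (ht : t ∈ S2 Q R)
    (ht1 : t ≠ 1) : Subgroup.centralizer ({t} : Set G) ≤ Subgroup.normalizer (S2 Q R : Set G) := by
  intro g hg
  rw [Subgroup.mem_centralizer_singleton_iff] at hg
  have hfix : ∀ T : Sylow p G, t • T = T → S2 Q R ≤ MulAction.stabilizer G (g • T) := by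
    intro T hT
    apply F.le_stab_of_fix hQR ht ht1
    rw [← mul_smul, ← hg, mul_smul, hT]
  apply mem_normalizer_of_smul
  rw [smul_S2]
  symm
  apply F.S2_eq_of_le hQR
  · intro h
    exact hQR (smul_left_cancel g h)
  · exact le_inf (hfix Q ht.1) (hfix R ht.2)

theorem Fr.centralizer_eq_normalizer {Q R : Sylow p G} (hQR : Q ≠ R) {t : G} (ht : t ∈ S2 Q R)
    (ht2 : orderOf t = 2) :
    Subgroup.centralizer ({t} : Set G) = Subgroup.normalizer (S2 Q R : Set G) := by
  have ht1 : t ≠ 1 := by rintro rfl; rw [orderOf_one] at ht2; omega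
  apply le_antisymm (F.centralizer_le_normalizer hQR ht ht1)
  intro m hm
  have h1 : m * t * m⁻¹ ∈ S2 Q R := (Subgroup.mem_normalizer_iff.1 hm t).1 ht
  have h2 : orderOf (m * t * m⁻¹) = 2 := by
    rw [← ht2]
    exact MulEquiv.orderOf_eq (MulAut.conj m) t
  have h3 := F.unique_invol hQR ht h1 ht2 h2
  rw [Subgroup.mem_centralizer_singleton_iff]
  rw [mul_inv_eq_iff_eq_mul] at h3
  exact h3

theorem Fr.exists_pair : ∃ Q R : Sylow p G, Q ≠ R := by
  have hcard : 1 < Nat.card (Sylow p G) := by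
    rw [F.card_syl]
    have := F.hn
    have := hp.out.pos
    have : 0 < n * p := by positivity
    omega
  have : Nontrivial (Sylow p G) := Finite.one_lt_card_iff_nontrivial.1 hcard
  exact exists_pair_ne (Sylow p G)

theorem Fr.exists_invol (he : 2 ∣ e) : ∃ (Q R : Sylow p G) (_ : Q ≠ R) (t : G), t ∈ S2 Q R ∧
    orderOf t = 2 := by
  obtain ⟨Q, R, hQR⟩ := F.exists_pair
  have h1 : 2 ∣ Nat.card (S2 Q R) := by rw [F.card_S2 hQR]; exact he
  obtain ⟨t, ht⟩ := exists_prime_orderOf_dvd_card' 2 h1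
  exact ⟨Q, R, hQR, t, t.2, by rw [Subgroup.orderOf_coe]; exact ht⟩

end H21.SelfC
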