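import Cfsg.Agent.Lib.H21.SC8

/-!
Simple groups with a self-centralizing subgroup of prime order: linking the character data with the
group theoretic data.
-/

set_option autoImplicit false
set_option linter.unusedSectionVars false

namespace H21.SelfC

open Cfsg H18.CharBasic H18.CharOrtho H18.CharInd H21.PLat
open scoped Pointwise

universe u

variable {G : Type u} [Group G] [Fintype G] [Fintype (IrrCharacter G)] {p : ℕ} [hp : Fact p.Prime]
  {x0 : G} {a : IrrCharacter G → ℤ} {Y : Finset (IrrCharacter G)} {ε : ℤ} {e n s : ℕ}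
  {w : IrrCharacter G → ℕ}

theorem exists_P0 (h : SC G p x0 a Y ε e n) : ∃ P0 : Sylow p G, (P0 : Subgroup G) = Subgroup.zpowers x0 := by
  have hpg : IsPGroup p (Subgroup.zpowers x0) := by
    rw [IsPGroup.iff_card]
    exact ⟨1, by rw [card_zp h.hx0, pow_one]⟩
  obtain ⟨Q, hQ⟩ := hpg.exists_le_sylow
  exact ⟨Q, Cfsg.Agent.S0995.sylow_of_self_centralizing p x0 h.hx0 h.hcen Q
    (hQ (Subgroup.mem_zpowers x0))⟩

theorem stab_P0 {P0 : Sylow p G} (hP : (P0 : Subgroup G) = Subgroup.zpowers x0) :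
    MulAction.stabilizer G P0 = NN x0 := by
  have h1 : MulAction.stabilizer G P0 = Subgroup.normalizer ((P0 : Subgroup G) : Set G) :=
    Sylow.stabilizer_eq_normalizer P0
  rw [h1, hP]

theorem Dat.fix_eq (D : Dat G p x0 a Y ε e n s w) (d : G) :
    (Nat.card {R : Sylow p G // d • R = R} : ℂ) = indFun (NN x0) (fun _ => 1) d := by
  obtain ⟨P0, hP⟩ := exists_P0 D.toSC
  have h1 := H18.CharPerm.permChar_of_pretransitive (G := G) P0
  have h2 := congrFun h1 d
  have h3 : ∀ H : Subgroup G, H = NN x0 → indFun H (fun _ => 1) d = indFun (NN x0) (fun _ => 1) d := by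
    rintro H rfl
    rfl
  rw [h3 _ (stab_P0 hP)] at h2
  exact h2

theorem Dat.fr (D : Dat G p x0 a Y ε e n s w) : Fr G p e n := by
  classical
  let _ : Fintype (NN x0) := Fintype.ofFinite _
  have h := D.toSC
  obtain ⟨P0, hP⟩ := exists_P0 h
  have hmem : ∀ x : G, x ∈ P0 ↔ x ∈ Subgroup.zpowers x0 := fun x => by rw [← hP]; rfl
  have hconj : ∀ (g x : G), x ∈ g • P0 ↔ g⁻¹ * x * g ∈ P0 := by
    intro g x
    have h1 : x ∈ g • P0 ↔ x ∈ ((g • P0 : Sylow p G) : Subgroup G) := Iff.rfl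
    rw [h1, Sylow.coe_subgroup_smul, Subgroup.mem_pointwise_smul_iff_inv_smul_mem]
    have h2 : (MulAut.conj g)⁻¹ • x = g⁻¹ * x * g := by simp [MulAut.smul_def]
    rw [h2]
    rfl
  refine ⟨D.he2, D.hn1, h.hcard, h.hsyl, ?_, ?_, ?_, ?_⟩
  · intro Q
    have h1 : Nat.card (P0 : Subgroup G) = p := by rw [hP]; exact card_zp h.hx0
    have h2 := Q.card_eq_multiplicity
    rw [← P0.card_eq_multiplicity] at h2
    exact h2.trans h1
  · intro Q x hx hx1
    obtain ⟨g, rfl⟩ := MulAction.exists_smul_eq G P0 Q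
    rw [hconj] at hx
    obtain ⟨k, hk⟩ := mem_zpowers_pw h.hx0 ((hmem _).1 hx)
    have hk0 : k ≠ 0 := by
      rintro rfl
      apply hx1
      rw [pw_zero] at hk
      have : x = g * (g⁻¹ * x * g) * g⁻¹ := by group
      rw [this, ← hk]
      group
    intro y hy
    rw [Subgroup.mem_centralizer_singleton_iff] at hy
    have h3 : g⁻¹ * y * g ∈ Subgroup.centralizer ({pw x0 k} : Set G) := by
      rw [Subgroup.mem_centralizer_singleton_iff, hk]
      have : g⁻¹ * y * g * (g⁻¹ * x * g) = g⁻¹ * (y * x) * g := by group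
      rw [this, hy]
      group
    rw [centralizer_pw_eq h.hx0 h.hcen hk0, ← hmem, ← hconj] at h3
    exact h3
  · intro Q
    obtain ⟨g, rfl⟩ := MulAction.exists_smul_eq G P0 Q
    have h1 : Nat.card (MulAction.stabilizer G P0) = p * e := by
      rw [stab_P0 hP]; exact h.hcardN
    rw [← smul_stab, ← h1]
    exact Nat.card_congr (Subgroup.equivSMul (MulAut.conj g) _).symm.toEquiv
  · intro Q d hd hdQ
    obtain ⟨g, rfl⟩ := MulAction.exists_smul_eq G P0 Q
    rw [hconj, hmem] at hdQ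
    have hd' : g⁻¹ * d * g ∈ NN x0 := by
      rw [← stab_P0 hP, MulAction.mem_stabilizer_iff]
      rw [MulAction.mem_stabilizer_iff] at hd
      rw [mul_smul, mul_smul, hd, inv_smul_smul]
    have h1 := (mult_data D).2.2.2 _ hd' hdQ
    have h2 := isClassFunction_indFun (NN x0) (fun _ => (1 : ℂ)) (g⁻¹ * d * g) g
    have h3 : g * (g⁻¹ * d * g) * g⁻¹ = d := by group
    rw [h3, h1, ← D.fix_eq] at h2
    exact_mod_cast h2

/-- number of fixed points -/
theorem Dat.succ_dvd_pred (D : Dat G p x0 a Y ε e n s w) (h : n + 1 < p) : n + 1 ∣ p - 1 :=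
  D.fr.succ_dvd_pred h

end H21.SelfC
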